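import Cfsg.Agent.Lib.PLocal.Thompson

/-!
`Cfsg.omegaOne` and centres of Thompson subgroups (namespace `Cfsg.Agent.PLocal`).

* `omegaOne_le`, `mem_omegaOne`, `omegaOne_mono`, `omegaOne_elemAb`, `omegaOne_ne_bot`, `map_omegaOne`
* `mem_of_le_sInf...`: `sInf_maxIn_elemAb` (the intersection is `Ω₁(C(J))`), `sInf_maxIn_abelian`
-/

namespace Cfsg.Agent.PLocal

variable {G : Type*} [Group G] {p : ℕ}

theorem omegaOne_le (H : Subgroup G) : Cfsg.omegaOne p H ≤ H :=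
  (Subgroup.closure_le H).2 fun _ hx => hx.1

theorem mem_omegaOne {H : Subgroup G} {x : G} (hx : x ∈ H) (hp : x ^ p = 1) : x ∈ Cfsg.omegaOne p H :=
  Subgroup.subset_closure ⟨hx, hp⟩

theorem omegaOne_mono {H K : Subgroup G} (h : H ≤ K) : Cfsg.omegaOne p H ≤ Cfsg.omegaOne p K :=
  Subgroup.closure_mono fun _ hx => ⟨h hx.1, hx.2⟩

theorem omegaOne_elemAb {H : Subgroup G} (h : H ≤ Subgroup.centralizer (H : Set G)) :
    Cfsg.IsElementaryAbelian p (Cfsg.omegaOne p H) :=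
  elemAb_closure (fun _ hx _ hy => commute_of_le_centralizer h hx.1 hy.1) fun _ hx => hx.2

theorem elemAb_le_omegaOne {A H : Subgroup G} (hA : Cfsg.IsElementaryAbelian p A) (h : A ≤ H) :
    A ≤ Cfsg.omegaOne p H :=
  fun a ha => mem_omegaOne (h ha) (hA.2 a ha)

theorem omegaOne_ne_bot [Finite G] [Fact p.Prime] {H : Subgroup G} (h : p ∣ Nat.card H) :
    Cfsg.omegaOne p H ≠ ⊥ := by
  obtain ⟨x, hx⟩ := exists_prime_orderOf_dvd_card' p h
  intro e
  have hp : x ^ p = 1 := hx ▸ pow_orderOf_eq_one x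
  have : (x : G) ∈ Cfsg.omegaOne p H := mem_omegaOne x.2 (by
    rw [← Subgroup.coe_pow, hp, Subgroup.coe_one])
  rw [e, Subgroup.mem_bot, OneMemClass.coe_eq_one] at this
  rw [this, orderOf_one] at hx
  exact (Fact.out : p.Prime).one_lt.ne hx

theorem map_omegaOne {G' : Type*} [Group G'] (f : G →* G') {H : Subgroup G} (hf : Set.InjOn f H) :
    (Cfsg.omegaOne p H).map f = Cfsg.omegaOne p (H.map f) := by
  rw [Cfsg.omegaOne, Cfsg.omegaOne, MonoidHom.map_closure]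
  congr 1
  ext y
  constructor
  · rintro ⟨x, ⟨hx, hp⟩, rfl⟩
    exact ⟨⟨x, hx, rfl⟩, by rw [← map_pow, hp, map_one]⟩
  · rintro ⟨⟨x, hx, rfl⟩, hp⟩
    exact ⟨x, ⟨hx, hf (H.pow_mem hx p) H.one_mem (by rw [map_pow, hp, map_one])⟩, rfl⟩

theorem map_centralizer_inf {G' : Type*} [Group G'] (f : G →* G') {H K : Subgroup G} (hf : Set.InjOn f H)
    (hK : K ≤ H) :
    (H ⊓ Subgroup.centralizer (K : Set G)).map f = H.map f ⊓ Subgroup.centralizer (K.map f : Set G') := by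
  refine le_antisymm ?_ ?_
  · rintro _ ⟨x, ⟨hx, hc⟩, rfl⟩
    refine ⟨⟨x, hx, rfl⟩, Subgroup.mem_centralizer_iff.2 ?_⟩
    rintro _ ⟨k, hk, rfl⟩
    rw [← map_mul, ← map_mul, Subgroup.mem_centralizer_iff.1 hc k hk]
  · rintro _ ⟨⟨x, hx, rfl⟩, hc⟩
    refine ⟨x, ⟨hx, Subgroup.mem_centralizer_iff.2 fun k hk =>
      hf (H.mul_mem (hK hk) hx) (H.mul_mem hx (hK hk)) ?_⟩, rfl⟩
    rw [map_mul, map_mul]
    exact Subgroup.mem_centralizer_iff.1 hc _ ⟨k, hk, rfl⟩

theorem sInf_maxIn_elemAb [Finite G] (H : Subgroup G) :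
    sInf (maxIn (elemAb p) H) =
      Cfsg.omegaOne p (H ⊓ Subgroup.centralizer ((sSup (maxIn (elemAb p) H) : Subgroup G) : Set G)) := by
  obtain ⟨A, hA⟩ := exists_maxIn (Q := elemAb p) elemAb_bot H
  refine le_antisymm (fun x hx => ?_) ((Subgroup.closure_le _).2 fun x hx => ?_)
  · have h : ∀ B ∈ maxIn (elemAb p) H, x ∈ B := Subgroup.mem_sInf.1 hx
    refine mem_omegaOne ⟨hA.1 (h A hA), ?_⟩ (hA.2.1.2 x (h A hA))
    rw [sSup_eq_iSup', centralizer_iSup]
    exact Subgroup.mem_iInf.2 fun B => elemAb_le_centralizer B.2.2.1 (h _ B.2)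
  · refine Subgroup.mem_sInf.2 fun B hB => mem_of_centralizes hB hx.1.1 hx.2 ?_
    exact Subgroup.centralizer_le (SetLike.coe_subset_coe.2 (le_sSup hB)) hx.1.2

theorem sInf_maxIn_elemAb_le_sSup [Finite G] (H : Subgroup G) :
    sInf (maxIn (elemAb p) H) ≤ sSup (maxIn (elemAb p) H) := by
  obtain ⟨A, hA⟩ := exists_maxIn (Q := elemAb p) elemAb_bot H
  exact (sInf_le hA).trans (le_sSup hA)

theorem sInf_maxIn_elemAb_eq_omegaOne_center [Finite G] (H : Subgroup G) :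
    sInf (maxIn (elemAb p) H) = Cfsg.omegaOne p
      (sSup (maxIn (elemAb p) H) ⊓ Subgroup.centralizer ((sSup (maxIn (elemAb p) H) : Subgroup G) : Set G)) := by
  have hJ : sSup (maxIn (elemAb p) H) ≤ H := sSup_le fun A hA => hA.1
  refine le_antisymm ?_ ((omegaOne_mono (inf_le_inf_right _ hJ)).trans (sInf_maxIn_elemAb H).ge)
  refine elemAb_le_omegaOne ?_ (le_inf (sInf_maxIn_elemAb_le_sSup H) ?_)
  · obtain ⟨A, hA⟩ := exists_maxIn (Q := elemAb p) elemAb_bot H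
    exact elemAb_mono hA.2.1 (sInf_le hA)
  · exact (sInf_maxIn_elemAb H).le.trans ((omegaOne_le _).trans inf_le_right)

theorem sInf_maxIn_abelian [Finite G] (H : Subgroup G) :
    sInf (maxIn abelian H) =
      sSup (maxIn abelian H) ⊓ Subgroup.centralizer ((sSup (maxIn abelian H) : Subgroup G) : Set G) := by
  obtain ⟨A, hA⟩ := exists_maxIn (Q := abelian) abelian_bot H
  refine le_antisymm (le_inf ((sInf_le hA).trans (le_sSup hA)) ?_) fun x hx => ?_
  · rw [sSup_eq_iSup', centralizer_iSup]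
    exact le_iInf fun B => (sInf_le B.2).trans (Subgroup.le_centralizer_iff_isMulCommutative.2 B.2.2.1)
  · have hxH : x ∈ H := (sSup_le fun B (hB : B ∈ maxIn abelian H) => hB.1) hx.1
    exact Subgroup.mem_sInf.2 fun B hB => mem_of_centralizes_abelian hB hxH
      (Subgroup.centralizer_le (SetLike.coe_subset_coe.2 (le_sSup hB)) hx.2)

end Cfsg.Agent.PLocal
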