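import Cfsg.Agent.Lib.PLocal.Thompson
import Cfsg.Agent.Lib.PLocal.Omega

/-!
Thompson-type subgroup functions and injective-on maps (namespace `Cfsg.Agent.PLocal`).

* `map_centerThompsonOf`, `map_centerThompsonAOf`, `map_inf_centralizer_self`
* `char_of_functorial`: a subgroup function commuting with such maps gives characteristic subgroups
* `exists_central_of_order_p`, `central_le_centerThompsonOf`, `central_le_centerThompsonAOf`
-/

namespace Cfsg.Agent.PLocal

universe u

variable {G : Type*} [Group G] {G' : Type*} [Group G'] {p : ℕ}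

theorem map_inf_centralizer_self (f : G →* G') {H : Subgroup G} (hf : Set.InjOn f H) :
    (H ⊓ Subgroup.centralizer (H : Set G)).map f = H.map f ⊓ Subgroup.centralizer (H.map f : Set G') :=
  map_centralizer_inf f hf le_rfl

theorem map_centerThompsonOf (f : G →* G') {H : Subgroup G} (hf : Set.InjOn f H) :
    (Cfsg.centerThompsonOf p H).map f = Cfsg.centerThompsonOf p (H.map f) := by
  unfold Cfsg.centerThompsonOf
  rw [map_inf_centralizer_self f (hf.mono (SetLike.coe_subset_coe.2 (thompsonSubgroupOf_le H))),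
    map_thompsonSubgroupOf f hf]

theorem map_centerThompsonAOf (f : G →* G') {H : Subgroup G} (hf : Set.InjOn f H) :
    (Cfsg.centerThompsonAOf H).map f = Cfsg.centerThompsonAOf (H.map f) := by
  unfold Cfsg.centerThompsonAOf
  rw [map_inf_centralizer_self f (hf.mono (SetLike.coe_subset_coe.2 (thompsonSubgroupAOf_le H))),
    map_thompsonSubgroupAOf f hf]

/-- A subgroup function commuting with maps injective on the argument, evaluated inside `H`. -/
theorem char_of_functorial (F : ∀ {X : Type u} [Group X], Subgroup X → Subgroup X)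
    (hF : ∀ {X Y : Type u} [Group X] [Group Y] (f : X →* Y) (K : Subgroup X), Set.InjOn f K →
      (F K).map f = F (K.map f)) {X : Type u} [Group X] (H : Subgroup X) :
    (F (⊤ : Subgroup H)).Characteristic ∧ (F (⊤ : Subgroup H)).map H.subtype = F H := by
  refine ⟨Subgroup.characteristic_iff_map_eq.2 fun e => ?_, ?_⟩
  · rw [hF _ _ e.injective.injOn, Subgroup.map_top_of_surjective _ e.surjective]
  · rw [hF _ _ H.subtype_injective.injOn, top_map_subtype]

theorem exists_central_of_order_p [Finite G] [Fact p.Prime] {H : Subgroup G} (hH : IsPGroup p H)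
    (hne : H ≠ ⊥) : ∃ z ∈ H ⊓ Subgroup.centralizer (H : Set G), z ≠ 1 ∧ z ^ p = 1 := by
  haveI : Nontrivial H := (Subgroup.nontrivial_iff_ne_bot H).2 hne
  haveI := hH.center_nontrivial
  obtain ⟨z, hz⟩ := exists_prime_orderOf_dvd_card' p
    ((hH.to_subgroup (Subgroup.center H)).card_eq_or_dvd.resolve_left Finite.one_lt_card.ne')
  refine ⟨((z : H) : G), ⟨(z : H).2, Subgroup.mem_centralizer_iff.2 fun h hh =>
    congrArg Subtype.val (Subgroup.mem_center_iff.1 z.2 ⟨h, hh⟩)⟩, fun e => ?_, ?_⟩
  · have h1 : z = 1 := Subtype.ext (Subtype.ext e)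
    rw [h1, orderOf_one] at hz
    exact (Fact.out : p.Prime).ne_one hz.symm
  · have h2 := pow_orderOf_eq_one z
    rw [hz] at h2
    exact congrArg (fun w : Subgroup.center H => ((w : H) : G)) h2

theorem central_le_centerThompsonOf [Finite G] {H : Subgroup G} {z : G}
    (hz : z ∈ H ⊓ Subgroup.centralizer (H : Set G)) (hzp : z ^ p = 1) : z ∈ Cfsg.centerThompsonOf p H := by
  obtain ⟨A, hA⟩ := exists_maxIn (Q := elemAb p) elemAb_bot H
  refine ⟨?_, Subgroup.centralizer_le (SetLike.coe_subset_coe.2 (thompsonSubgroupOf_le H)) hz.2⟩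
  rw [SetLike.mem_coe, thompsonSubgroupOf_eq]
  exact le_sSup hA (mem_of_centralizes hA hz.1 hzp (Subgroup.centralizer_le (SetLike.coe_subset_coe.2 hA.1) hz.2))

theorem central_le_centerThompsonAOf [Finite G] {H : Subgroup G} {z : G}
    (hz : z ∈ H ⊓ Subgroup.centralizer (H : Set G)) : z ∈ Cfsg.centerThompsonAOf H := by
  obtain ⟨A, hA⟩ := exists_maxIn (Q := abelian) abelian_bot H
  refine ⟨?_, Subgroup.centralizer_le (SetLike.coe_subset_coe.2 (thompsonSubgroupAOf_le H)) hz.2⟩
  rw [SetLike.mem_coe, thompsonSubgroupAOf_eq]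
  exact le_sSup hA
    (mem_of_centralizes_abelian hA hz.1 (Subgroup.centralizer_le (SetLike.coe_subset_coe.2 hA.1) hz.2))

end Cfsg.Agent.PLocal
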