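import Cfsg.Agent.EqLemmas
import Mathlib.GroupTheory.Nilpotent

/-!
Normalizers grow in `p`-groups (namespace `Cfsg.Agent.PLocal`).

* `normalizer_inf_of_lt`
-/

namespace Cfsg.Agent.PLocal

open Subgroup

variable {G : Type*} [Group G] {p : ℕ}

theorem normalizer_inf_of_lt [Finite G] [Fact p.Prime] {R T : Subgroup G} (hT : IsPGroup p T) (hRT : R < T) :
    R < normalizer (R : Set G) ⊓ T := by
  refine lt_of_le_of_ne (le_inf le_normalizer hRT.le) fun e => hRT.not_ge ?_
  haveI := hT.isNilpotent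
  have hnc := (Group.normalizerCondition_of_isNilpotent : NormalizerCondition T) (R.subgroupOf T)
    (lt_top_iff_ne_top.2 fun h => hRT.not_ge (subgroupOf_eq_top.1 h))
  obtain ⟨x, hx, hxR⟩ := SetLike.exists_of_lt hnc
  refine absurd (mem_subgroupOf.2 ?_) hxR
  rw [e]
  exact ⟨mem_normalizer_iff.2 fun y => ⟨fun hy => mem_subgroupOf.1
      ((mem_normalizer_iff.1 hx ⟨y, hRT.le hy⟩).1 hy),
    fun hy => by
      have hyT : y ∈ T := by simpa [mul_assoc] using T.mul_mem (T.mul_mem (T.inv_mem x.2) (hRT.le hy)) x.2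
      exact (mem_normalizer_iff.1 hx ⟨y, hyT⟩).2 (mem_subgroupOf.2 hy)⟩, x.2⟩

end Cfsg.Agent.PLocal
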