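import Cfsg.Agent.Lib.PLocal.Basic

/-!
`p`-groups and quadratic elements acting on abelian subgroups (namespace `Cfsg.Agent.PLocal`).

* `centralizer_normal_in` / `conj_mem`: conjugation inside a normalised subgroup
* `eq_bot_of_le_commutator_pgroup`: `W ≤ [W, A]`, `A` inducing a `p`-group on a `p`-group `V ⊇ W`, gives `W = ⊥`
* `commutator_le_centralizer_of_quadratic`, `pow_mem_centralizer_of_quadratic`
* `exists_sylow_mul_centralizer`
-/

namespace Cfsg.Agent.PLocal

open scoped commutatorElement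

variable {G : Type*} [Group G] {p : ℕ}

theorem conj_mem {V : Subgroup G} {a v : G} (ha : a ∈ Subgroup.normalizer (V : Set G)) (hv : v ∈ V) :
    a * v * a⁻¹ ∈ V := (Subgroup.mem_normalizer_iff.1 ha v).1 hv

theorem commutator_mem_left {V : Subgroup G} {a v : G} (ha : a ∈ Subgroup.normalizer (V : Set G)) (hv : v ∈ V) :
    ⁅v, a⁆ ∈ V := by
  rw [commutatorElement_def, mul_assoc, mul_assoc]
  exact V.mul_mem hv (by rw [← mul_assoc]; exact conj_mem ha (V.inv_mem hv))

theorem commutator_le_left_of_normalizes {V A : Subgroup G} (h : A ≤ Subgroup.normalizer (V : Set G)) :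
    ⁅V, A⁆ ≤ V := Subgroup.le_normalizer_iff_commutator_le_left.1 h

theorem normalizer_le_normalizer_centralizer (V : Subgroup G) :
    Subgroup.normalizer (V : Set G) ≤ Subgroup.normalizer (Subgroup.centralizer (V : Set G) : Set G) := by
  refine Subgroup.le_normalizer_iff.2 fun g hg c hc => Subgroup.mem_centralizer_iff.2 fun v hv => ?_
  have h1 := Subgroup.mem_centralizer_iff.1 hc _ (conj_mem (Subgroup.inv_mem _ hg) hv)
  rw [inv_inv] at h1
  calc v * (g * c * g⁻¹) = g * ((g⁻¹ * v * g) * c) * g⁻¹ := by group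
    _ = g * (c * (g⁻¹ * v * g)) * g⁻¹ := by rw [h1]
    _ = g * c * g⁻¹ * v := by group

/-- If every element of `A` acts on `V` as an element of `p`-power order, a Sylow `p`-subgroup of `A`
covers `A` modulo `C(V)`. -/
theorem exists_sylow_mul_centralizer [Finite G] [Fact p.Prime] {V A : Subgroup G}
    (hAV : A ≤ Subgroup.normalizer (V : Set G))
    (hp : ∀ a ∈ A, ∃ k : ℕ, a ^ p ^ k ∈ Subgroup.centralizer (V : Set G)) :
    ∃ P : Subgroup G, P ≤ A ∧ IsPGroup p P ∧ A ≤ (A ⊓ Subgroup.centralizer (V : Set G)) ⊔ P := by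
  set N : Subgroup A := (Subgroup.centralizer (V : Set G)).subgroupOf A
  haveI : N.Normal := by
    refine ⟨fun n hn a => ?_⟩
    rw [Subgroup.mem_subgroupOf] at hn ⊢
    exact (Subgroup.mem_normalizer_iff.1 (normalizer_le_normalizer_centralizer V (hAV a.2)) _).1 hn
  have hQ : IsPGroup p (A ⧸ N) := fun q => by
    obtain ⟨a, rfl⟩ := QuotientGroup.mk_surjective q
    obtain ⟨k, hk⟩ := hp a a.2
    exact ⟨k, (QuotientGroup.eq_one_iff (a ^ p ^ k)).2 (by simpa [N, Subgroup.mem_subgroupOf] using hk)⟩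
  let P : Sylow p A := default
  have htop : N ⊔ (P : Subgroup A) = ⊤ := by
    rw [← Subgroup.index_eq_one]
    obtain ⟨n, hn⟩ := IsPGroup.iff_card.1 hQ
    have h1 : (N ⊔ (P : Subgroup A)).index ∣ p ^ n := by
      rw [← hn, ← Subgroup.index_eq_card]; exact Subgroup.index_dvd_of_le le_sup_left
    have h2 : (N ⊔ (P : Subgroup A)).index ∣ (P : Subgroup A).index := Subgroup.index_dvd_of_le le_sup_right
    have h3 : (p ^ n).Coprime (P : Subgroup A).index :=
      ((Fact.out : p.Prime).coprime_iff_not_dvd.2 P.not_dvd_index).pow_left n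
    exact Nat.eq_one_of_dvd_coprimes h3 h1 h2
  refine ⟨(P : Subgroup A).map A.subtype, Subgroup.map_subtype_le _, P.isPGroup'.map _, fun a ha => ?_⟩
  have : (⟨a, ha⟩ : A) ∈ N ⊔ (P : Subgroup A) := htop ▸ Subgroup.mem_top _
  obtain ⟨x, hx, y, hy, hxy⟩ := Subgroup.mem_sup_of_normal_left.1 this
  have : (x : G) * y = a := by rw [← Subgroup.coe_mul, hxy]
  rw [← this]
  exact Subgroup.mul_mem_sup ⟨x.2, Subgroup.mem_subgroupOf.1 hx⟩ ⟨y, hy, rfl⟩

theorem commutatorElement_eq_of_centralizes {V : Subgroup G} {n x v : G}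
    (hn : n ∈ Subgroup.centralizer (V : Set G)) (hx : x ∈ Subgroup.normalizer (V : Set G)) (hv : v ∈ V) :
    ⁅v, n * x⁆ = ⁅v, x⁆ := by
  have h2 : n * (x * v⁻¹ * x⁻¹) * n⁻¹ = x * v⁻¹ * x⁻¹ := by
    rw [← Subgroup.mem_centralizer_iff.1 hn _ (conj_mem hx (V.inv_mem hv)), mul_inv_cancel_right]
  rw [commutatorElement_def, commutatorElement_def]
  calc v * (n * x) * v⁻¹ * (n * x)⁻¹ = v * (n * (x * v⁻¹ * x⁻¹) * n⁻¹) := by group
    _ = v * x * v⁻¹ * x⁻¹ := by rw [h2]; group

theorem commutator_eq_commutator_of_mul_centralizer {V W A P : Subgroup G} (hWV : W ≤ V)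
    (hAV : A ≤ Subgroup.normalizer (V : Set G)) (hP : P ≤ A)
    (hcov : A ≤ (A ⊓ Subgroup.centralizer (V : Set G)) ⊔ P) : ⁅W, A⁆ = ⁅W, P⁆ := by
  refine le_antisymm (Subgroup.commutator_le.2 fun w hw a ha => ?_) (Subgroup.commutator_mono le_rfl hP)
  have hN : P ≤ Subgroup.normalizer ((A ⊓ Subgroup.centralizer (V : Set G) : Subgroup G) : Set G) :=
    Subgroup.le_normalizer_iff.2 fun x hx c hc => ⟨A.mul_mem (A.mul_mem (hP hx) hc.1) (A.inv_mem (hP hx)),
      (Subgroup.mem_normalizer_iff.1 (normalizer_le_normalizer_centralizer V (hAV (hP hx))) _).1 hc.2⟩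
  have h := hcov ha
  rw [← SetLike.mem_coe, Subgroup.coe_mul_of_right_le_normalizer_left _ _ hN] at h
  obtain ⟨n, hn, x, hx, rfl⟩ := Set.mem_mul.1 h
  rw [commutatorElement_eq_of_centralizes hn.2 (hAV (hP hx)) (hWV hw)]
  exact Subgroup.commutator_mem_commutator hw hx

/-- A group inducing a `p`-group on the `p`-group `V` acts nilpotently on it. -/
theorem eq_bot_of_le_commutator_pgroup [Finite G] [Fact p.Prime] {V W A : Subgroup G} (hV : IsPGroup p V)
    (hAV : A ≤ Subgroup.normalizer (V : Set G))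
    (hp : ∀ a ∈ A, ∃ k : ℕ, a ^ p ^ k ∈ Subgroup.centralizer (V : Set G))
    (hWV : W ≤ V) (hW : W ≤ ⁅W, A⁆) : W = ⊥ := by
  obtain ⟨P, hPA, hP, hcov⟩ := exists_sylow_mul_centralizer hAV hp
  rw [commutator_eq_commutator_of_mul_centralizer hWV hAV hPA hcov] at hW
  haveI : Group.IsNilpotent ↥(V ⊔ P) := (hV.to_sup_of_normal_left' hP (hPA.trans hAV)).isNilpotent
  obtain ⟨n, hn⟩ := (Subgroup.isNilpotent_iff_lowerCentralSeries (V ⊔ P)).1 inferInstance
  have : ∀ k, W ≤ (V ⊔ P).lowerCentralSeries k := by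
    intro k
    induction k with
    | zero => exact hWV.trans le_sup_left
    | succ k ih => exact hW.trans (Subgroup.commutator_mono ih le_sup_right)
  exact le_bot_iff.1 (hn ▸ this n)

/-- Quadratic action: `[H, H]` centralises `V`. -/
theorem commutator_le_centralizer_of_quadratic {V H : Subgroup G} (hq : ⁅⁅V, H⁆, H⁆ = ⊥) :
    ⁅H, H⁆ ≤ Subgroup.centralizer (V : Set G) :=
  Subgroup.commutator_eq_bot_iff_le_centralizer.1
    (Subgroup.commutator_commutator_eq_bot_of_rotate (by rwa [Subgroup.commutator_comm H V]) hq)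

theorem conj_pow_eq {v a w : G} (hw : w = a * v * a⁻¹ * v⁻¹) (hc : a * w = w * a) :
    ∀ n : ℕ, a ^ n * v * (a ^ n)⁻¹ = w ^ n * v := by
  intro n
  induction n with
  | zero => simp
  | succ n ih =>
    have h1 : a * v * a⁻¹ = w * v := by rw [hw]; group
    have h2 : a * w ^ n = w ^ n * a := (Commute.pow_right hc n)
    calc a ^ (n + 1) * v * (a ^ (n + 1))⁻¹ = a * (a ^ n * v * (a ^ n)⁻¹) * a⁻¹ := by
          rw [pow_succ']; group
      _ = a * (w ^ n * v) * a⁻¹ := by rw [ih]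
      _ = w ^ n * (a * v * a⁻¹) := by rw [← mul_assoc, h2]; group
      _ = w ^ (n + 1) * v := by rw [h1, pow_succ]; group

/-- A quadratically acting element has order dividing `p` on `V` when `V` has exponent `p`. -/
theorem pow_mem_centralizer_of_quadratic {V H : Subgroup G} (hHV : H ≤ Subgroup.normalizer (V : Set G))
    (hVp : ∀ v ∈ V, v ^ p = 1) (hq : ⁅⁅V, H⁆, H⁆ = ⊥) {a : G} (ha : a ∈ H) :
    a ^ p ∈ Subgroup.centralizer (V : Set G) := by
  refine Subgroup.mem_centralizer_iff.2 fun v hv => ?_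
  set w := a * v * a⁻¹ * v⁻¹
  have hwmem : w ∈ ⁅V, H⁆ := Subgroup.commutator_comm H V ▸ Subgroup.commutator_mem_commutator ha hv
  have hc : a * w = w * a :=
    (commute_of_le_centralizer (Subgroup.commutator_eq_bot_iff_le_centralizer.1 hq) hwmem ha).symm
  have hwp : w ^ p = 1 := hVp w (commutator_le_left_of_normalizes hHV hwmem)
  have := conj_pow_eq (v := v) (w := w) rfl hc p
  rw [hwp, one_mul, mul_inv_eq_iff_eq_mul] at this
  exact this.symm

end Cfsg.Agent.PLocal
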