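import Cfsg.Agent.Lib.PLocal.Omega
import Cfsg.Agent.Lib.PLocal.Action

/-!
Normalizers and centralizers modulo a normal `p'`-subgroup (namespace `Cfsg.Agent.PLocal`).

For a surjective `f : G →* G'` whose kernel has order prime to `p` and a `p`-subgroup `P`:
* `injOn_of_pGroup`, `normalizer_map_eq`, `centralizer_map_eq`
* `exists_conj_of_pGroup_le`: Sylow conjugacy inside `ker f ⊔ P`
-/

namespace Cfsg.Agent.PLocal

variable {G : Type*} [Group G] {G' : Type*} [Group G'] {p : ℕ} [Fact p.Prime]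

theorem injOn_of_pGroup [Finite G] (f : G →* G') (hker : (Nat.card f.ker).Coprime p) {P : Subgroup G}
    (hP : IsPGroup p P) : Set.InjOn f P := by
  intro x hx y hy h
  obtain ⟨n, hn⟩ := IsPGroup.iff_card.1 hP
  have hd : f.ker ⊓ P = ⊥ := Subgroup.inf_eq_bot_of_coprime (by rw [hn]; exact hker.pow_right n)
  have : x⁻¹ * y ∈ f.ker ⊓ P :=
    ⟨MonoidHom.mem_ker.2 (by rw [map_mul, map_inv, h, inv_mul_cancel]), P.mul_mem (P.inv_mem hx) hy⟩
  rw [hd, Subgroup.mem_bot, inv_mul_eq_one] at this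
  exact this

/-- A conjugate of `P` inside `ker f ⊔ P` is conjugate to it by an element of `ker f`. -/
theorem exists_conj_of_pGroup_le [Finite G] {K : Subgroup G} [K.Normal] (hK : (Nat.card K).Coprime p)
    {P : Subgroup G} (hP : IsPGroup p P) {g : G} (hg : P.map (MulAut.conj g).toMonoidHom ≤ K ⊔ P) :
    ∃ k ∈ K, P.map (MulAut.conj g).toMonoidHom = P.map (MulAut.conj k).toMonoidHom := by
  set M := K ⊔ P
  have hKP : K ⊓ P = ⊥ := by
    obtain ⟨n, hn⟩ := IsPGroup.iff_card.1 hP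
    exact Subgroup.inf_eq_bot_of_coprime (by rw [hn]; exact hK.pow_right n)
  have hM : Nat.card M = Nat.card K * Nat.card P := by
    have := card_sup_mul_card_inf (H := K) (K := P) Subgroup.le_normalizer_of_normal
    rwa [hKP, Subgroup.card_bot, mul_one] at this
  have hidx : ∀ Q : Subgroup G, Q ≤ M → Nat.card Q = Nat.card P → ¬ p ∣ (Q.subgroupOf M).index := by
    intro Q hQM hQ
    have h1 := Subgroup.card_mul_index (Q.subgroupOf M)
    rw [Nat.card_congr (Subgroup.subgroupOfEquivOfLe hQM).toEquiv, hQ, hM, mul_comm (Nat.card K)] at h1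
    rw [Nat.eq_of_mul_eq_mul_left Nat.card_pos h1]
    exact (Fact.out : p.Prime).coprime_iff_not_dvd.1 hK.symm
  set Q := P.map (MulAut.conj g).toMonoidHom
  have hQP : Nat.card Q = Nat.card P := Subgroup.card_map_of_injective (MulAut.conj g).injective
  let S1 : Sylow p M := (hP.comap_subtype (K := M)).toSylow (hidx P le_sup_right rfl)
  let S2 : Sylow p M := ((hP.map _).comap_subtype (K := M)).toSylow (hidx Q hg hQP)
  obtain ⟨⟨m, hm⟩, hmS⟩ := MulAction.exists_smul_eq M S1 S2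
  obtain ⟨k, hk, x, hx, rfl⟩ := Subgroup.mem_sup_of_normal_left.1 hm
  refine ⟨k, hk, (eq_of_le_of_card_le ?_ ?_).symm⟩
  · rintro _ ⟨y, hy, rfl⟩
    have hy' : x⁻¹ * y * x ∈ P := P.mul_mem (P.mul_mem (P.inv_mem hx) hy) hx
    have h1 : (⟨k * x, hm⟩ : M) * ⟨x⁻¹ * y * x, le_sup_right (a := K) hy'⟩ * (⟨k * x, hm⟩ : M)⁻¹
        ∈ (S2 : Subgroup M) := by
      rw [← hmS, Sylow.coe_subgroup_smul]
      exact ⟨⟨x⁻¹ * y * x, le_sup_right (a := K) hy'⟩, hy', rfl⟩
    have h2 : k * x * (x⁻¹ * y * x) * (k * x)⁻¹ ∈ Q := h1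
    show k * y * k⁻¹ ∈ Q
    have e : k * x * (x⁻¹ * y * x) * (k * x)⁻¹ = k * y * k⁻¹ := by group
    rwa [e] at h2
  · rw [hQP]
    exact (Subgroup.card_map_of_injective (MulAut.conj k).injective).ge

theorem normalizer_map_eq [Finite G] (f : G →* G') (hf : Function.Surjective f)
    (hker : (Nat.card f.ker).Coprime p) {P : Subgroup G} (hP : IsPGroup p P) :
    Subgroup.normalizer (P.map f : Set G') = (Subgroup.normalizer (P : Set G)).map f := by
  refine le_antisymm (fun y hy => ?_) (Subgroup.le_normalizer_map f)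
  obtain ⟨g, rfl⟩ := hf y
  have hle : P.map (MulAut.conj g).toMonoidHom ≤ f.ker ⊔ P := by
    rintro _ ⟨x, hx, rfl⟩
    rw [sup_comm, ← Subgroup.comap_map_eq]
    refine Subgroup.mem_comap.2 ?_
    show f (g * x * g⁻¹) ∈ P.map f
    rw [map_mul, map_mul, map_inv]
    exact conj_mem hy ⟨x, hx, rfl⟩
  obtain ⟨k, hk, hkP⟩ := exists_conj_of_pGroup_le hker hP hle
  refine ⟨k⁻¹ * g, mem_normalizer_iff_map_eq.2 ?_, by rw [map_mul, map_inv, MonoidHom.mem_ker.1 hk, inv_one, one_mul]⟩
  have e : ∀ a b : G, (MulAut.conj (a * b)).toMonoidHom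
      = (MulAut.conj a).toMonoidHom.comp (MulAut.conj b).toMonoidHom := fun a b => by ext; simp [mul_assoc]
  rw [e, ← Subgroup.map_map, hkP, Subgroup.map_map, ← e, inv_mul_cancel, map_one]
  exact Subgroup.map_id P

theorem centralizer_map_eq [Finite G] (f : G →* G') (hf : Function.Surjective f)
    (hker : (Nat.card f.ker).Coprime p) {P : Subgroup G} (hP : IsPGroup p P) :
    Subgroup.centralizer (P.map f : Set G') = (Subgroup.centralizer (P : Set G)).map f := by
  refine le_antisymm (fun y hy => ?_) ?_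
  · have h1 : y ∈ (Subgroup.normalizer (P : Set G)).map f :=
      normalizer_map_eq f hf hker hP ▸ Subgroup.centralizer_le_normalizer _ hy
    obtain ⟨g, hg, rfl⟩ := h1
    refine ⟨g, Subgroup.mem_centralizer_iff.2 fun x hx => ?_, rfl⟩
    have h2 := Subgroup.mem_centralizer_iff.1 hy (f x) ⟨x, hx, rfl⟩
    have h3 : g * x * g⁻¹ = x := injOn_of_pGroup f hker hP (conj_mem hg hx) hx (by
      rw [map_mul, map_mul, map_inv, ← h2, mul_inv_cancel_right])
    exact (mul_inv_eq_iff_eq_mul.1 h3).symm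
  · exact Subgroup.map_centralizer_le_centralizer_image _ f

end Cfsg.Agent.PLocal
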