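import Cfsg.Agent.Lib.Cores.Subnormal
import Cfsg.Agent.Lib.PLocal.Quotient
import Cfsg.Agent.Lib.PLocal.Grows
import Cfsg.Agent.Lib.PLocal.Functor
import Cfsg.Agent.Lib.Transfer.Criteria

/-!
Glauberman's reduction for subgroup functors (namespace `Cfsg.Agent.PLocal`).

* `GoodFunctor p F`: `F` picks a nontrivial functorial subgroup of a `p`-subgroup
* `Realized M Q g`: conjugation by `g` agrees on `Q` with some element of `M`
* `functor_control`: if `F (S)` is normal in the constrained members of a class closed under subgroups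
  and quotients, then `N(F (S))` induces every conjugation inside `S` in every member of the class
-/

namespace Cfsg.Agent.PLocal

open Subgroup
open scoped commutatorElement

universe u

variable {p : ℕ}

/-- A functorial nontrivial subgroup of each finite `p`-subgroup. -/
structure GoodFunctor (p : ℕ) (F : ∀ (X : Type u) [Group X], Subgroup X → Subgroup X) : Prop where
  le : ∀ {X : Type u} [Group X] [Finite X] {H : Subgroup X}, IsPGroup p H → F X H ≤ H
  map : ∀ {X Y : Type u} [Group X] [Group Y] [Finite X] (f : X →* Y) {H : Subgroup X}, IsPGroup p H →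
    Set.InjOn f H → (F X H).map f = F Y (H.map f)
  ne_bot : ∀ {X : Type u} [Group X] [Finite X] {H : Subgroup X}, IsPGroup p H → H ≠ ⊥ → F X H ≠ ⊥

/-- Conjugation by `g` agrees on `Q` with conjugation by an element of `M`. -/
def Realized {G : Type u} [Group G] (M Q : Subgroup G) (g : G) : Prop :=
  ∃ m ∈ M, ∀ q ∈ Q, m * q * m⁻¹ = g * q * g⁻¹

section
variable {G : Type u} [Group G]

theorem Realized.mono {M M' Q Q' : Subgroup G} {g : G} (h : Realized M Q g) (hM : M ≤ M') (hQ : Q' ≤ Q) :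
    Realized M' Q' g :=
  h.imp fun _ hm => ⟨hM hm.1, fun q hq => hm.2 q (hQ hq)⟩

theorem map_conj_congr {Q : Subgroup G} {m g : G} (h : ∀ q ∈ Q, m * q * m⁻¹ = g * q * g⁻¹) :
    Q.map (MulAut.conj m).toMonoidHom = Q.map (MulAut.conj g).toMonoidHom := by
  ext x
  constructor
  · rintro ⟨q, hq, rfl⟩; exact ⟨q, hq, (h q hq).symm⟩
  · rintro ⟨q, hq, rfl⟩; exact ⟨q, hq, h q hq⟩

theorem Realized.trans {M Q : Subgroup G} {a b : G} (h1 : Realized M Q a)
    (h2 : Realized M (Q.map (MulAut.conj a).toMonoidHom) b) : Realized M Q (b * a) := by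
  obtain ⟨m1, hm1, e1⟩ := h1
  obtain ⟨m2, hm2, e2⟩ := h2
  refine ⟨m2 * m1, M.mul_mem hm2 hm1, fun q hq => ?_⟩
  have h3 := e2 (a * q * a⁻¹) ⟨q, hq, rfl⟩
  rw [show m2 * m1 * q * (m2 * m1)⁻¹ = m2 * (m1 * q * m1⁻¹) * m2⁻¹ by group, e1 q hq, h3]
  group

end

variable {G : Type u} [Group G] [Finite G] [Fact p.Prime]
variable {F : ∀ (X : Type u) [Group X], Subgroup X → Subgroup X}

theorem GoodFunctor.normalizer_le (hF : GoodFunctor p F) {H : Subgroup G} (hH : IsPGroup p H) :
    normalizer (H : Set G) ≤ normalizer (F G H : Set G) := fun x hx => by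
  rw [mem_normalizer_iff_map_eq, hF.map _ hH (MulAut.conj x).injective.injOn,
    mem_normalizer_iff_map_eq.1 hx]

/-- Inside a normal `C`, a conjugate of `Q` may be moved back into `P` without leaving `M`. -/
theorem exists_adjust (P : Sylow p G) {C M Q : Subgroup G} [C.Normal] (hPM : (P : Subgroup G) ≤ M)
    (hQP : Q ≤ (P : Subgroup G)) {c n : G} (hc : c ∈ C) (hn : n ∈ M)
    (h : Q.map (MulAut.conj (c * n)).toMonoidHom ≤ (P : Subgroup G)) :
    ∃ c' ∈ C, c' * n ∈ M ∧ Q.map (MulAut.conj (c' * n)).toMonoidHom ≤ (P : Subgroup G) := by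
  set L := ((P : Subgroup G) ⊔ C) ⊓ M
  have hPL : (P : Subgroup G) ≤ L := le_inf le_sup_left hPM
  have hQL : Q.map (MulAut.conj n).toMonoidHom ≤ L := by
    rintro _ ⟨q, hq, rfl⟩
    refine ⟨?_, M.mul_mem (M.mul_mem hn (hPM (hQP hq))) (M.inv_mem hn)⟩
    have h1 : c * n * q * (c * n)⁻¹ ∈ (P : Subgroup G) := h ⟨q, hq, rfl⟩
    have h2 : c⁻¹ * (c * n * q * (c * n)⁻¹) * c ∈ (P : Subgroup G) ⊔ C :=
      mul_mem (mul_mem (mem_sup_right (C.inv_mem hc)) (mem_sup_left h1)) (mem_sup_right hc)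
    have e : c⁻¹ * (c * n * q * (c * n)⁻¹) * c = n * q * n⁻¹ := by group
    show n * q * n⁻¹ ∈ _
    exact e ▸ h2
  obtain ⟨S, hS⟩ := (((P.2.to_le hQP).map (MulAut.conj n).toMonoidHom).of_equiv
    (subgroupOfEquivOfLe hQL).symm).exists_le_sylow
  obtain ⟨⟨l, hl⟩, hlS⟩ := MulAction.exists_smul_eq L S (P.subtype hPL)
  obtain ⟨s, hs, c', hc', rfl⟩ := mem_sup_of_normal_right.1 hl.1
  refine ⟨c', hc', M.mul_mem ?_ hn, ?_⟩
  · simpa using M.mul_mem (M.inv_mem (hPM hs)) hl.2
  rintro _ ⟨q, hq, rfl⟩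
  have h3 : (⟨s * c', hl⟩ : L) * ⟨n * q * n⁻¹, hQL ⟨q, hq, rfl⟩⟩ * (⟨s * c', hl⟩ : L)⁻¹
      ∈ (P.subtype hPL : Subgroup L) := by
    rw [← hlS, Sylow.coe_subgroup_smul]
    exact ⟨⟨n * q * n⁻¹, hQL ⟨q, hq, rfl⟩⟩, hS (mem_subgroupOf.2 ⟨q, hq, rfl⟩), rfl⟩
  have h4 : s * c' * (n * q * n⁻¹) * (s * c')⁻¹ ∈ (P : Subgroup G) := h3
  have h5 := (P : Subgroup G).mul_mem ((P : Subgroup G).mul_mem ((P : Subgroup G).inv_mem hs) h4) hs
  have e : s⁻¹ * (s * c' * (n * q * n⁻¹) * (s * c')⁻¹) * s = c' * n * q * (c' * n)⁻¹ := by group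
  show c' * n * q * (c' * n)⁻¹ ∈ _
  exact e ▸ h5

/-- The case of trivial `p`-core, given control in proper subgroups. -/
theorem control_of_pCore_eq_bot (hF : GoodFunctor p F) (P : Sylow p G) (hR : Cfsg.pCore p G = ⊥)
    (sub : ∀ M : Subgroup G, M ≠ ⊤ → ∀ T : Subgroup G, T ≤ M → IsPGroup p T → ¬ p ∣ T.relIndex M →
      ∀ Q ≤ T, ∀ g ∈ M, Q.map (MulAut.conj g).toMonoidHom ≤ T →
        Realized (M ⊓ normalizer (F G T : Set G)) Q g)
    {Q : Subgroup G} (hQ : Q ≤ (P : Subgroup G)) {g : G}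
    (hg : Q.map (MulAut.conj g).toMonoidHom ≤ (P : Subgroup G)) :
    Realized (normalizer (F G (P : Subgroup G) : Set G)) Q g := by
  set NZ := normalizer (F G (P : Subgroup G) : Set G)
  obtain ⟨d, hd⟩ : ∃ d, d = Nat.card (P : Subgroup G) - Nat.card Q := ⟨_, rfl⟩
  induction d using Nat.strong_induction_on generalizing Q g with
  | _ d IH =>
  subst hd
  have big : ∀ Q' : Subgroup G, Q' ≤ (P : Subgroup G) → Nat.card Q < Nat.card Q' → ∀ g' : G,
      Q'.map (MulAut.conj g').toMonoidHom ≤ (P : Subgroup G) → Realized NZ Q' g' := by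
    intro Q' h1 h2 g' h3
    refine IH _ ?_ h1 h3 rfl
    have := card_le_of_le h1
    omega
  have inner : ∀ e : ℕ, ∀ X : Subgroup G, X ≤ (P : Subgroup G) → X ≠ ⊥ →
      Nat.card Q < Nat.card ↥((P : Subgroup G) ⊓ normalizer (X : Set G)) →
      Nat.card (P : Subgroup G) - Nat.card ↥((P : Subgroup G) ⊓ normalizer (X : Set G)) = e →
      ∀ h ∈ normalizer (X : Set G), ∀ Q' ≤ (P : Subgroup G) ⊓ normalizer (X : Set G),
        Q'.map (MulAut.conj h).toMonoidHom ≤ (P : Subgroup G) ⊓ normalizer (X : Set G) → Realized NZ Q' h := by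
    intro e
    induction e using Nat.strong_induction_on with
    | _ e ih =>
    intro X hXP hXne hlt he h hh Q' hQ' hQ'h
    subst he
    set H := normalizer (X : Set G)
    set T := (P : Subgroup G) ⊓ H
    have hTp : IsPGroup p T := P.2.to_le inf_le_left
    have hH : H ≠ ⊤ := fun e => hXne (le_bot_iff.1 (hR ▸ Cores.le_pCore (normalizer_eq_top_iff.1 e) (P.2.to_le hXP)))
    by_cases hsyl : ¬ p ∣ T.relIndex H
    · obtain ⟨m, hm, hmq⟩ := sub H hH T inf_le_right hTp hsyl Q' hQ' h hh hQ'h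
      by_cases hTP : T = (P : Subgroup G)
      · rw [hTP] at hm
        exact ⟨m, hm.2, hmq⟩
      set X' := F G T
      have hTne : T ≠ ⊥ := ne_bot_of_le_ne_bot hXne (le_inf hXP le_normalizer)
      have hX'ne : X' ≠ ⊥ := hF.ne_bot hTp hTne
      have hX'T : X' ≤ T := hF.le hTp
      have hlt' : T < (P : Subgroup G) ⊓ normalizer (X' : Set G) :=
        lt_of_lt_of_le (normalizer_inf_of_lt P.2 (lt_of_le_of_ne inf_le_left hTP))
          (le_inf inf_le_right (inf_le_left.trans (hF.normalizer_le hTp)))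
      have hc : Nat.card T < Nat.card ↥((P : Subgroup G) ⊓ normalizer (X' : Set G)) :=
        lt_of_le_of_ne (card_le_of_le hlt'.le) fun e => hlt'.ne (eq_of_le_of_card_le hlt'.le e.ge)
      have := ih _ (by
          have h2 := card_le_of_le (inf_le_left : (P : Subgroup G) ⊓ normalizer (X' : Set G) ≤ (P : Subgroup G))
          omega)
        X' (hX'T.trans inf_le_left) hX'ne (hlt.trans hc) rfl m hm.2 Q' (hQ'.trans hlt'.le)
        ((map_conj_congr hmq).le.trans (hQ'h.trans hlt'.le))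
      obtain ⟨m', hm', hmq'⟩ := this
      exact ⟨m', hm', fun q hq => (hmq' q hq).trans (hmq q hq)⟩
    · push Not at hsyl
      obtain ⟨S, hS⟩ := (hTp.of_equiv (subgroupOfEquivOfLe (inf_le_right : T ≤ H)).symm).exists_le_sylow
      set S' := (S : Subgroup H).map H.subtype
      have hTS : T ≤ S' := fun t ht => ⟨⟨t, ht.2⟩, hS (mem_subgroupOf.2 ht), rfl⟩
      have hTlt : T < S' := by
        refine lt_of_le_of_ne hTS fun e => S.not_dvd_index ?_
        have h1 : T.subgroupOf H = (S : Subgroup H) := by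
          rw [e]; exact comap_map_eq_self_of_injective H.subtype_injective _
        rw [← h1]
        exact hsyl
      obtain ⟨S1, hS1⟩ := (S.2.map H.subtype).exists_le_sylow
      obtain ⟨k, hk⟩ := MulAction.exists_smul_eq G S1 P
      have hkP : S'.map (MulAut.conj k).toMonoidHom ≤ (P : Subgroup G) := by
        rw [← hk, Sylow.coe_subgroup_smul]; exact map_mono hS1
      obtain ⟨z, hz, hzq⟩ := big T inf_le_left hlt k ((map_mono hTS).trans hkP)
      set cz := (MulAut.conj z).toMonoidHom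
      have hXT : X ≤ T := le_inf hXP le_normalizer
      have hXeq : X.map cz = X.map (MulAut.conj k).toMonoidHom := map_conj_congr fun q hq => hzq q (hXT hq)
      have hTle : T.map cz ≤ (P : Subgroup G) ⊓ normalizer (X.map cz : Set G) := by
        refine le_inf ((map_conj_congr hzq).le.trans ((map_mono hTS).trans hkP)) ?_
        exact (map_mono inf_le_right).trans (le_normalizer_map cz)
      have hbig : Nat.card T < Nat.card ↥((P : Subgroup G) ⊓ normalizer (X.map cz : Set G)) := by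
        have h1 : S'.map (MulAut.conj k).toMonoidHom ≤ (P : Subgroup G) ⊓ normalizer (X.map cz : Set G) := by
          refine le_inf hkP ?_
          rw [hXeq]
          exact (map_mono (map_subtype_le _)).trans (le_normalizer_map _)
        refine lt_of_lt_of_le ?_ (card_le_of_le h1)
        rw [card_map_of_injective (MulAut.conj k).injective]
        exact lt_of_le_of_ne (card_le_of_le hTS) fun e => hTlt.ne (eq_of_le_of_card_le hTS e.ge)
      obtain ⟨m, hm, hmq⟩ := ih _ (by
          have h2 := card_le_of_le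
            (inf_le_left : (P : Subgroup G) ⊓ normalizer (X.map cz : Set G) ≤ (P : Subgroup G))
          omega)
        (X.map cz) ((map_mono hXT).trans (hTle.trans inf_le_left))
        (fun e => hXne ((map_eq_bot_iff_of_injective _ (MulAut.conj z).injective).1 e))
        (hlt.trans hbig) rfl (z * h * z⁻¹) (le_normalizer_map cz ⟨h, hh, rfl⟩) (Q'.map cz)
        ((map_mono hQ').trans hTle) (by
          rintro _ ⟨_, ⟨q, hq, rfl⟩, rfl⟩
          refine hTle ⟨h * q * h⁻¹, hQ'h ⟨q, hq, rfl⟩, ?_⟩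
          simp [cz, mul_assoc])
      refine ⟨z⁻¹ * m * z, mul_mem (mul_mem (inv_mem hz) hm) hz, fun q hq => ?_⟩
      have h6 : m * (z * q * z⁻¹) * m⁻¹ = z * h * z⁻¹ * (z * q * z⁻¹) * (z * h * z⁻¹)⁻¹ := hmq _ ⟨q, hq, rfl⟩
      calc z⁻¹ * m * z * q * (z⁻¹ * m * z)⁻¹ = z⁻¹ * (m * (z * q * z⁻¹) * m⁻¹) * z := by group
        _ = h * q * h⁻¹ := by rw [h6]; group
  refine Transfer.fusion_induction P (fun A a => Nat.card Q ≤ Nat.card A → Realized NZ A a)
    (fun A R hAR hRf n hn hA => ?_) (fun A a b h1 h2 hA => (h1 hA).trans (h2 (by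
      rw [card_map_of_injective (MulAut.conj a).injective]; exact hA))) hQ hg le_rfl
  have hAR' := card_le_of_le hAR
  have hnR : R.map (MulAut.conj n).toMonoidHom = R := mem_normalizer_iff_map_eq.1 hn
  by_cases hlt : Nat.card Q < Nat.card R
  · exact (big R hRf.1 hlt n (hnR.le.trans hRf.1)).mono le_rfl hAR
  obtain rfl := eq_of_le_of_card_le hAR (by omega)
  by_cases hAb : A = ⊥
  · exact ⟨1, one_mem _, fun q hq => by simp [mem_bot.1 (hAb.le hq)]⟩
  by_cases hAP : A = (P : Subgroup G)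
  · exact ⟨n, hF.normalizer_le P.2 (hAP ▸ hn), fun q _ => rfl⟩
  have hlt' : A < (P : Subgroup G) ⊓ normalizer (A : Set G) :=
    inf_comm (normalizer (A : Set G)) (P : Subgroup G) ▸ normalizer_inf_of_lt P.2 (lt_of_le_of_ne hRf.1 hAP)
  have hc : Nat.card A < Nat.card ↥((P : Subgroup G) ⊓ normalizer (A : Set G)) :=
    lt_of_le_of_ne (card_le_of_le hlt'.le) fun e => hlt'.ne (eq_of_le_of_card_le hlt'.le e.ge)
  exact inner _ A hRf.1 hAb (by omega) rfl n hn A (le_inf hRf.1 le_normalizer)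
    (hnR.le.trans (le_inf hRf.1 le_normalizer))

/-- The constrained case. -/
theorem control_of_constrained (hF : GoodFunctor p F)
    (hloc : centralizer (Cfsg.pCore p (G ⧸ Cfsg.pPrimeCore p G) : Set (G ⧸ Cfsg.pPrimeCore p G)) ≤
      Cfsg.pCore p (G ⧸ Cfsg.pPrimeCore p G) → ∀ S : Sylow p (G ⧸ Cfsg.pPrimeCore p G),
      (F (G ⧸ Cfsg.pPrimeCore p G) (S : Subgroup (G ⧸ Cfsg.pPrimeCore p G))).Normal)
    (P : Sylow p G)
    (hT0 : (P : Subgroup G) ⊓ (Cfsg.pCore p G ⊔ centralizer (Cfsg.pCore p G : Set G)) ≤ Cfsg.pCore p G)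
    {Q : Subgroup G} (hQ : Q ≤ (P : Subgroup G)) {g : G}
    (hg : Q.map (MulAut.conj g).toMonoidHom ≤ (P : Subgroup G)) :
    Realized (normalizer (F G (P : Subgroup G) : Set G)) Q g := by
  set R := Cfsg.pCore p G
  set O := Cfsg.pPrimeCore p G
  set f := QuotientGroup.mk' O
  have hf : Function.Surjective f := QuotientGroup.mk'_surjective O
  have hker : (Nat.card f.ker).Coprime p := by
    rw [QuotientGroup.ker_mk']; exact Cores.coprime_card_pPrimeCore p
  set C := centralizer (R : Set G)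
  haveI : C.Normal := normalizer_eq_top_iff.1 (top_le_iff.1
    ((normalizer_eq_top_iff.2 (inferInstance : R.Normal)).ge.trans (normalizer_le_normalizer_centralizer R)))
  have hC : C ≤ O ⊔ R := by
    let PC : Sylow p C := (P.isPGroup'.comap_subtype (K := C)).toSylow fun hd =>
      P.not_dvd_index (hd.trans (Cores.relIndex_dvd_index_of_normal_right _ C))
    have hPC : ∀ x ∈ (PC : Subgroup C), (x : G) ∈ R := fun x hx => hT0 ⟨hx, mem_sup_right x.2⟩
    have hcompl : Cfsg.HasNormalPComplement p C := by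
      refine Transfer.hasNormalPComplement_of_normalizer_le_centralizer PC fun y _ => mem_centralizer_iff.2
        fun x hx => Subtype.ext ?_
      exact mem_centralizer_iff.1 y.2 x (hPC x hx)
    have hres : (Cfsg.pResidual p C).map C.subtype ≤ O := Cores.le_pPrimeCore
      (Cores.map_subtype_normal_of_characteristic C _)
      (by rw [card_map_of_injective C.subtype_injective]; exact Transfer.hasNormalPComplement_iff_coprime.1 hcompl)
    intro c hc
    obtain ⟨a, ha, b, hb, hab⟩ := mem_sup_of_normal_right.1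
      ((Transfer.sylow_sup_eq_top PC).ge (mem_top (⟨c, hc⟩ : C)))
    rw [show c = (a : G) * (b : G) from congrArg Subtype.val hab.symm]
    exact mul_mem (mem_sup_right (hPC a ha)) (mem_sup_left (hres ⟨b, hb, rfl⟩))
  have hRp : IsPGroup p R := Cores.isPGroup_pCore p G
  have hRbar : R.map f ≤ Cfsg.pCore p (G ⧸ O) := Cores.map_pCore_le f hf p
  have hc : centralizer (Cfsg.pCore p (G ⧸ O) : Set (G ⧸ O)) ≤ Cfsg.pCore p (G ⧸ O) := by
    refine (centralizer_le (SetLike.coe_subset_coe.2 hRbar)).trans ?_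
    rw [centralizer_map_eq f hf hker hRp]
    refine (map_mono hC).trans ?_
    rw [Subgroup.map_sup, (Subgroup.map_eq_bot_iff O).2 (QuotientGroup.ker_mk' O).ge, bot_sup_eq]
    exact hRbar
  set Z := F G (P : Subgroup G)
  have hn := hloc hc (P.mapSurjective hf)
  rw [Sylow.coe_mapSurjective, ← hF.map f P.2 (injOn_of_pGroup f hker P.2)] at hn
  have htop : (normalizer (Z : Set G)).map f = ⊤ := by
    rw [← normalizer_map_eq f hf hker (P.2.to_le (show Z ≤ (P : Subgroup G) from hF.le P.2)), normalizer_eq_top_iff.2 hn]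
  obtain ⟨n, hnN, hnf⟩ := htop.ge (mem_top (f g))
  have ho : g * n⁻¹ ∈ O := by
    rw [← QuotientGroup.eq_one_iff]; show f (g * n⁻¹) = 1
    rw [map_mul, map_inv, hnf, mul_inv_cancel]
  have hPN : (P : Subgroup G) ≤ normalizer (Z : Set G) :=
    le_normalizer.trans (hF.normalizer_le P.2)
  obtain ⟨o', ho', hn', hle⟩ := exists_adjust P hPN hQ ho hnN (by rwa [inv_mul_cancel_right])
  refine ⟨o' * n, hn', fun q hq => ?_⟩
  set x := o' * n * q * (o' * n)⁻¹
  set y := g * q * g⁻¹
  have hxP : x ∈ (P : Subgroup G) := hle ⟨q, hq, rfl⟩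
  have hyP : y ∈ (P : Subgroup G) := hg ⟨q, hq, rfl⟩
  have hfy : f x = f y := by
    simp only [x, y, map_mul, map_inv, hnf, show f o' = 1 from (QuotientGroup.eq_one_iff o').2 ho', one_mul]
  exact injOn_of_pGroup f hker P.2 hxP hyP hfy

/-- The case `G = P C(O_p(G))`. -/
theorem control_of_pgroup_action (hF : GoodFunctor p F) (P : Sylow p G) (hR : Cfsg.pCore p G ≠ (P : Subgroup G))
    (htop : (P : Subgroup G) ⊔ centralizer (Cfsg.pCore p G : Set G) = ⊤)
    (quo : ∀ Q : Subgroup (G ⧸ Cfsg.pCore p G),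
      Q ≤ (P : Subgroup G).map (QuotientGroup.mk' (Cfsg.pCore p G)) → ∀ g : G ⧸ Cfsg.pCore p G,
      Q.map (MulAut.conj g).toMonoidHom ≤ (P : Subgroup G).map (QuotientGroup.mk' (Cfsg.pCore p G)) →
      Realized (normalizer (F (G ⧸ Cfsg.pCore p G) ((P : Subgroup G).map (QuotientGroup.mk' (Cfsg.pCore p G))) :
        Set (G ⧸ Cfsg.pCore p G))) Q g) :
    ∃ N1 : Subgroup G, N1 ≠ ⊤ ∧ (P : Subgroup G) ≤ N1 ∧ ∀ Q ≤ (P : Subgroup G), ∀ g : G,
      Q.map (MulAut.conj g).toMonoidHom ≤ (P : Subgroup G) → Realized N1 Q g := by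
  set R := Cfsg.pCore p G
  have hRn : R.Normal := inferInstance
  have hRP : R ≤ (P : Subgroup G) := Cores.pCore_le_sylow P
  have hRp : IsPGroup p R := Cores.isPGroup_pCore p G
  set π := QuotientGroup.mk' R
  have hπ : Function.Surjective π := QuotientGroup.mk'_surjective R
  set Pb := (P : Subgroup G).map π
  set Zb := F (G ⧸ R) Pb
  set N1 := (normalizer (Zb : Set (G ⧸ R))).comap π
  have hPbp : IsPGroup p Pb := P.2.map π
  have hPbne : Pb ≠ ⊥ := by
    intro e
    rw [Subgroup.map_eq_bot_iff, QuotientGroup.ker_mk'] at e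
    exact hR (le_antisymm hRP e)
  have hN1 : N1 ≠ ⊤ := by
    intro e
    have hn : normalizer (Zb : Set (G ⧸ R)) = ⊤ := comap_injective hπ (e.trans (comap_top π).symm)
    have h1 := Cores.le_pCore (normalizer_eq_top_iff.1 hn)
      (hPbp.to_le (show Zb ≤ Pb from hF.le hPbp))
    rw [Cores.pCore_quotient_self, le_bot_iff] at h1
    exact hF.ne_bot hPbp hPbne h1
  have hPN1 : (P : Subgroup G) ≤ N1 :=
    map_le_iff_le_comap.1 (le_normalizer.trans (hF.normalizer_le hPbp))
  refine ⟨N1, hN1, hPN1, fun Q hQ g hg => ?_⟩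
  have hRconj : ∀ a : G, R.map (MulAut.conj a).toMonoidHom = R := fun a =>
    mem_normalizer_iff_map_eq.1 (le_normalizer_of_normal (K := ⊤) (mem_top a))
  have hQR : (Q ⊔ R).map (MulAut.conj g).toMonoidHom ≤ (P : Subgroup G) := by
    rw [Subgroup.map_sup, hRconj]; exact sup_le hg hRP
  refine Realized.mono ?_ le_rfl (le_sup_left : Q ≤ Q ⊔ R)
  refine Transfer.fusion_induction P (fun A a => R ≤ A → Realized N1 A a) ?_
    (fun A a b h1 h2 hA => (h1 hA).trans (h2 ((hRconj a).ge.trans (map_mono hA))))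
    (sup_le hQ hRP) hQR le_sup_right
  intro A R' hAR' hR'f n hn hA
  refine Realized.mono ?_ le_rfl hAR'
  have hRR' : R ≤ R' := hA.trans hAR'
  obtain ⟨mb, hmb, hmbq⟩ := quo (R'.map π) (map_mono hR'f.1) (π n) (by
    rintro _ ⟨_, ⟨q, hq, rfl⟩, rfl⟩
    exact ⟨n * q * n⁻¹, hR'f.1 (conj_mem hn hq), by simp⟩)
  obtain ⟨n0, rfl⟩ := hπ mb
  have hn0 : n0 ∈ N1 := hmb
  set c := n0⁻¹ * n
  have hcq : ∀ q ∈ R', π (c * q * c⁻¹) = π q := by
    intro q hq
    have h1 := hmbq (π q) ⟨q, hq, rfl⟩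
    calc π (c * q * c⁻¹) = (π n0)⁻¹ * (π n * π q * (π n)⁻¹) * π n0 := by
          simp only [c, map_mul, map_inv, mul_inv_rev, inv_inv, mul_assoc]
      _ = π q := by rw [← h1]; group
  set H := normalizer (R' : Set G)
  set D := H ⊓ (centralizer ((R'.map π : Subgroup (G ⧸ R)) : Set (G ⧸ R))).comap π
  have hcC : c ∈ (centralizer ((R'.map π : Subgroup (G ⧸ R)) : Set (G ⧸ R))).comap π := by
    refine mem_comap.2 (mem_centralizer_iff.2 ?_)
    rintro _ ⟨q, hq, rfl⟩
    have h1 := hcq q hq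
    rw [map_mul, map_mul, map_inv, mul_inv_eq_iff_eq_mul] at h1
    exact h1.symm
  have hcH : c ∈ H := by
    rw [mem_normalizer_iff_map_eq]
    refine eq_of_le_of_card_le ?_ (card_map_of_injective (MulAut.conj c).injective).ge
    rintro _ ⟨q, hq, rfl⟩
    have h1 : q⁻¹ * (c * q * c⁻¹) ∈ R := QuotientGroup.eq.1 (hcq q hq).symm
    have h2 := R'.mul_mem hq (hRR' h1)
    rwa [mul_inv_cancel_left] at h2
  have hDn : (D.subgroupOf H).Normal := by
    refine Cores.subgroupOf_normal_of_le_normalizer fun h hh => ?_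
    have hh' : h ∈ normalizer (((centralizer ((R'.map π : Subgroup (G ⧸ R)) : Set (G ⧸ R))).comap π : Subgroup G) : Set G) := by
      refine le_normalizer_comap π ?_
      exact normalizer_le_normalizer_centralizer _ (le_normalizer_map π ⟨h, hh, rfl⟩)
    exact mem_normalizer_iff.2 fun x => and_congr
      (mem_normalizer_iff.1 (le_normalizer hh) x) (mem_normalizer_iff.1 hh' x)
  have hidx : ¬ p ∣ (((P : Subgroup G) ⊓ H).subgroupOf H).index := hR'f.2
  have hidxD : ¬ p ∣ ((((P : Subgroup G) ⊓ H).subgroupOf H).subgroupOf (D.subgroupOf H)).index := fun hd =>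
    hidx (hd.trans (Cores.relIndex_dvd_index_of_normal_right _ _))
  let PD : Sylow p (D.subgroupOf H) :=
    (((P.2.to_le (inf_le_left : (P : Subgroup G) ⊓ H ≤ (P : Subgroup G))).of_equiv
      (subgroupOfEquivOfLe (inf_le_right : (P : Subgroup G) ⊓ H ≤ H)).symm).comap_subtype
      (K := D.subgroupOf H)).toSylow hidxD
  obtain ⟨s, hs, y, hy, hsy⟩ := mem_sup_of_normal_right.1
    ((Transfer.sylow_sup_eq_top PD).ge (mem_top (⟨⟨c, hcH⟩, ⟨hcH, hcC⟩⟩ : D.subgroupOf H)))
  -- elements of `D` of order prime to `p` centralise `R'`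
  have hCn : (centralizer (R : Set G)).Normal := normalizer_eq_top_iff.1 (top_le_iff.1
    ((normalizer_eq_top_iff.2 hRn).ge.trans (normalizer_le_normalizer_centralizer R)))
  have hquo : IsPGroup p (G ⧸ centralizer (R : Set G)) := by
    intro q
    obtain ⟨x, rfl⟩ := QuotientGroup.mk_surjective q
    obtain ⟨a, ha, b, hb, rfl⟩ := mem_sup_of_normal_right.1 (htop.ge (mem_top x))
    obtain ⟨j, hj⟩ := P.2 ⟨a, ha⟩
    refine ⟨j, ?_⟩
    rw [QuotientGroup.mk_mul, (QuotientGroup.eq_one_iff b).2 hb, mul_one, ← QuotientGroup.mk_pow,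
      show a ^ p ^ j = 1 from congrArg Subtype.val hj, QuotientGroup.mk_one]
  have hyC : ((y : H) : G) ∈ centralizer (R' : Set G) := by
    suffices h : Cfsg.pResidual p (D.subgroupOf H) ≤
        (centralizer (R' : Set G)).comap (H.subtype.comp (D.subgroupOf H).subtype) from h hy
    refine (closure_le _).2 fun x hx => mem_comap.2 (mem_centralizer_iff.2 fun q hq => ?_)
    set x' := ((x : H) : G)
    have hxo : (orderOf x').Coprime p := by
      rw [orderOf_submonoid, orderOf_submonoid]; exact hx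
    have hxR : x' ∈ centralizer (R : Set G) :=
      (QuotientGroup.eq_one_iff x').1 (Transfer.map_eq_one_of_coprime hquo (QuotientGroup.mk' _) hxo)
    set w := x' * q * x'⁻¹ * q⁻¹
    have hxD : x' ∈ D := x.2
    have hwR : w ∈ R := by
      rw [← QuotientGroup.eq_one_iff]
      show π w = 1
      have h1 := mem_centralizer_iff.1 hxD.2 (π q) ⟨q, hq, rfl⟩
      simp only [w, map_mul, map_inv, ← h1]
      group
    have hxw : x' * w = w * x' := (mem_centralizer_iff.1 hxR w hwR).symm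
    have hn' := conj_pow_eq (v := q) (a := x') (w := w) (by simp [w]) hxw (orderOf x')
    rw [pow_orderOf_eq_one, one_mul, inv_one, mul_one, right_eq_mul] at hn'
    obtain ⟨j, hj⟩ := hRp ⟨w, hwR⟩
    have h3 := (pow_gcd_eq_one (a := w)).2 ⟨hn', congrArg Subtype.val hj⟩
    rw [Nat.coprime_iff_gcd_eq_one.1 (hxo.pow_right j), pow_one] at h3
    exact (mul_inv_eq_iff_eq_mul.1 (mul_inv_eq_one.1 h3)).symm
  have hsP : ((s : H) : G) ∈ (P : Subgroup G) :=
    (mem_subgroupOf.1 (mem_subgroupOf.1 hs)).1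
  refine ⟨n0 * ((s : H) : G), N1.mul_mem hn0 (hPN1 hsP), fun q hq => ?_⟩
  have hn_eq : n = n0 * (((s : H) : G) * ((y : H) : G)) := by
    have : ((s : H) : G) * ((y : H) : G) = c := congrArg (fun z : D.subgroupOf H => ((z : H) : G)) hsy
    rw [this, mul_inv_cancel_left]
  have hyq := mem_centralizer_iff.1 hyC q hq
  rw [hn_eq]
  calc n0 * ((s : H) : G) * q * (n0 * ((s : H) : G))⁻¹
      = n0 * ((s : H) : G) * (q * ((y : H) : G)) * ((y : H) : G)⁻¹ * (n0 * ((s : H) : G))⁻¹ := by group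
    _ = n0 * ((s : H) : G) * (((y : H) : G) * q) * ((y : H) : G)⁻¹ * (n0 * ((s : H) : G))⁻¹ := by rw [hyq]
    _ = _ := by group
/-- **Glauberman's reduction** to constrained members of the class. -/
theorem functor_control (hF : GoodFunctor p F) (C : ∀ (X : Type u) [Group X], Prop)
    (hsub : ∀ (X : Type u) [Group X] (M : Subgroup X), C X → C M)
    (hquo : ∀ (X : Type u) [Group X] (N : Subgroup X) [N.Normal], C X → C (X ⧸ N))
    (hloc : ∀ (X : Type u) [Group X] [Finite X], C X → centralizer (Cfsg.pCore p X : Set X) ≤ Cfsg.pCore p X →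
      ∀ S : Sylow p X, (F X (S : Subgroup X)).Normal)
    {G : Type u} [Group G] [Finite G] (hC : C G) (P : Sylow p G)
    (Q : Subgroup G) (hQ : Q ≤ (P : Subgroup G)) (g : G)
    (hg : Q.map (MulAut.conj g).toMonoidHom ≤ (P : Subgroup G)) :
    Realized (normalizer (F G (P : Subgroup G) : Set G)) Q g := by
  obtain ⟨n, hn⟩ : ∃ n, n = Nat.card G := ⟨_, rfl⟩
  induction n using Nat.strong_induction_on generalizing G with
  | _ n IH =>
  subst hn
  have sub : ∀ M : Subgroup G, M ≠ ⊤ → ∀ T : Subgroup G, T ≤ M → IsPGroup p T → ¬ p ∣ T.relIndex M →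
      ∀ Q ≤ T, ∀ g ∈ M, Q.map (MulAut.conj g).toMonoidHom ≤ T →
        Realized (M ⊓ normalizer (F G T : Set G)) Q g := by
    intro M hM T hTM hTp hidx A hA a ha hAa
    let TM : Sylow p M := (hTp.comap_subtype (K := M)).toSylow hidx
    have hlt : Nat.card M < Nat.card G :=
      lt_of_le_of_ne (card_le_card_group M) fun e => hM ((card_eq_iff_eq_top M).1 e)
    obtain ⟨m, hm, hmq⟩ := IH _ hlt (hsub G M hC) TM (A.subgroupOf M) (comap_mono hA) ⟨a, ha⟩ (by
      rintro _ ⟨q, hq, rfl⟩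
      exact hAa ⟨q, hq, rfl⟩) rfl
    refine ⟨m, ⟨m.2, ?_⟩, fun q hq => congrArg Subtype.val (hmq ⟨q, hTM (hA hq)⟩ hq)⟩
    have hmap : (F M (T.subgroupOf M)).map M.subtype = F G T := by
      rw [hF.map (H := T.subgroupOf M) _ (hTp.comap_subtype (K := M)) M.subtype_injective.injOn,
        map_subgroupOf_eq_of_le hTM]
    rw [← hmap]
    exact le_normalizer_map M.subtype ⟨m, hm, rfl⟩
  set R := Cfsg.pCore p G
  by_cases hR : R = ⊥
  · exact control_of_pCore_eq_bot hF P hR sub hQ hg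
  haveI : R.Normal := Cores.pCore_normal p G
  set NZ := normalizer (F G (P : Subgroup G) : Set G)
  set C := centralizer (R : Set G)
  haveI : C.Normal := normalizer_eq_top_iff.1 (top_le_iff.1
    ((normalizer_eq_top_iff.2 (inferInstance : R.Normal)).ge.trans (normalizer_le_normalizer_centralizer R)))
  have hPidx : ∀ M : Subgroup G, (P : Subgroup G) ≤ M → ¬ p ∣ (P : Subgroup G).relIndex M := fun M hM hd =>
    P.not_dvd_index (hd.trans (relIndex_dvd_index_of_le hM))
  by_cases htop : (P : Subgroup G) ⊔ C = ⊤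
  · by_cases hRP : R = (P : Subgroup G)
    · refine ⟨g, hF.normalizer_le P.2 ?_, fun q _ => rfl⟩
      rw [← hRP]
      exact le_normalizer_of_normal (K := ⊤) (mem_top g)
    have hπ := QuotientGroup.mk'_surjective R
    obtain ⟨N1, hN1, hPN1, hctrl⟩ := control_of_pgroup_action hF P hRP htop fun A hA a ha =>
      IH _ (by
        rw [← R.index_eq_card, ← R.index_mul_card]
        exact lt_mul_of_one_lt_right (Nat.pos_of_ne_zero index_ne_zero_of_finite) ((one_lt_card_iff_ne_bot R).2 hR))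
        (hquo G R hC) (P.mapSurjective hπ) A hA a ha rfl
    obtain ⟨m, hm, hmq⟩ := hctrl Q hQ g hg
    obtain ⟨m', hm', hmq'⟩ := sub N1 hN1 P hPN1 P.2 (hPidx N1 hPN1) Q hQ m hm ((map_conj_congr hmq).le.trans hg)
    exact ⟨m', hm'.2, fun q hq => (hmq' q hq).trans (hmq q hq)⟩
  set T0 := (P : Subgroup G) ⊓ (R ⊔ C)
  by_cases hT0 : T0 ≤ R
  · exact control_of_constrained hF (fun h S => hloc _ (hquo G _ hC) h S) P hT0 hQ hg
  have hT0ne : normalizer (T0 : Set G) ≠ ⊤ := fun e =>
    hT0 (Cores.le_pCore (normalizer_eq_top_iff.1 e) (P.2.to_le inf_le_left))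
  have hPN : (P : Subgroup G) ≤ normalizer (T0 : Set G) := fun x hx =>
    mem_normalizer_iff.2 fun y => and_congr (mem_normalizer_iff.1 (le_normalizer hx) y)
      (mem_normalizer_iff.1 (le_normalizer_of_normal (H := R ⊔ C) (K := ⊤) (mem_top x)) y)
  let PD : Sylow p ↥(R ⊔ C) := (P.isPGroup'.comap_subtype (K := R ⊔ C)).toSylow fun hd =>
    P.not_dvd_index (hd.trans (Cores.relIndex_dvd_index_of_normal_right _ (R ⊔ C)))
  have hfr := Sylow.normalizer_sup_eq_top PD
  rw [show (PD : Subgroup ↥(R ⊔ C)).map (R ⊔ C).subtype = T0 from subgroupOf_map_subtype _ _] at hfr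
  have hsup : normalizer (T0 : Set G) ⊔ C = ⊤ := by
    refine top_le_iff.1 (hfr.ge.trans (sup_le le_sup_left (sup_le ?_ le_sup_right)))
    exact le_trans (le_inf (Cores.pCore_le_sylow P) le_sup_left) (le_normalizer.trans le_sup_left)
  obtain ⟨c, hc, n, hn, rfl⟩ := mem_sup_of_normal_left.1 (show g ∈ C ⊔ normalizer (T0 : Set G) by
    rw [sup_comm, hsup]; exact mem_top g)
  obtain ⟨c', hc', hn', hle⟩ := exists_adjust P hPN hQ hc hn hg
  have hPC : (P : Subgroup G) ≤ (P : Subgroup G) ⊔ C := le_sup_left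
  have h1 := (sub _ hT0ne P hPN P.2 (hPidx _ hPN) Q hQ _ hn' hle).mono inf_le_right le_rfl
  have h2 := (sub _ htop P hPC P.2 (hPidx _ hPC) _ hle (c * c'⁻¹)
    (mem_sup_right (C.mul_mem hc (C.inv_mem hc'))) (by
      rintro _ ⟨_, ⟨q, hq, rfl⟩, rfl⟩
      refine hg ⟨q, hq, ?_⟩
      simp [mul_assoc])).mono inf_le_right le_rfl
  have h3 := h1.trans h2
  rwa [show c * c'⁻¹ * (c' * n) = c * n by group] at h3


end Cfsg.Agent.PLocal
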