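import Cfsg.Agent.Lib.PLocal.ZJCenter
import Cfsg.Agent.Lib.PLocal.Functor
import Cfsg.Agent.Lib.PLocal.FunctorFusion
import Cfsg.Agent.Lib.Quadratic.Stable

/-!
Glauberman: `N(Z(J(P)))` controls fusion in groups without `SL₂(p)` sections (namespace `Cfsg.Agent.PLocal`).

* `SL2Free`, `SL2Free.subgroup`, `SL2Free.quotient`, `SL2Free.pStableOn`
* `zj_control`: every conjugation inside `P` is induced from `N(Z(J(P)))`
-/

namespace Cfsg.Agent.PLocal

open Subgroup
open scoped commutatorElement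

universe u

variable {p : ℕ}

/-- No section isomorphic to `SL₂(p)`. -/
def SL2Free (p : ℕ) (G : Type u) [Group G] : Prop :=
  ¬ ∃ (H K : Subgroup G) (_ : (K.subgroupOf H).Normal),
    Nonempty ((H ⧸ K.subgroupOf H) ≃* Matrix.SpecialLinearGroup (Fin 2) (ZMod p))

theorem SL2Free.subgroup {G : Type u} [Group G] (h : SL2Free p G) (M : Subgroup G) : SL2Free p M := by
  rintro ⟨H, K, hK, ⟨e⟩⟩
  have es : ↥(H.map M.subtype) ≃* ↥H := (H.equivMapOfInjective M.subtype M.subtype_injective).symm
  set q : ↥(H.map M.subtype) →* Matrix.SpecialLinearGroup (Fin 2) (ZMod p) :=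
    (e.toMonoidHom.comp (QuotientGroup.mk' (K.subgroupOf H))).comp es.toMonoidHom
  obtain ⟨H', K', hK', -, hiso⟩ := Quadratic.section_of_hom q ⊤
    (MonoidHom.range_eq_top.2 ((e.surjective.comp (QuotientGroup.mk'_surjective _)).comp es.surjective)).ge
    Subgroup.topEquiv
  exact h ⟨H', K', hK', hiso⟩

theorem SL2Free.quotient {G : Type u} [Group G] (h : SL2Free p G) (N : Subgroup G) [N.Normal] :
    SL2Free p (G ⧸ N) := by
  rintro ⟨H, K, hK, hiso⟩
  obtain ⟨H', K', hK', -, hiso'⟩ := Quadratic.section_of_quotient (H := H) N ⟨H, K, hK, le_rfl, hiso⟩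
  exact h ⟨H', K', hK', hiso'⟩

theorem SL2Free.pStableOn {G : Type u} [Group G] [Finite G] [Fact p.Prime] (hp : p ≠ 2) (h : SL2Free p G)
    (P : Subgroup G) [P.Normal] (hP : IsPGroup p P) : Cfsg.IsPStableOn p P := by
  intro a ha
  by_contra hna
  obtain ⟨K, L, hL, -, hiso⟩ := Quadratic.section_sl2_of_not_stable hp hP (Quadratic.commute_of_quad ha) hna
  exact h ⟨K, L, hL, hiso⟩

theorem goodFunctor_centerThompsonOf [Fact p.Prime] :
    GoodFunctor p fun (X : Type u) [Group X] (H : Subgroup X) => Cfsg.centerThompsonOf p H where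
  le _ := inf_le_left.trans (thompsonSubgroupOf_le _)
  map f _ _ hf := map_centerThompsonOf f hf
  ne_bot hH hne := by
    obtain ⟨z, hz, hz1, hzp⟩ := exists_central_of_order_p hH hne
    exact fun e => hz1 (mem_bot.1 (e.le (central_le_centerThompsonOf hz hzp)))

/-- **Glauberman's theorem**: `N(Z(J(P)))` controls strong fusion, `p` odd, no section `SL₂(p)`. -/
theorem zj_control [Fact p.Prime] (hp : p ≠ 2) {G : Type u} [Group G] [Finite G] (hfree : SL2Free p G)
    (P : Sylow p G) (Q : Subgroup G) (hQ : Q ≤ (P : Subgroup G)) (g : G)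
    (hg : Q.map (MulAut.conj g).toMonoidHom ≤ (P : Subgroup G)) :
    Realized (normalizer (Cfsg.centerThompsonOf p (P : Subgroup G) : Set G)) Q g :=
  functor_control goodFunctor_centerThompsonOf (fun X _ => SL2Free p X) (fun _ _ M h => h.subgroup M)
    (fun _ _ N _ h => h.quotient N)
    (fun _ _ _ h hc S => zjCenter_normal hp hc (fun P' _ hP => h.pStableOn hp P' hP) S) hfree P Q hQ g hg

end Cfsg.Agent.PLocal
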