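import Cfsg.Agent.EqLemmas

/-!
Basic tools for p-local analysis (namespace `Cfsg.Agent.PLocal`).

* `Cfsg.IsElementaryAbelian`: `elemAb_bot`, `elemAb_mono`, `elemAb_comm`, `elemAb_sup` (two commuting ones),
  `elemAb_closure`, `elemAb_zpowers`, `elemAb_map`, `elemAb_map_subtype_iff`, `elemAb_isPGroup`, `elemAb_iSup`
* orders of joins: `card_sup_mul_card_inf` (one normalises the other), `card_mul_card_le` (any two)
* fixed points: `fixedPts V A = V ⊓ centralizer A` is written out; `le_centralizer_sup`, `centralizer_sup`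
-/

namespace Cfsg.Agent.PLocal

variable {G : Type*} [Group G] {p : ℕ}

theorem centralizer_sup (H K : Subgroup G) :
    Subgroup.centralizer ((H ⊔ K : Subgroup G) : Set G)
      = Subgroup.centralizer (H : Set G) ⊓ Subgroup.centralizer (K : Set G) := by
  refine le_antisymm (le_inf (Subgroup.centralizer_le (SetLike.coe_subset_coe.2 le_sup_left))
    (Subgroup.centralizer_le (SetLike.coe_subset_coe.2 le_sup_right))) fun x hx => ?_
  have h1 : H ≤ Subgroup.centralizer {x} := fun h hh =>
    Subgroup.mem_centralizer_singleton_iff.2 (Subgroup.mem_centralizer_iff.1 hx.1 h hh)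
  have h2 : K ≤ Subgroup.centralizer {x} := fun h hh =>
    Subgroup.mem_centralizer_singleton_iff.2 (Subgroup.mem_centralizer_iff.1 hx.2 h hh)
  exact Subgroup.mem_centralizer_iff.2 fun h hh =>
    Subgroup.mem_centralizer_singleton_iff.1 (sup_le h1 h2 hh)

theorem centralizer_iSup {ι : Sort*} (H : ι → Subgroup G) :
    Subgroup.centralizer ((⨆ i, H i : Subgroup G) : Set G) = ⨅ i, Subgroup.centralizer (H i : Set G) := by
  refine le_antisymm (le_iInf fun i => Subgroup.centralizer_le (SetLike.coe_subset_coe.2 (le_iSup H i)))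
    fun x hx => ?_
  have h1 : ∀ i, H i ≤ Subgroup.centralizer {x} := fun i h hh =>
    Subgroup.mem_centralizer_singleton_iff.2 (Subgroup.mem_centralizer_iff.1 (Subgroup.mem_iInf.1 hx i) h hh)
  exact Subgroup.mem_centralizer_iff.2 fun h hh =>
    Subgroup.mem_centralizer_singleton_iff.1 (iSup_le h1 hh)

theorem le_centralizer_comm {H K : Subgroup G} (h : H ≤ Subgroup.centralizer (K : Set G)) :
    K ≤ Subgroup.centralizer (H : Set G) := Subgroup.le_centralizer_iff.1 h

theorem commute_of_le_centralizer {H K : Subgroup G} (h : H ≤ Subgroup.centralizer (K : Set G)) {x y : G}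
    (hx : x ∈ H) (hy : y ∈ K) : Commute x y :=
  (Subgroup.mem_centralizer_iff.1 (h hx) y hy).symm

/-! ### Orders of joins -/

theorem card_sup_mul_card_inf {H K : Subgroup G} (h : K ≤ Subgroup.normalizer (H : Set G)) :
    Nat.card ↥(H ⊔ K) * Nat.card ↥(H ⊓ K) = Nat.card H * Nat.card K := by
  set M := H ⊔ K
  have hHM : H ≤ M := le_sup_left
  have hKM : K ≤ M := le_sup_right
  have hMN : M ≤ Subgroup.normalizer (H : Set G) := sup_le Subgroup.le_normalizer h
  have : (H.subgroupOf M).Normal := (Subgroup.normal_subgroupOf_iff_le_normalizer hHM).2 hMN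
  have e : H.relIndex M = H.relIndex K := by
    have := Subgroup.relIndex_sup_left (H := K.subgroupOf M) (K := H.subgroupOf M)
    rw [← Subgroup.subgroupOf_sup hHM hKM, Subgroup.relIndex_subgroupOf le_rfl,
      Subgroup.relIndex_subgroupOf hKM] at this
    exact this
  have h1 : Nat.card H * H.relIndex M = Nat.card M := by
    rw [← Subgroup.relIndex_bot_left H, Subgroup.relIndex_mul_relIndex _ _ _ bot_le hHM,
      Subgroup.relIndex_bot_left]
  have h2 : Nat.card ↥(H ⊓ K) * (H ⊓ K).relIndex K = Nat.card K := by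
    rw [← Subgroup.relIndex_bot_left (H ⊓ K), Subgroup.relIndex_mul_relIndex _ _ _ bot_le inf_le_right,
      Subgroup.relIndex_bot_left]
  rw [Subgroup.inf_relIndex_right, ← e] at h2
  rw [← h1, ← h2]
  ring

theorem card_mul_card_le [Finite G] (H K : Subgroup G) :
    Nat.card H * Nat.card K ≤ Nat.card ↥(H ⊔ K) * Nat.card ↥(H ⊓ K) := by
  have h1 : Nat.card H * H.relIndex (H ⊔ K) = Nat.card ↥(H ⊔ K) := by
    rw [← Subgroup.relIndex_bot_left H, Subgroup.relIndex_mul_relIndex _ _ _ bot_le le_sup_left,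
      Subgroup.relIndex_bot_left]
  have h2 : Nat.card ↥(H ⊓ K) * H.relIndex K = Nat.card K := by
    rw [← Subgroup.inf_relIndex_right H K, ← Subgroup.relIndex_bot_left (H ⊓ K),
      Subgroup.relIndex_mul_relIndex _ _ _ bot_le inf_le_right, Subgroup.relIndex_bot_left]
  have h3 : H.relIndex K ≤ H.relIndex (H ⊔ K) :=
    Subgroup.relIndex_le_of_le_right le_sup_right (by
      intro h0; rw [h0, mul_zero] at h1; exact Nat.card_pos.ne h1)
  calc Nat.card H * Nat.card K = Nat.card H * H.relIndex K * Nat.card ↥(H ⊓ K) := by rw [← h2]; ring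
    _ ≤ Nat.card H * H.relIndex (H ⊔ K) * Nat.card ↥(H ⊓ K) := by gcongr
    _ = _ := by rw [h1]

theorem eq_of_le_of_card_le [Finite G] {H K : Subgroup G} (h : H ≤ K) (hc : Nat.card K ≤ Nat.card H) :
    H = K :=
  SetLike.coe_injective <| Set.eq_of_subset_of_ncard_le h (by simpa [← Nat.card_coe_set_eq] using hc)

theorem card_le_of_le [Finite G] {H K : Subgroup G} (h : H ≤ K) : Nat.card H ≤ Nat.card K :=
  Subgroup.card_le_of_le h

/-! ### Elementary abelian subgroups -/

theorem elemAb_bot : Cfsg.IsElementaryAbelian p (⊥ : Subgroup G) :=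
  ⟨Subgroup.le_centralizer_iff_isMulCommutative.1 bot_le, fun a ha => by simp [Subgroup.mem_bot.1 ha]⟩

theorem elemAb_le_centralizer {A : Subgroup G} (h : Cfsg.IsElementaryAbelian p A) :
    A ≤ Subgroup.centralizer (A : Set G) :=
  Subgroup.le_centralizer_iff_isMulCommutative.2 h.1

theorem elemAb_comm {A : Subgroup G} (h : Cfsg.IsElementaryAbelian p A) {a b : G} (ha : a ∈ A) (hb : b ∈ A) :
    a * b = b * a :=
  commute_of_le_centralizer (elemAb_le_centralizer h) ha hb

theorem elemAb_mono {A B : Subgroup G} (h : Cfsg.IsElementaryAbelian p A) (hB : B ≤ A) :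
    Cfsg.IsElementaryAbelian p B :=
  ⟨Subgroup.le_centralizer_iff_isMulCommutative.1
    (hB.trans ((elemAb_le_centralizer h).trans (Subgroup.centralizer_le hB))), fun a ha => h.2 a (hB ha)⟩

/-- A subgroup generated by commuting elements of order dividing `p` is elementary abelian. -/
theorem elemAb_closure {s : Set G} (hc : ∀ x ∈ s, ∀ y ∈ s, x * y = y * x) (hp : ∀ x ∈ s, x ^ p = 1) :
    Cfsg.IsElementaryAbelian p (Subgroup.closure s) := by
  have h1 : IsMulCommutative (Subgroup.closure s) := Subgroup.isMulCommutative_closure hc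
  refine ⟨h1, fun a ha => ?_⟩
  induction ha using Subgroup.closure_induction with
  | mem x hx => exact hp x hx
  | one => exact one_pow p
  | mul x y hx hy ihx ihy =>
    rw [(show Commute x y from commute_of_le_centralizer
      (Subgroup.le_centralizer_iff_isMulCommutative.2 h1) hx hy).mul_pow, ihx, ihy, one_mul]
  | inv x _ ihx => rw [inv_pow, ihx, inv_one]

theorem elemAb_iSup {ι : Sort*} (A : ι → Subgroup G) (h : ∀ i, Cfsg.IsElementaryAbelian p (A i))
    (hc : ∀ i j, A i ≤ Subgroup.centralizer (A j : Set G)) :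
    Cfsg.IsElementaryAbelian p (⨆ i, A i) := by
  rw [Subgroup.iSup_eq_closure]
  refine elemAb_closure (fun x hx y hy => ?_) (fun x hx => ?_)
  · obtain ⟨i, hi⟩ := Set.mem_iUnion.1 hx
    obtain ⟨j, hj⟩ := Set.mem_iUnion.1 hy
    exact commute_of_le_centralizer (hc i j) hi hj
  · obtain ⟨i, hi⟩ := Set.mem_iUnion.1 hx
    exact (h i).2 x hi

theorem elemAb_sup {A B : Subgroup G} (hA : Cfsg.IsElementaryAbelian p A) (hB : Cfsg.IsElementaryAbelian p B)
    (hc : A ≤ Subgroup.centralizer (B : Set G)) : Cfsg.IsElementaryAbelian p (A ⊔ B) := by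
  rw [Subgroup.sup_eq_closure]
  refine elemAb_closure ?_ ?_
  · rintro x (hx | hx) y (hy | hy)
    · exact elemAb_comm hA hx hy
    · exact commute_of_le_centralizer hc hx hy
    · exact (commute_of_le_centralizer hc hy hx).symm
    · exact elemAb_comm hB hx hy
  · rintro x (hx | hx)
    · exact hA.2 x hx
    · exact hB.2 x hx

theorem elemAb_zpowers {x : G} (hx : x ^ p = 1) : Cfsg.IsElementaryAbelian p (Subgroup.zpowers x) := by
  rw [Subgroup.zpowers_eq_closure]
  exact elemAb_closure (fun a ha b hb => by rw [Set.mem_singleton_iff.1 ha, Set.mem_singleton_iff.1 hb])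
    (fun a ha => by rw [Set.mem_singleton_iff.1 ha, hx])

theorem elemAb_isPGroup {A : Subgroup G} (h : Cfsg.IsElementaryAbelian p A) : IsPGroup p A :=
  fun a => ⟨1, Subtype.ext (by simpa using h.2 a a.2)⟩

theorem elemAb_map {G' : Type*} [Group G'] (f : G →* G') {A : Subgroup G} (h : Cfsg.IsElementaryAbelian p A) :
    Cfsg.IsElementaryAbelian p (A.map f) := by
  constructor
  · refine Subgroup.le_centralizer_iff_isMulCommutative.1 ?_
    rintro _ ⟨a, ha, rfl⟩
    refine Subgroup.mem_centralizer_iff.2 ?_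
    rintro _ ⟨b, hb, rfl⟩
    rw [← map_mul, ← map_mul, elemAb_comm h ha hb]
  · rintro _ ⟨a, ha, rfl⟩
    rw [← map_pow, h.2 a ha, map_one]

theorem elemAb_of_map {G' : Type*} [Group G'] {f : G →* G'} (hf : Function.Injective f) {A : Subgroup G}
    (h : Cfsg.IsElementaryAbelian p (A.map f)) : Cfsg.IsElementaryAbelian p A := by
  constructor
  · refine Subgroup.le_centralizer_iff_isMulCommutative.1 fun a ha => Subgroup.mem_centralizer_iff.2 fun b hb => hf ?_
    rw [map_mul, map_mul, elemAb_comm h ⟨b, hb, rfl⟩ ⟨a, ha, rfl⟩]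
  · intro a ha
    exact hf (by rw [map_pow, h.2 _ ⟨a, ha, rfl⟩, map_one])

theorem elemAb_map_iff {G' : Type*} [Group G'] {f : G →* G'} (hf : Function.Injective f) {A : Subgroup G} :
    Cfsg.IsElementaryAbelian p (A.map f) ↔ Cfsg.IsElementaryAbelian p A :=
  ⟨elemAb_of_map hf, elemAb_map f⟩

theorem elemAb_subgroupOf {A H : Subgroup G} (h : Cfsg.IsElementaryAbelian p A) :
    Cfsg.IsElementaryAbelian p (A.subgroupOf H) :=
  elemAb_of_map H.subtype_injective (by
    rw [Subgroup.subgroupOf_map_subtype]; exact elemAb_mono h inf_le_left)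

end Cfsg.Agent.PLocal
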