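import Cfsg.Agent.Lib.PLocal.WComplement
import Cfsg.Agent.Lib.ClassIndex.PSolvable
import Cfsg.Agent.Lib.Solvable.PiSeparable
import Cfsg.Agent.S0596
import Cfsg.Agent.S0595

/-!
Action `p`-stability from faithful models (namespace `Cfsg.Agent.PLocal`).

* `pStableOn_of_faithful`: reduce `IsPStableOn` on `V` to the faithful action of `G / C(V)`
* `isPSolvable_iff_isPiSeparable`, `pStableOn_of_pSolvable`, `pStableOn_of_abelian_sylow_two`
* `isActionPStable_of_pSolvable`, `isActionPStable_of_abelian_sylow_two`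
-/

namespace Cfsg.Agent.PLocal

open Subgroup
open scoped commutatorElement

universe u

variable {p : ℕ}

/-- Reduce stability on an elementary abelian normal subgroup to a faithful model. -/
theorem pStableOn_of_faithful {G : Type u} [Group G] [Finite G] {V : Subgroup G} [V.Normal]
    (hV : Cfsg.IsElementaryAbelian p V)
    (h : ∀ (X : Type u) [Group X] [Finite X] (U H : Subgroup X), Cfsg.IsElementaryAbelian p U →
      H ≤ normalizer (U : Set X) → H ⊓ centralizer (U : Set X) = ⊥ →
      Nonempty ((G ⧸ centralizer (V : Set G)) ≃* H) → ∀ a ∈ H, ⁅⁅U, zpowers a⁆, zpowers a⁆ = ⊥ →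
      a ∈ (Cfsg.pCore p H).map H.subtype) :
    Cfsg.IsPStableOn p V := by
  intro a ha
  set C := centralizer (V : Set G)
  have hker : C ≤ (MulAut.conjNormal : G →* MulAut V).ker := by
    intro c hc
    refine MonoidHom.mem_ker.2 (MulEquiv.ext fun v => Subtype.ext ?_)
    simp only [MulAut.conjNormal_apply, MulAut.one_apply]
    rw [← mem_centralizer_iff.1 hc v v.2, mul_inv_cancel_right]
  set φ : G ⧸ C →* MulAut V := QuotientGroup.lift C MulAut.conjNormal hker
  let X := SemidirectProduct V (G ⧸ C) φ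
  haveI : Finite X := Finite.of_equiv _ SemidirectProduct.equivProd.symm
  set U : Subgroup X := (SemidirectProduct.inl : V →* X).range
  set H : Subgroup X := (SemidirectProduct.inr : G ⧸ C →* X).range
  have hUe : Cfsg.IsElementaryAbelian p U := by
    have he : Cfsg.IsElementaryAbelian p (⊤ : Subgroup V) := by
      refine ⟨le_centralizer_iff_isMulCommutative.1 fun x _ => mem_centralizer_iff.2 fun y _ => Subtype.ext ?_,
        fun x _ => Subtype.ext (hV.2 x x.2)⟩
      exact elemAb_comm hV y.2 x.2
    simpa [U, MonoidHom.range_eq_map] using elemAb_map (SemidirectProduct.inl : V →* X) he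
  haveI : U.Normal := by
    show ((SemidirectProduct.inl : V →* X).range).Normal
    rw [SemidirectProduct.range_inl_eq_ker_rightHom]; infer_instance
  have conj_inl : ∀ (g : G) (v : V), (SemidirectProduct.inr (QuotientGroup.mk g) : X) * SemidirectProduct.inl v *
      (SemidirectProduct.inr (QuotientGroup.mk g))⁻¹ = SemidirectProduct.inl (MulAut.conjNormal g v) := by
    intro g v
    rw [← map_inv]
    exact (SemidirectProduct.inl_aut (φ := φ) (QuotientGroup.mk g) v).symm
  have hinj : Function.Injective (SemidirectProduct.inl : V →* X) := SemidirectProduct.inl_injective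
  have hf : H ⊓ centralizer (U : Set X) = ⊥ := by
    rw [eq_bot_iff]
    rintro _ ⟨⟨q, rfl⟩, hq⟩
    obtain ⟨g, rfl⟩ := QuotientGroup.mk_surjective q
    have hgC : g ∈ C := by
      refine mem_centralizer_iff.2 fun v hv => ?_
      have h1 := mem_centralizer_iff.1 hq _ (⟨⟨v, hv⟩, rfl⟩ : SemidirectProduct.inl ⟨v, hv⟩ ∈ U)
      have h2 := conj_inl g ⟨v, hv⟩
      rw [← h1, mul_inv_cancel_right] at h2
      have h3 := congrArg Subtype.val (hinj h2)
      rw [MulAut.conjNormal_apply] at h3
      exact (eq_mul_inv_iff_mul_eq.1 h3).symm ▸ rfl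
    rw [(QuotientGroup.eq_one_iff g).2 hgC, map_one]
    exact one_mem _
  set e : G ⧸ C ≃* H := MonoidHom.ofInjective SemidirectProduct.inr_injective
  set b : X := SemidirectProduct.inr (QuotientGroup.mk a)
  have hq : ⁅⁅U, zpowers b⁆, zpowers b⁆ = ⊥ := by
    refine quadratic_of_forall (le_normalizer_of_normal (K := ⊤) (mem_top b)) ?_
    rintro _ ⟨v, rfl⟩
    have hd : MulAut.conjNormal a (MulAut.conjNormal a v * v⁻¹) = MulAut.conjNormal a v * v⁻¹ := by
      have hm : (MulAut.conjNormal a v * v⁻¹ : V).1 ∈ ⁅V, zpowers a⁆ := by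
        rw [commutator_comm]
        simpa [commutatorElement_def] using commutator_mem_commutator (mem_zpowers a) v.2
      refine Subtype.ext ?_
      have hc := mem_centralizer_iff.1 (commutator_eq_bot_iff_le_centralizer.1 ha hm) a (mem_zpowers a)
      rw [MulAut.conjNormal_apply]
      rw [hc, mul_inv_cancel_right]
    rw [conj_inl, ← map_inv SemidirectProduct.inl, ← map_mul SemidirectProduct.inl]
    refine (commute_iff_eq _ _).2 (mul_inv_eq_iff_eq_mul.1 ?_)
    rw [conj_inl, hd]
  obtain ⟨z, hz, hzb⟩ := h X U H hUe le_normalizer_of_normal hf ⟨e⟩ b ⟨_, rfl⟩ hq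
  have hze : z = e (QuotientGroup.mk a) := Subtype.ext hzb
  rw [hze, ← Cores.pCore_map_mulEquiv e] at hz
  obtain ⟨y, hy, hye⟩ := hz
  rwa [← e.injective hye]

theorem isPSolvable_of_isPiSeparable [Fact p.Prime] {G : Type u} [Group G] [Finite G]
    (h : Solvable.IsPiSeparable {p} G) : Cfsg.IsPSolvable p G := by
  obtain ⟨n, hn⟩ : ∃ n, n = Nat.card G := ⟨_, rfl⟩
  induction n using Nat.strong_induction_on generalizing G with
  | _ n IH =>
  subst hn
  rcases subsingleton_or_nontrivial G with hs | hs
  · exact ClassIndex.isPSolvable_of_subsingleton G p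
  obtain ⟨M, hM, hne, hnum⟩ := h.exists_normal_ne_bot
  refine ClassIndex.isPSolvable_of_ext M ?_ (IH _ (card_quotient_lt hne) (h.quotient M) rfl)
  rcases hnum with h1 | h1
  · exact Or.inl ⟨_, Nat.eq_prime_pow_of_unique_prime_dvd Nat.card_pos.ne' fun {q} hq hd => h1 q hq hd⟩
  · exact Or.inr (((Fact.out : p.Prime).coprime_iff_not_dvd.2 fun hd => h1 p Fact.out hd rfl).symm)

theorem isPSolvable_surjective [Fact p.Prime] {G G' : Type u} [Group G] [Group G'] [Finite G] [Finite G']
    (h : Cfsg.IsPSolvable p G) (f : G →* G') (hf : Function.Surjective f) : Cfsg.IsPSolvable p G' :=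
  isPSolvable_of_isPiSeparable ((Solvable.isPiSeparable_of_isPSolvable h).of_surjective f hf)

theorem isPSolvable_subgroup [Fact p.Prime] {G : Type u} [Group G] [Finite G]
    (h : Cfsg.IsPSolvable p G) (H : Subgroup G) : Cfsg.IsPSolvable p H :=
  isPSolvable_of_isPiSeparable ((Solvable.isPiSeparable_of_isPSolvable h).subgroup H)

/-- `p ≥ 5` and `p`-solvable: stable on every normal `p`-subgroup. -/
theorem pStableOn_of_pSolvable [Fact p.Prime] (hp : p ≠ 2) (hp3 : p ≠ 3) {G : Type u} [Group G] [Finite G]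
    (h : Cfsg.IsPSolvable p G) (P : Subgroup G) [P.Normal] (hP : IsPGroup p P) : Cfsg.IsPStableOn p P := by
  refine pStableOn_of_minimal (fun N _ _ V _ hV _ => pStableOn_of_faithful hV ?_) P hP
  intro X _ _ U H hU hHU hf ⟨e⟩ a haH hq
  by_contra hna
  have hQ : Cfsg.IsPSolvable p H := isPSolvable_surjective (isPSolvable_surjective
    (isPSolvable_surjective h _ (QuotientGroup.mk'_surjective N)) _
      (QuotientGroup.mk'_surjective (centralizer (V : Set (G ⧸ N))))) e.toMonoidHom e.surjective
  exact hp3 (S0596.result hp U H hU hHU hf hQ a haH hq hna).1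

theorem sylow_two_surjective {G G' : Type u} [Group G] [Group G'] [Finite G] [Finite G']
    (h : ∀ T : Sylow 2 G, IsMulCommutative T) (f : G →* G') (hf : Function.Surjective f) :
    ∀ T : Sylow 2 G', IsMulCommutative T := by
  intro T
  haveI : Fact (Nat.Prime 2) := ⟨Nat.prime_two⟩
  obtain ⟨P, rfl⟩ := Sylow.mapSurjective_surjective hf 2 T
  refine le_centralizer_iff_isMulCommutative.1 ?_
  rw [Sylow.coe_mapSurjective]
  exact (map_mono (le_centralizer_iff_isMulCommutative.2 (h P))).trans (map_centralizer_le_centralizer_image _ f)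

theorem sylow_two_subgroup {G : Type u} [Group G] [Finite G] (h : ∀ T : Sylow 2 G, IsMulCommutative T)
    (H : Subgroup G) : ∀ T : Sylow 2 H, IsMulCommutative T := by
  intro T
  haveI : Fact (Nat.Prime 2) := ⟨Nat.prime_two⟩
  obtain ⟨S, hS⟩ := (T.2.map H.subtype).exists_le_sylow
  refine le_centralizer_iff_isMulCommutative.1 fun x hx => mem_centralizer_iff.2 fun y hy => Subtype.ext ?_
  exact mem_centralizer_iff.1 (le_centralizer_iff_isMulCommutative.2 (h S) (hS ⟨x, hx, rfl⟩)) _ (hS ⟨y, hy, rfl⟩)

theorem pStableOn_of_abelian_sylow_two [Fact p.Prime] (hp : p ≠ 2) {G : Type u} [Group G] [Finite G]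
    (h : ∀ T : Sylow 2 G, IsMulCommutative T) (P : Subgroup G) [P.Normal] (hP : IsPGroup p P) :
    Cfsg.IsPStableOn p P := by
  refine pStableOn_of_minimal (fun N _ _ V _ hV _ => pStableOn_of_faithful hV ?_) P hP
  intro X _ _ U H hU hHU hf ⟨e⟩ a haH hq
  by_contra hna
  have hQ := sylow_two_surjective (sylow_two_surjective
    (sylow_two_surjective h _ (QuotientGroup.mk'_surjective N)) _
      (QuotientGroup.mk'_surjective (centralizer (V : Set (G ⧸ N))))) e.toMonoidHom e.surjective
  exact S0595.result hp U H hU hHU hf a haH hq hna (default : Sylow 2 H) (hQ _)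

theorem isActionPStable_of_pSolvable [Fact p.Prime] (hp : p ≠ 2) (hp3 : p ≠ 3) {G : Type u} [Group G] [Finite G]
    (h : Cfsg.IsPSolvable p G) : Cfsg.IsActionPStable p G :=
  isActionPStable_of_pStableOn (fun P _ hP => pStableOn_of_pSolvable hp hp3 h P hP)
    (fun N _ P _ hP => pStableOn_of_pSolvable hp hp3 (isPSolvable_surjective h _ (QuotientGroup.mk'_surjective N)) P hP)
    (fun M P _ hP => pStableOn_of_pSolvable hp hp3 (isPSolvable_subgroup h M) P hP)

theorem isActionPStable_of_abelian_sylow_two [Fact p.Prime] (hp : p ≠ 2) {G : Type u} [Group G] [Finite G]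
    (h : ∀ T : Sylow 2 G, IsMulCommutative T) : Cfsg.IsActionPStable p G :=
  isActionPStable_of_pStableOn (fun P _ hP => pStableOn_of_abelian_sylow_two hp h P hP)
    (fun N _ P _ hP => pStableOn_of_abelian_sylow_two hp
      (sylow_two_surjective h _ (QuotientGroup.mk'_surjective N)) P hP)
    (fun M P _ hP => pStableOn_of_abelian_sylow_two hp (sylow_two_subgroup h M) P hP)

/-- `N(W(S))` supplements the `p'`-core. -/
theorem W_factorization [Fact p.Prime] (hp : p ≠ 2) (hp3 : p ≠ 3) {G : Type u} [Group G] [Finite G]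
    (h : Cfsg.IsPSolvable p G) (S : Sylow p G) :
    Cfsg.pPrimeCore p G ⊔ normalizer (WOf p (S : Subgroup G) : Set G) = ⊤ := by
  set O := Cfsg.pPrimeCore p G
  set f := QuotientGroup.mk' O
  have hf : Function.Surjective f := QuotientGroup.mk'_surjective O
  have hker : (Nat.card f.ker).Coprime p := by
    rw [QuotientGroup.ker_mk']; exact Cores.coprime_card_pPrimeCore p
  have hQ := isPSolvable_surjective h f hf
  have hc : centralizer (Cfsg.pCore p (G ⧸ O) : Set (G ⧸ O)) ≤ Cfsg.pCore p (G ⧸ O) :=
    HallHigman.centralizer_pCore_le_of_isPSolvable hQ (Cores.pPrimeCore_quotient_self p)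
  have hn := W_normal (isActionPStable_of_pSolvable hp hp3 hQ) hc (S.mapSurjective hf)
  change (WOf p ((S.mapSurjective hf : Sylow p (G ⧸ O)) : Subgroup (G ⧸ O))).Normal at hn
  rw [Sylow.coe_mapSurjective, ← map_WOf f _ (injOn_of_pGroup f hker S.2)] at hn
  have htop : (normalizer (WOf p (S : Subgroup G) : Set G)).map f = ⊤ := by
    rw [← normalizer_map_eq f hf hker (S.2.to_le (map_subtype_le _)), normalizer_eq_top_iff.2 hn]
  rw [← comap_top f, ← htop, comap_map_eq, QuotientGroup.ker_mk', sup_comm]

end Cfsg.Agent.PLocal
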