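import Cfsg.Agent.Lib.PLocal.Glauberman
import Cfsg.Agent.Lib.Cores.Subnormal

/-!
Glauberman's ZJ-theorem (namespace `Cfsg.Agent.PLocal`).

* `exists_normalized_member`: the replacement property for a family `maxIn Q D`
* `zj_normal`: `sInf (maxIn Q S)` is normal in `G` for `p`-stable, `p`-constrained `G`, `p` odd
-/

namespace Cfsg.Agent.PLocal

open scoped commutatorElement

variable {G : Type*} [Group G]

/-- The properties of subgroups the ZJ argument needs. -/
structure GoodClass (Q : Subgroup G → Prop) : Prop where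
  bot : Q ⊥
  abel : ∀ A, Q A → IsMulCommutative A
  conj : ∀ (g : G) A, Q A → Q (A.map (MulAut.conj g).toMonoidHom)
  replace_mem : ∀ A A' : Subgroup G, Q A → IsMulCommutative A' →
    Monoid.exponent A' ∣ Monoid.exponent A → Q A'

theorem goodClass_abelian : GoodClass (abelian (G := G)) :=
  ⟨abelian_bot, fun _ h => h,
    fun g _ h => (abelian_map_iff (H := ⊤) (MulAut.conj g).injective.injOn le_top).2 h, fun _ _ _ h _ => h⟩

theorem goodClass_elemAb (p : ℕ) : GoodClass (elemAb (G := G) p) := by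
  refine ⟨elemAb_bot, fun _ h => h.1, fun g _ h => elemAb_map _ h, fun A A' hA hab hdvd => ⟨hab, fun a ha => ?_⟩⟩
  have h1 : Monoid.exponent A ∣ p := Monoid.exponent_dvd_of_forall_pow_eq_one fun x => Subtype.ext (hA.2 x x.2)
  obtain ⟨m, hm⟩ := hdvd.trans h1
  rw [hm, pow_mul, show a ^ Monoid.exponent A' = 1 from congrArg Subtype.val (Monoid.pow_exponent_eq_one (⟨a, ha⟩ : A')),
    one_pow]

theorem GoodClass.maxIn_conj {Q : Subgroup G → Prop} (hQ : GoodClass Q) {T A : Subgroup G}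
    (hA : A ∈ maxIn Q T) {g : G} (hg : g ∈ Subgroup.normalizer (T : Set G)) :
    A.map (MulAut.conj g).toMonoidHom ∈ maxIn Q T := by
  refine ⟨(Subgroup.map_mono hA.1).trans (mem_normalizer_iff_map_eq.1 hg).le, hQ.conj g A hA.2.1, fun B hB hQB => ?_⟩
  rw [Subgroup.card_map_of_injective (f := (MulAut.conj g).toMonoidHom) (MulAut.conj g).injective]
  exact hA.2.2 B hB hQB

theorem GoodClass.normalizer_le_normalizer_sInf {Q : Subgroup G → Prop} (hQ : GoodClass Q) (T : Subgroup G) :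
    Subgroup.normalizer (T : Set G) ≤ Subgroup.normalizer ((sInf (maxIn Q T) : Subgroup G) : Set G) := by
  refine Subgroup.le_normalizer_iff.2 fun g hg x hx => Subgroup.mem_sInf.2 fun A hA => ?_
  obtain ⟨y, hy, hyx⟩ : x ∈ A.map (MulAut.conj g⁻¹).toMonoidHom :=
    Subgroup.mem_sInf.1 hx _ (hQ.maxIn_conj hA (Subgroup.inv_mem _ hg))
  have e : g * x * g⁻¹ = y := by
    rw [← hyx]; simp [mul_assoc]
  rw [e]; exact hy

/-- Some member containing `[B, B]` but not `B` is normalised by `B`. -/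
theorem exists_normalized_member [Finite G] {p : ℕ} [Fact p.Prime] (hp : p ≠ 2) (hG : IsPGroup p G)
    {Q : Subgroup G → Prop} (hQ : GoodClass Q) (D : Subgroup G) [D.Normal] (B : Subgroup G) [B.Normal]
    (hex : ∃ U ∈ maxIn Q D, ⁅B, B⁆ ≤ U ∧ ¬ B ≤ U) :
    ∃ A ∈ maxIn Q D, ⁅B, B⁆ ≤ A ∧ ¬ B ≤ A ∧ B ≤ Subgroup.normalizer (A : Set G) := by
  obtain ⟨A, ⟨hA, hBA, hnB⟩, hmax⟩ := Set.exists_max_image {A | A ∈ maxIn Q D ∧ ⁅B, B⁆ ≤ A ∧ ¬ B ≤ A}
    (fun A : Subgroup G => Nat.card ↥(A ⊓ B)) (Set.toFinite _) hex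
  refine ⟨A, hA, hBA, hnB, ?_⟩
  by_contra hnot
  obtain ⟨A', -, hab, hcard, hexp, hB', hlt, hnB', hT⟩ := exists_replacement (S := ⊤) hp (hG.to_subgroup _)
    le_top le_top (Subgroup.le_normalizer_of_normal) (hQ.abel A hA.2.1) hBA hnot
  have hA' : A' ∈ maxIn Q D := ⟨hT D hA.1 Subgroup.le_normalizer_of_normal,
    hQ.replace_mem A A' hA.2.1 hab hexp, fun C hC hQC => hcard ▸ hA.2.2 C hC hQC⟩
  exact hlt.ne (eq_of_le_of_card_le hlt.le (hmax A' ⟨hA', hB', hnB'⟩))

/-- **Glauberman's ZJ-theorem**, for either Thompson subgroup. -/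
theorem zj_normal [Finite G] {p : ℕ} [Fact p.Prime] (hp : p ≠ 2) {Q : Subgroup G → Prop} (hQ : GoodClass Q)
    (hc : Subgroup.centralizer (Cfsg.pCore p G : Set G) ≤ Cfsg.pCore p G)
    (hst : ∀ (P : Subgroup G) [P.Normal], IsPGroup p P → Cfsg.IsPStableOn p P) (S : Sylow p G) :
    (sInf (maxIn Q (S : Subgroup G))).Normal := by
  set Z := sInf (maxIn Q (S : Subgroup G))
  obtain ⟨A₀, hA₀⟩ := exists_maxIn hQ.bot (S : Subgroup G)
  have hZA : ∀ A ∈ maxIn Q (S : Subgroup G), Z ≤ A := fun A hA => sInf_le hA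
  have hAA : ∀ A : Subgroup G, Q A → A ≤ Subgroup.centralizer (A : Set G) := fun A hA =>
    Subgroup.le_centralizer_iff_isMulCommutative.2 (hQ.abel A hA)
  have hZab : Z ≤ Subgroup.centralizer (Z : Set G) :=
    (hZA _ hA₀).trans ((hAA _ hA₀.2.1).trans (Subgroup.centralizer_le (hZA _ hA₀)))
  have hSZ : (S : Subgroup G) ≤ Subgroup.normalizer (Z : Set G) :=
    Subgroup.le_normalizer.trans (hQ.normalizer_le_normalizer_sInf _)
  have hPS : Cfsg.pCore p G ≤ (S : Subgroup G) := Cores.pCore_le_sylow S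
  have hZP : Z ≤ Cfsg.pCore p G := by
    intro a ha
    set P := Cfsg.pCore p G
    have hCp : IsPGroup p ↥(QuotientGroup.mk' (Subgroup.centralizer (P : Set G))).ker := by
      rw [QuotientGroup.ker_mk']; exact (Cores.isPGroup_pCore p G).to_le hc
    refine Cores.comap_pCore_le _ hCp (hst P (Cores.isPGroup_pCore p G) a (le_bot_iff.1 ?_))
    refine (Subgroup.commutator_mono (Subgroup.commutator_mono le_rfl (Subgroup.zpowers_le.2 ha))
      (Subgroup.zpowers_le.2 ha)).trans ?_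
    refine (Subgroup.commutator_mono (?_ : ⁅P, Z⁆ ≤ Z) le_rfl).trans
      (Subgroup.commutator_eq_bot_iff_le_centralizer.2 hZab).le
    exact Subgroup.le_normalizer_iff_commutator_le_right.1 (hPS.trans hSZ)
  suffices main : ∀ B : Subgroup G, B.Normal → IsPGroup p B → (B ⊓ Z).Normal by
    have := main _ (Cores.pCore_normal p G) (Cores.isPGroup_pCore p G)
    rwa [inf_eq_right.2 hZP] at this
  intro B
  induction B using WellFoundedLT.induction with
  | ind B IH =>
  intro hBn hBp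
  have hBS : B ≤ (S : Subgroup G) := (Cores.le_pCore hBn hBp).trans hPS
  set B₁ := Subgroup.normalClosure ((B ⊓ Z : Subgroup G) : Set G)
  haveI : B₁.Normal := Subgroup.normalClosure_normal
  have hB₁ : B₁ ≤ B := Subgroup.normalClosure_le_normal inf_le_left
  rcases hB₁.lt_or_eq with hlt | heq
  · have := IH B₁ hlt inferInstance (hBp.to_le hB₁)
    rwa [show B₁ ⊓ Z = B ⊓ Z from le_antisymm (inf_le_inf_right _ hB₁)
      (le_inf Subgroup.le_normalClosure inf_le_right)] at this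
  rcases eq_or_ne B ⊥ with hb | hb
  · rw [hb, bot_inf_eq]; infer_instance
  have hgen : ∀ K : Subgroup G, K.Normal → B ⊓ Z ≤ K → B ≤ K := fun K hK hle =>
    heq.ge.trans (Subgroup.normalClosure_le_normal hle)
  -- `[B, B] ≤ Z`
  set B' : Subgroup G := ⁅B, B⁆
  have hB'lt : B' < B := by
    refine lt_of_le_of_ne (Subgroup.commutator_le_self B) fun e => hb ?_
    haveI : Group.IsNilpotent B := hBp.isNilpotent
    obtain ⟨n, hn⟩ := (Subgroup.isNilpotent_iff_lowerCentralSeries B).1 inferInstance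
    have hall : ∀ k, B.lowerCentralSeries k = B := by
      intro k; induction k with
      | zero => rfl
      | succ k ih => rw [Subgroup.lowerCentralSeries_succ, ih]; exact e
    exact (hall n).symm.trans hn
  haveI hM : (B' ⊓ Z).Normal := IH B' hB'lt inferInstance (hBp.to_le hB'lt.le)
  have hB'Z : B' ≤ Z := by
    set M := B' ⊓ Z
    set K := (Subgroup.centralizer ((B.map (QuotientGroup.mk' M) : Subgroup (G ⧸ M)) : Set (G ⧸ M))).comap
      (QuotientGroup.mk' M)
    haveI hKn : K.Normal := by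
      haveI := hBn.map (QuotientGroup.mk' M) (QuotientGroup.mk'_surjective M)
      exact Subgroup.Normal.comap inferInstance _
    have hle : B ⊓ Z ≤ K := by
      intro x hx
      refine Subgroup.mem_comap.2 (Subgroup.mem_centralizer_iff.2 ?_)
      rintro _ ⟨y, hy, rfl⟩
      have hm : ⁅x, y⁆ ∈ M := ⟨Subgroup.commutator_mem_commutator hx.1 hy, by
        have h1 : x * y * x⁻¹ * y⁻¹ = x * (y * x⁻¹ * y⁻¹) := by group
        rw [commutatorElement_def, h1]
        exact Z.mul_mem hx.2 (conj_mem (hSZ (hBS hy)) (Z.inv_mem hx.2))⟩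
      have h2 : QuotientGroup.mk' M ⁅x, y⁆ = 1 := (QuotientGroup.eq_one_iff _).2 hm
      rw [map_commutatorElement, commutatorElement_eq_one_iff_commute] at h2
      exact h2.eq.symm
    have hBK := hgen K hKn hle
    refine (Subgroup.commutator_le.2 fun x hx y hy => ?_).trans (inf_le_right : M ≤ Z)
    have h2 : QuotientGroup.mk' M ⁅x, y⁆ = 1 := by
      rw [map_commutatorElement, commutatorElement_eq_one_iff_commute]
      exact (Subgroup.mem_centralizer_iff.1 (hBK hx) _ ⟨y, hy, rfl⟩).symm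
    exact (QuotientGroup.eq_one_iff _).1 h2
  -- the subgroup `L`
  set BZ := B ⊓ Z
  set L := (Subgroup.normalizer (BZ : Set G)).normalCore
  have hLle : L ≤ Subgroup.normalizer (BZ : Set G) := Subgroup.normalCore_le _
  have hSBZ : (S : Subgroup G) ≤ Subgroup.normalizer (BZ : Set G) := fun g hg =>
    Subgroup.mem_normalizer_iff.2 fun x => and_congr
      (Subgroup.mem_normalizer_iff.1 (Subgroup.le_normalizer_of_normal (H := B) (K := ⊤) (Subgroup.mem_top g)) x)
      (Subgroup.mem_normalizer_iff.1 (hSZ hg) x)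
  have hclaim : ∀ A ∈ maxIn Q (S : Subgroup G), B ≤ Subgroup.normalizer (A : Set G) → A ≤ L := by
    intro A hA hBA a ha
    set C := Subgroup.centralizer (B : Set G)
    have hq : ⁅⁅B, Subgroup.zpowers a⁆, Subgroup.zpowers a⁆ = ⊥ := by
      refine le_bot_iff.1 ((Subgroup.commutator_mono (Subgroup.commutator_mono le_rfl (Subgroup.zpowers_le.2 ha))
        (Subgroup.zpowers_le.2 ha)).trans ?_)
      exact (Subgroup.commutator_mono (Subgroup.le_normalizer_iff_commutator_le_right.1 hBA) le_rfl).trans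
        (Subgroup.commutator_eq_bot_iff_le_centralizer.2 (hAA A hA.2.1)).le
    set D := (Cfsg.pCore p (G ⧸ C)).comap (QuotientGroup.mk' C)
    haveI : D.Normal := Subgroup.Normal.comap (Cores.pCore_normal p _) _
    have hDle : D ≤ Subgroup.normalizer (BZ : Set G) := by
      intro d hd
      obtain ⟨s, hs, hsd⟩ :=
        Cores.pCore_le_sylow (S.mapSurjective (QuotientGroup.mk'_surjective C)) hd
      have hcC : s⁻¹ * d ∈ C := QuotientGroup.eq.1 hsd
      have := Subgroup.mul_mem _ (hSBZ hs)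
        (Subgroup.centralizer_le_normalizer _ (Subgroup.centralizer_le (s := (BZ : Set G)) (t := B) inf_le_left hcC))
      simpa using this
    exact (Subgroup.normal_le_normalCore.2 hDle) (hst B hBp a hq)
  set T := (S : Subgroup G) ⊓ L
  obtain ⟨A₁, hA₁, hA₁max⟩ := Set.exists_max_image (maxIn Q (S : Subgroup G))
    (fun A : Subgroup G => Nat.card ↥(A ⊓ B)) (Set.toFinite _) ⟨A₀, hA₀⟩
  have hder : ∀ A ∈ maxIn Q (S : Subgroup G), B' ≤ A := fun A hA => hB'Z.trans (hZA A hA)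
  have hrep : ∀ A ∈ maxIn Q (S : Subgroup G), ¬ B ≤ Subgroup.normalizer (A : Set G) →
      ∃ A' ∈ maxIn Q (S : Subgroup G), A ⊓ B < A' ⊓ B ∧ ¬ B ≤ A' := by
    intro A hA hnot
    obtain ⟨A', hA'S, hab, hcard, hexp, -, hlt, hnB, -⟩ := exists_replacement hp S.isPGroup' hA.1 hBS
      (Subgroup.le_normalizer_of_normal) (hQ.abel A hA.2.1) (hder A hA) hnot
    exact ⟨A', ⟨hA'S, hQ.replace_mem A A' hA.2.1 hab hexp, fun C hC hQC => hcard ▸ hA.2.2 C hC hQC⟩, hlt, hnB⟩
  have hA₁L : A₁ ≤ L := hclaim A₁ hA₁ (by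
    by_contra hnot
    obtain ⟨A', hA', hlt, -⟩ := hrep A₁ hA₁ hnot
    exact hlt.ne (eq_of_le_of_card_le hlt.le (hA₁max A' hA')))
  have hTS : maxIn Q T ⊆ maxIn Q (S : Subgroup G) := maxIn_subset hA₁ (le_inf hA₁.1 hA₁L) inf_le_left
  set Z₁ := sInf (maxIn Q T)
  have hZZ₁ : Z ≤ Z₁ := sInf_le_sInf hTS
  have hBZ₁ : B ≤ Z₁ := by
    let P : Sylow p L := (S.isPGroup'.comap_subtype (K := L)).toSylow fun hd =>
      S.not_dvd_index (hd.trans (Cores.relIndex_dvd_index_of_normal_right _ L))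
    have hP : (P : Subgroup L).map L.subtype = T := Subgroup.subgroupOf_map_subtype _ _
    have hfr := Sylow.normalizer_sup_eq_top P
    rw [hP] at hfr
    refine heq.ge.trans ((Subgroup.closure_le _).2 ?_)
    intro x hx
    obtain ⟨z, hz, hconj⟩ := Group.mem_conjugatesOfSet_iff.1 hx
    obtain ⟨g, rfl⟩ := isConj_iff.1 hconj
    obtain ⟨n, hn, l, hl, rfl⟩ := Subgroup.mem_sup_of_normal_right.1 (hfr.symm ▸ Subgroup.mem_top g)
    have h1 : l * z * l⁻¹ ∈ BZ := conj_mem (hLle hl) hz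
    have h2 := conj_mem (hQ.normalizer_le_normalizer_sInf T hn) (hZZ₁ h1.2)
    have e : n * l * z * (n * l)⁻¹ = n * (l * z * l⁻¹) * n⁻¹ := by group
    rw [SetLike.mem_coe, e]
    exact h2
  by_cases hall : ∀ A ∈ maxIn Q (S : Subgroup G), A ≤ L
  · have hZe : Z₁ ≤ Z :=
      le_sInf fun A hA => sInf_le (maxIn_of_mem_le hA (le_inf hA.1 (hall A hA)) inf_le_left)
    rw [show BZ = B from inf_eq_left.2 (hBZ₁.trans hZe)]
    exact hBn
  · simp only [not_forall] at hall
    obtain ⟨A₂', hA₂', hn₂'⟩ := hall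
    obtain ⟨A₂, ⟨hA₂, hnL⟩, hmax⟩ := Set.exists_max_image {A | A ∈ maxIn Q (S : Subgroup G) ∧ ¬ A ≤ L}
      (fun A : Subgroup G => Nat.card ↥(A ⊓ B)) (Set.toFinite _) ⟨A₂', hA₂', hn₂'⟩
    obtain ⟨A', hA', hlt, hnB⟩ := hrep A₂ hA₂ fun h => hnL (hclaim A₂ hA₂ h)
    have hA'L : A' ≤ L := by
      by_contra h
      exact hlt.ne (eq_of_le_of_card_le hlt.le (hmax A' ⟨hA', h⟩))
    exact absurd (hBZ₁.trans (sInf_le (maxIn_of_mem_le hA' (le_inf hA'.1 hA'L) inf_le_left))) hnB

theorem characteristic_of_normal_functorial [Finite G] {p : ℕ} [Fact p.Prime] (F : Subgroup G → Subgroup G)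
    (hF : ∀ (e : G ≃* G) (H : Subgroup G), (F H).map e.toMonoidHom = F (H.map e.toMonoidHom))
    (S : Sylow p G) (hn : (F (S : Subgroup G)).Normal) : (F (S : Subgroup G)).Characteristic := by
  refine Subgroup.characteristic_iff_map_eq.2 fun e => ?_
  rw [hF]
  obtain ⟨g, hg⟩ := MulAction.exists_smul_eq G S (S.mapSurjective (f := e.toMonoidHom) e.surjective)
  rw [← Sylow.coe_mapSurjective (f := e.toMonoidHom) (hf := e.surjective), ← hg, Sylow.coe_subgroup_smul]
  show F ((S : Subgroup G).map (MulAut.conj g).toMonoidHom) = _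
  rw [← hF, mem_normalizer_iff_map_eq.1 (Subgroup.le_normalizer_of_normal (K := ⊤) (Subgroup.mem_top g))]

end Cfsg.Agent.PLocal
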