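import Cfsg.Agent.Lib.PLocal.Quotient
import Cfsg.Agent.Lib.PLocal.Functor
import Cfsg.Agent.Lib.PLocal.ZJ
import Cfsg.Agent.Lib.Constrained.Basic
import Cfsg.Agent.Lib.Coprime.Invariant
import Cfsg.Agent.Lib.Transfer.Residual
import Cfsg.Agent.Lib.PLocal.Grows

/-!
`p`-constrained `p`-stable groups (namespace `Cfsg.Agent.PLocal`).

* `pStableOn_of_pPart`: `p`-stability only has to be tested on `p`-elements
* `pStableOn_of_isPStable`: `IsPStable` gives `IsPStableOn` for `G / O_{p'}(G)`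
* `glauberman_factorization`: `O_{p'}(G) N(Z(J(P))) = G`
-/

namespace Cfsg.Agent.PLocal

open Subgroup

variable {G : Type*} [Group G] {p : ℕ}

theorem pStableOn_of_pPart [Finite G] [Fact p.Prime] (P : Subgroup G) [P.Normal] (hP : IsPGroup p P)
    (h : ∀ a : G, (∃ k, orderOf a = p ^ k) → ⁅⁅P, zpowers a⁆, zpowers a⁆ = ⊥ →
      (QuotientGroup.mk a : G ⧸ centralizer (P : Set G)) ∈ Cfsg.pCore p (G ⧸ centralizer (P : Set G))) :
    Cfsg.IsPStableOn p P := by
  intro a ha
  obtain ⟨x, y, rfl, hx, hy, hxp, hyp⟩ := Transfer.exists_pPart_mul (p := p) a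
  have hb : ∀ z ∈ zpowers (x * y), ⁅⁅P, zpowers z⁆, zpowers z⁆ = ⊥ := fun z hz =>
    le_bot_iff.1 ((commutator_mono (commutator_mono le_rfl (zpowers_le.2 hz)) (zpowers_le.2 hz)).trans ha.le)
  have hyC : y ∈ centralizer (P : Set G) := by
    have hcop : (Nat.card (zpowers y)).Coprime (Nat.card P) := by
      obtain ⟨n, hn⟩ := IsPGroup.iff_card.1 hP
      rw [hn, Nat.card_zpowers]
      exact hyp.pow_right n
    haveI := hP.isNilpotent
    have h1 := Coprime.commutator_commutator_eq (A := zpowers y) (K := P) le_normalizer_of_normal hcop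
      (Or.inr inferInstance)
    rw [hb y hy] at h1
    exact le_centralizer_comm (commutator_eq_bot_iff_le_centralizer.1 h1.symm) (mem_zpowers y)
  rw [QuotientGroup.mk_mul, (QuotientGroup.eq_one_iff y).2 hyC, mul_one]
  exact h x hxp (hb x hx)

theorem pStableOn_of_isPStable [Finite G] [Fact p.Prime] (hs : Cfsg.IsPStable p G)
    (P' : Subgroup (G ⧸ Cfsg.pPrimeCore p G)) [P'.Normal] (hP' : IsPGroup p P') : Cfsg.IsPStableOn p P' := by
  set O := Cfsg.pPrimeCore p G
  set f := QuotientGroup.mk' O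
  have hf : Function.Surjective f := QuotientGroup.mk'_surjective O
  have hker : (Nat.card f.ker).Coprime p := by
    rw [QuotientGroup.ker_mk']; exact Cores.coprime_card_pPrimeCore p
  set M := P'.comap f
  haveI : M.Normal := inferInstance
  obtain ⟨S⟩ : Nonempty (Sylow p M) := inferInstance
  set P := (S : Subgroup M).map M.subtype
  have hPp : IsPGroup p P := S.2.map _
  have hfP : P.map f = P' := by
    refine le_antisymm ((map_mono (map_subtype_le _)).trans (map_comap_le f P')) ?_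
    have hs' : Function.Surjective (f.subgroupComap P') := f.subgroupComap_surjective_of_surjective P' hf
    have h1 : (S.mapSurjective hs' : Subgroup P') = ⊤ :=
      top_le_iff.1 ((S.mapSurjective hs').3 (fun x => ?_) le_top).le
    · intro x hx
      have h2 : (⟨x, hx⟩ : P') ∈ (S.mapSurjective hs' : Subgroup P') := h1.ge (mem_top _)
      rw [Sylow.coe_mapSurjective] at h2
      obtain ⟨y, hy, hyx⟩ := h2
      exact ⟨y, ⟨y, hy, rfl⟩, congrArg Subtype.val hyx⟩
    · obtain ⟨k, hk⟩ := hP' x.1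
      exact ⟨k, Subtype.ext hk⟩
  refine pStableOn_of_pPart P' hP' fun a hap ha => ?_
  -- lift `a` to a `p`-element normalising `P`
  set N := normalizer (P : Set G)
  have hNtop : N.map f = ⊤ := by
    rw [← normalizer_map_eq f hf hker hPp, hfP, normalizer_eq_top_iff.2 ‹P'.Normal›]
  obtain ⟨g, hg, hga⟩ := hNtop.ge (mem_top a)
  obtain ⟨x, y, hgxy, hx, hy, hxp, hyp⟩ := Transfer.exists_pPart_mul (p := p) g
  have hy1 : f y = 1 := by
    obtain ⟨k, hk⟩ := hap
    have h1 : f y ^ p ^ k = 1 := by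
      obtain ⟨j, rfl⟩ := hy
      show f (g ^ j) ^ p ^ k = 1
      rw [map_zpow, hga, ← zpow_natCast, ← zpow_mul, mul_comm, zpow_mul, zpow_natCast, ← hk, pow_orderOf_eq_one,
        one_zpow]
    have h2 : f y ^ orderOf y = 1 := by rw [← map_pow, pow_orderOf_eq_one, map_one]
    have h3 := pow_gcd_eq_one.2 ⟨h2, h1⟩
    rwa [Nat.coprime_iff_gcd_eq_one.1 (hyp.pow_right k), pow_one] at h3
  have hxa : f x = a := by rw [← hga, hgxy, map_mul, hy1, mul_one]
  have hxN : x ∈ N := zpowers_le.2 hg hx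
  have hA : IsPGroup p (zpowers x) := by
    obtain ⟨k, hk⟩ := hxp
    exact IsPGroup.of_card (n := k) (by rw [Nat.card_zpowers, hk])
  have hAN : zpowers x ≤ N := zpowers_le.2 hxN
  have hq : ⁅⁅P, zpowers x⁆, zpowers x⁆ = ⊥ := by
    have h0 : ⁅P, zpowers x⁆ ≤ P := commutator_le_left_of_normalizes hAN
    have h1 : ⁅⁅P, zpowers x⁆, zpowers x⁆ ≤ P := (commutator_mono h0 le_rfl).trans h0
    refine le_bot_iff.1 fun z hz => ?_
    have h2 : f z ∈ (⁅⁅P, zpowers x⁆, zpowers x⁆).map f := ⟨z, hz, rfl⟩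
    rw [map_commutator, map_commutator, MonoidHom.map_zpowers, hxa, hfP, ha, mem_bot] at h2
    exact mem_bot.2 (injOn_of_pGroup f hker hPp (h1 hz) P.one_mem (h2.trans (map_one f).symm))
  have hPO : P ≤ Cfsg.pPrimePCore p G :=
    map_le_iff_le_comap.1 (hfP.le.trans (Cores.le_pCore inferInstance hP'))
  have hn : (O ⊔ P).Normal := by
    have : O ⊔ P = M := by
      rw [show M = (P.map f).comap f by rw [hfP], comap_map_eq, QuotientGroup.ker_mk', sup_comm]
    rw [this]; infer_instance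
  have key := hs.2.2 (zpowers x) P hA hPp (fun b hb z hz => conj_mem (hAN hb) hz) hPO hn hq
  set C := centralizer (P' : Set (G ⧸ O))
  set φ0 : N →* (G ⧸ O) ⧸ C := (QuotientGroup.mk' C).comp (f.comp N.subtype)
  have hsurj : Function.Surjective φ0 := by
    intro q
    obtain ⟨z, rfl⟩ := QuotientGroup.mk'_surjective C q
    obtain ⟨w, hw, rfl⟩ := hNtop.ge (mem_top z)
    exact ⟨⟨w, hw⟩, rfl⟩
  have hkerle : (centralizer (P : Set G)).subgroupOf N ≤ φ0.ker := by
    intro c hc
    refine MonoidHom.mem_ker.2 ((QuotientGroup.eq_one_iff _).2 ?_)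
    rw [show C = centralizer ((P.map f : Subgroup (G ⧸ O)) : Set (G ⧸ O)) by rw [hfP]]
    exact map_centralizer_le_centralizer_image _ f ⟨c, hc, rfl⟩
  have hmap := Cores.map_pCore_le (QuotientGroup.lift _ φ0 hkerle)
    (fun q => by obtain ⟨w, hw⟩ := hsurj q; exact ⟨QuotientGroup.mk w, hw⟩) p
  have hmem := hmap (mem_map_of_mem _ (key ⟨⟨x, hxN⟩, mem_subgroupOf.2 (mem_zpowers x), rfl⟩))
  rw [← hxa]
  exact hmem

theorem glauberman_factorization [Finite G] [Fact p.Prime] (hp : p ≠ 2) (hc : Cfsg.IsPConstrained p G)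
    (hs : Cfsg.IsPStable p G) (P : Sylow p G) :
    Cfsg.pPrimeCore p G ⊔ normalizer (Cfsg.centerThompsonAOf (P : Subgroup G) : Set G) = ⊤ ∧
      (Cfsg.pPrimeCore p G = ⊥ → (Cfsg.centerThompsonAOf (P : Subgroup G)).Normal) := by
  set O := Cfsg.pPrimeCore p G
  set f := QuotientGroup.mk' O
  have hf : Function.Surjective f := QuotientGroup.mk'_surjective O
  have hker : (Nat.card f.ker).Coprime p := by
    rw [QuotientGroup.ker_mk']; exact Cores.coprime_card_pPrimeCore p
  set Z := Cfsg.centerThompsonAOf (P : Subgroup G)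
  have hn := zj_normal hp goodClass_abelian (Constrained.isPConstrained_iff.1 hc)
    (fun Q _ hQ => pStableOn_of_isPStable hs Q hQ) (P.mapSurjective hf)
  rw [sInf_maxIn_abelian, ← thompsonSubgroupAOf_eq, Sylow.coe_mapSurjective] at hn
  change (Cfsg.centerThompsonAOf ((P : Subgroup G).map f)).Normal at hn
  rw [← map_centerThompsonAOf f (injOn_of_pGroup f hker P.2)] at hn
  have htop : (normalizer (Z : Set G)).map f = ⊤ := by
    rw [← normalizer_map_eq f hf hker (P.2.to_le (show Z ≤ (P : Subgroup G) from inf_le_left.trans (thompsonSubgroupAOf_le _))),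
      normalizer_eq_top_iff.2 hn]
  have hsup : O ⊔ normalizer (Z : Set G) = ⊤ := by
    rw [← comap_top f, ← htop, comap_map_eq, QuotientGroup.ker_mk', sup_comm]
  refine ⟨hsup, fun hO => normalizer_eq_top_iff.1 ?_⟩
  rwa [hO, bot_sup_eq] at hsup

/-- Glauberman: the normalizer of `Z(J(P))` contains all local subgroups met by `P`. -/
theorem normalizer_le_normalizer_centerThompsonA [Finite G] [Fact p.Prime] (hp : p ≠ 2)
    (hloc : ∀ Q : Subgroup G, IsPGroup p Q → Q ≠ ⊥ → Cfsg.pPrimeCore p ↥(normalizer (Q : Set G)) = ⊥ ∧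
      Cfsg.IsPConstrained p ↥(normalizer (Q : Set G)) ∧ Cfsg.IsPStable p ↥(normalizer (Q : Set G)))
    (P : Sylow p G) {Q : Subgroup G} (hQP : Q ≤ (P : Subgroup G)) (hQ1 : Q ≠ ⊥) :
    normalizer (Q : Set G) ≤ normalizer (Cfsg.centerThompsonAOf (P : Subgroup G) : Set G) := by
  set NZ := normalizer (Cfsg.centerThompsonAOf (P : Subgroup G) : Set G)
  have hPNZ : (P : Subgroup G) ≤ NZ := by
    intro x hx
    rw [mem_normalizer_iff_map_eq, map_centerThompsonAOf _ (MulAut.conj x).injective.injOn,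
      mem_normalizer_iff_map_eq.1 (le_normalizer hx)]
  obtain ⟨m, hm⟩ : ∃ m, m = Nat.card (P : Subgroup G) - Nat.card ↥((P : Subgroup G) ⊓ normalizer (Q : Set G)) :=
    ⟨_, rfl⟩
  induction m using Nat.strong_induction_on generalizing Q with
  | _ m IH =>
  subst hm
  set H := normalizer (Q : Set G)
  set R0 := (P : Subgroup G) ⊓ H
  have hR0p : IsPGroup p R0 := P.2.to_le inf_le_left
  have rec' : ∀ Q' : Subgroup G, Q' ≤ (P : Subgroup G) → Q' ≠ ⊥ →
      Nat.card R0 < Nat.card ↥((P : Subgroup G) ⊓ normalizer (Q' : Set G)) → normalizer (Q' : Set G) ≤ NZ := by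
    intro Q' h1 h2 h3
    refine IH _ ?_ h1 h2 rfl
    have := card_le_of_le (inf_le_left : (P : Subgroup G) ⊓ normalizer (Q' : Set G) ≤ (P : Subgroup G))
    omega
  obtain ⟨R, hR⟩ := (hR0p.of_equiv (subgroupOfEquivOfLe (inf_le_right : R0 ≤ H)).symm).exists_le_sylow
  set R' := (R : Subgroup H).map H.subtype
  have hR'le : R0 ≤ R' := by
    intro z hz
    exact ⟨⟨z, hz.2⟩, hR (mem_subgroupOf.2 hz), rfl⟩
  have hR'H : R' ≤ H := map_subtype_le _
  have hQR0 : Q ≤ R0 := le_inf hQP le_normalizer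
  have hR0ne : R0 ≠ ⊥ := ne_bot_of_le_ne_bot hQ1 hQR0
  rcases hR'le.eq_or_lt with heq | hlt
  · obtain ⟨hO, hc, hs⟩ := hloc Q (P.2.to_le hQP) hQ1
    have hn := (glauberman_factorization hp hc hs R).2 hO
    have hle : H ≤ normalizer (Cfsg.centerThompsonAOf R' : Set G) := by
      rw [← map_centerThompsonAOf _ H.subtype_injective.injOn]
      refine le_trans ?_ (le_normalizer_map H.subtype)
      rw [normalizer_eq_top_iff.2 hn, ← MonoidHom.range_eq_map, range_subtype]
    rw [← heq] at hle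
    by_cases hP : R0 = (P : Subgroup G)
    · rwa [hP] at hle
    · have hlt : R0 < (P : Subgroup G) := lt_of_le_of_ne inf_le_left hP
      obtain ⟨z, hz, hz1, -⟩ := exists_central_of_order_p hR0p hR0ne
      refine hle.trans (rec' _ (inf_le_left.trans ((thompsonSubgroupAOf_le _).trans hlt.le))
        (fun e => hz1 (mem_bot.1 (e.le (central_le_centerThompsonAOf hz)))) ?_)
      have hstrict : R0 < (P : Subgroup G) ⊓ normalizer (Cfsg.centerThompsonAOf R0 : Set G) := by
        refine lt_of_lt_of_le (normalizer_inf_of_lt P.2 hlt) (le_inf inf_le_right (inf_le_left.trans ?_))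
        intro x hx
        rw [mem_normalizer_iff_map_eq, map_centerThompsonAOf _ (MulAut.conj x).injective.injOn,
          mem_normalizer_iff_map_eq.1 hx]
      exact lt_of_le_of_ne (card_le_of_le hstrict.le) fun e => hstrict.ne (eq_of_le_of_card_le hstrict.le e.ge)
  · have hR0P : R0 < (P : Subgroup G) := by
      refine lt_of_le_of_ne inf_le_left fun e => hlt.ne (eq_of_le_of_card_le hR'le ?_)
      obtain ⟨P', hP'⟩ := (R.2.map H.subtype).exists_le_sylow
      refine (card_le_of_le hP').trans ?_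
      rw [e, P'.card_eq_multiplicity, P.card_eq_multiplicity]
    have hN0 : normalizer (R0 : Set G) ≤ NZ := by
      refine rec' R0 inf_le_left hR0ne ?_
      have hstrict : R0 < (P : Subgroup G) ⊓ normalizer (R0 : Set G) :=
        inf_comm (normalizer (R0 : Set G)) (P : Subgroup G) ▸ normalizer_inf_of_lt P.2 hR0P
      exact lt_of_le_of_ne (card_le_of_le hstrict.le) fun e => hstrict.ne (eq_of_le_of_card_le hstrict.le e.ge)
    set R1 := normalizer (R0 : Set G) ⊓ R'
    have hR1 : R0 < R1 := normalizer_inf_of_lt (R.2.map _) hlt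
    have hR1NZ : R1 ≤ NZ := inf_le_left.trans hN0
    have hR1p : IsPGroup p R1 := (R.2.map H.subtype).to_le inf_le_right
    obtain ⟨T, hT⟩ := (hR1p.of_equiv (subgroupOfEquivOfLe hR1NZ).symm).exists_le_sylow
    obtain ⟨⟨n, hn⟩, hnT⟩ := MulAction.exists_smul_eq NZ T (P.subtype hPNZ)
    set c := (MulAut.conj n).toMonoidHom
    have hcP : R1.map c ≤ (P : Subgroup G) := by
      rintro _ ⟨r, hr, rfl⟩
      have h1 : (⟨n, hn⟩ : NZ) * ⟨r, hR1NZ hr⟩ * (⟨n, hn⟩ : NZ)⁻¹ ∈ (P.subtype hPNZ : Subgroup NZ) := by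
        rw [← hnT, Sylow.coe_subgroup_smul]
        exact ⟨⟨r, hR1NZ hr⟩, hT (mem_subgroupOf.2 hr), rfl⟩
      exact h1
    have hQR1 : Q ≤ R1 := hQR0.trans hR1.le
    have hQn : normalizer (Q.map c : Set G) ≤ NZ := by
      refine rec' _ ((map_mono hQR1).trans hcP)
        (fun e => hQ1 ((map_eq_bot_iff_of_injective _ (MulAut.conj n).injective).1 e)) ?_
      have h2 : R1.map c ≤ (P : Subgroup G) ⊓ normalizer (Q.map c : Set G) :=
        le_inf hcP ((map_mono (inf_le_right.trans hR'H)).trans (le_normalizer_map c))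
      refine lt_of_lt_of_le ?_ (card_le_of_le h2)
      rw [card_map_of_injective (MulAut.conj n).injective]
      exact lt_of_le_of_ne (card_le_of_le hR1.le) fun e => hR1.ne (eq_of_le_of_card_le hR1.le e.ge)
    intro x hx
    have h3 : n * x * n⁻¹ ∈ NZ := hQn (le_normalizer_map c ⟨x, hx, rfl⟩)
    simpa [mul_assoc] using NZ.mul_mem (NZ.mul_mem (NZ.inv_mem hn) h3) hn

end Cfsg.Agent.PLocal
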