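import Cfsg.Agent.Lib.PLocal.Basic

/-!
The Thompson subgroup (namespace `Cfsg.Agent.PLocal`).

* `maxIn Q H`: the subgroups of `H` with property `Q` of largest order; `exists_maxIn`, `maxIn_of_mem_le`,
  `maxIn_subset`, `map_maxIn` (maps injective on `H`), `maxIn_conj_mem`
* `elemAb p`, `abelian`: the two properties; `maxElemAb_eq`, `maxAbelian_eq`
* `thompsonSubgroupOf_eq`, `thompsonSubgroup_eq`, `thompsonSubgroupAOf_eq`
* `map_thompsonSubgroup`, `map_thompsonSubgroupA`, `map_thompsonSubgroupOf`, `map_thompsonSubgroupAOf`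
* `thompsonSubgroupOf_le`, `normalizer_le_normalizer_thompsonSubgroupOf` (and `...AOf`)
* `le_of_mem_maxIn` (`x` centralising a member, of order dividing `p`, lies in it)
-/

namespace Cfsg.Agent.PLocal

variable {G : Type*} [Group G] {p : ℕ}

/-- The subgroups of `H` with property `Q` of largest order. -/
def maxIn (Q : Subgroup G → Prop) (H : Subgroup G) : Set (Subgroup G) :=
  {A | A ≤ H ∧ Q A ∧ ∀ B, B ≤ H → Q B → Nat.card B ≤ Nat.card A}

theorem maxIn_le {Q : Subgroup G → Prop} {H A : Subgroup G} (h : A ∈ maxIn Q H) : A ≤ H := h.1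

theorem maxIn_prop {Q : Subgroup G → Prop} {H A : Subgroup G} (h : A ∈ maxIn Q H) : Q A := h.2.1

theorem maxIn_card {Q : Subgroup G → Prop} {H A B : Subgroup G} (h : A ∈ maxIn Q H) (hB : B ≤ H) (hQ : Q B) :
    Nat.card B ≤ Nat.card A := h.2.2 B hB hQ

theorem exists_maxIn [Finite G] {Q : Subgroup G → Prop} (hQ : Q ⊥) (H : Subgroup G) : (maxIn Q H).Nonempty := by
  obtain ⟨A, hA, hmax⟩ := Set.exists_max_image {B : Subgroup G | B ≤ H ∧ Q B}
    (fun B => Nat.card B) (Set.toFinite _) ⟨⊥, bot_le, hQ⟩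
  exact ⟨A, hA.1, hA.2, fun B hB hQB => hmax B ⟨hB, hQB⟩⟩

/-- If a member of `maxIn Q H` lies in `K ≤ H`, then the members for `K` are members for `H`. -/
theorem maxIn_subset {Q : Subgroup G → Prop} {H K A : Subgroup G} (hA : A ∈ maxIn Q H) (hAK : A ≤ K)
    (hKH : K ≤ H) : maxIn Q K ⊆ maxIn Q H :=
  fun _ hB => ⟨hB.1.trans hKH, hB.2.1, fun C hC hQC => (hA.2.2 C hC hQC).trans (hB.2.2 A hAK hA.2.1)⟩

theorem maxIn_of_mem_le {Q : Subgroup G → Prop} {H K A : Subgroup G} (hA : A ∈ maxIn Q H) (hAK : A ≤ K)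
    (hKH : K ≤ H) : A ∈ maxIn Q K :=
  ⟨hAK, hA.2.1, fun C hC hQC => hA.2.2 C (hC.trans hKH) hQC⟩

theorem card_map_of_injOn {G' : Type*} [Group G'] (f : G →* G') {H A : Subgroup G} (hf : Set.InjOn f H)
    (hA : A ≤ H) : Nat.card ↥(A.map f) = Nat.card A :=
  Nat.card_image_of_injOn (hf.mono hA)

theorem map_maxIn {G' : Type*} [Group G'] (f : G →* G') {H : Subgroup G} (hf : Set.InjOn f H)
    (Q : Subgroup G → Prop) (Q' : Subgroup G' → Prop) (hQ : ∀ A, A ≤ H → (Q' (A.map f) ↔ Q A)) :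
    maxIn Q' (H.map f) = (fun A : Subgroup G => A.map f) '' maxIn Q H := by
  have key : ∀ B : Subgroup G', B ≤ H.map f → ∃ A ≤ H, A.map f = B := fun B hB =>
    ⟨H ⊓ B.comap f, inf_le_left, by
      refine le_antisymm (Subgroup.map_le_iff_le_comap.2 inf_le_right) fun y hy => ?_
      obtain ⟨x, hx, rfl⟩ := hB hy
      exact ⟨x, ⟨hx, hy⟩, rfl⟩⟩
  ext B
  constructor
  · rintro ⟨h1, h2, h3⟩
    obtain ⟨A, hA, rfl⟩ := key B h1
    refine ⟨A, ⟨hA, (hQ A hA).1 h2, fun C hC hQC => ?_⟩, rfl⟩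
    have := h3 _ (Subgroup.map_mono hC) ((hQ C hC).2 hQC)
    rwa [card_map_of_injOn f hf hC, card_map_of_injOn f hf hA] at this
  · rintro ⟨A, ⟨h1, h2, h3⟩, rfl⟩
    refine ⟨Subgroup.map_mono h1, (hQ A h1).2 h2, fun C hC hQC => ?_⟩
    obtain ⟨D, hD, rfl⟩ := key C hC
    show Nat.card ↥(D.map f) ≤ Nat.card ↥(A.map f)
    rw [card_map_of_injOn f hf hD, card_map_of_injOn f hf h1]
    exact h3 D hD ((hQ D hD).1 hQC)

/-- Elementary abelian, as a property of subgroups. -/
def elemAb (p : ℕ) (A : Subgroup G) : Prop := Cfsg.IsElementaryAbelian p A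

/-- Abelian, as a property of subgroups. -/
def abelian (A : Subgroup G) : Prop := IsMulCommutative A

theorem elemAb_iff {A : Subgroup G} : elemAb p A ↔ Cfsg.IsElementaryAbelian p A := Iff.rfl

theorem abelian_iff {A : Subgroup G} : abelian A ↔ IsMulCommutative A := Iff.rfl

theorem abelian_bot : abelian (⊥ : Subgroup G) := Subgroup.le_centralizer_iff_isMulCommutative.1 bot_le

theorem abelian_map_iff {G' : Type*} [Group G'] {f : G →* G'} {H A : Subgroup G} (hf : Set.InjOn f H)
    (hA : A ≤ H) : abelian (A.map f) ↔ abelian A := by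
  simp only [abelian_iff, ← Subgroup.le_centralizer_iff_isMulCommutative]
  constructor
  · intro h a ha
    refine Subgroup.mem_centralizer_iff.2 fun b hb => hf (H.mul_mem (hA hb) (hA ha)) (H.mul_mem (hA ha) (hA hb)) ?_
    rw [map_mul, map_mul]
    exact Subgroup.mem_centralizer_iff.1 (h ⟨a, ha, rfl⟩) _ ⟨b, hb, rfl⟩
  · rintro h _ ⟨a, ha, rfl⟩
    refine Subgroup.mem_centralizer_iff.2 ?_
    rintro _ ⟨b, hb, rfl⟩
    rw [← map_mul, ← map_mul, Subgroup.mem_centralizer_iff.1 (h ha) b hb]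

theorem elemAb_map_iff_of_injOn {G' : Type*} [Group G'] {f : G →* G'} {H A : Subgroup G} (hf : Set.InjOn f H)
    (hA : A ≤ H) : elemAb p (A.map f) ↔ elemAb p A := by
  refine and_congr (abelian_map_iff hf hA) ⟨fun h a ha => ?_, ?_⟩
  · exact hf (H.pow_mem (hA ha) p) H.one_mem (by rw [map_pow, h _ ⟨a, ha, rfl⟩, map_one])
  · rintro h _ ⟨a, ha, rfl⟩
    rw [← map_pow, h a ha, map_one]

theorem maxElemAb_eq : Cfsg.maxElementaryAbelianSubgroups p G = maxIn (elemAb p) (⊤ : Subgroup G) := by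
  ext A
  exact ⟨fun h => ⟨le_top, h.1, fun B _ hB => h.2 B hB⟩, fun h => ⟨h.2.1, fun B hB => h.2.2 B le_top hB⟩⟩

theorem maxAbelian_eq : Cfsg.maxAbelianSubgroups G = maxIn abelian (⊤ : Subgroup G) := by
  ext A
  exact ⟨fun h => ⟨le_top, h.1, fun B _ hB => h.2 B hB⟩, fun h => ⟨h.2.1, fun B hB => h.2.2 B le_top hB⟩⟩

theorem top_map_subtype (H : Subgroup G) : (⊤ : Subgroup H).map H.subtype = H := by
  rw [← MonoidHom.range_eq_map, Subgroup.range_subtype]

theorem image_maxElemAb (H : Subgroup G) :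
    (fun A : Subgroup H => A.map H.subtype) '' Cfsg.maxElementaryAbelianSubgroups p H = maxIn (elemAb p) H := by
  have := map_maxIn H.subtype (H := ⊤) H.subtype_injective.injOn (elemAb p) (elemAb p)
    (fun A hA => elemAb_map_iff_of_injOn H.subtype_injective.injOn hA)
  rw [top_map_subtype, ← maxElemAb_eq] at this
  exact this.symm

theorem image_maxAbelian (H : Subgroup G) :
    (fun A : Subgroup H => A.map H.subtype) '' Cfsg.maxAbelianSubgroups H = maxIn abelian H := by
  have := map_maxIn H.subtype (H := ⊤) H.subtype_injective.injOn abelian abelian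
    (fun A hA => abelian_map_iff H.subtype_injective.injOn hA)
  rw [top_map_subtype, ← maxAbelian_eq] at this
  exact this.symm

theorem map_sSup_eq {G' : Type*} [Group G'] (f : G →* G') (S : Set (Subgroup G)) :
    (sSup S).map f = sSup ((fun A : Subgroup G => A.map f) '' S) := by
  rw [(Subgroup.gc_map_comap f).l_sSup, sSup_image]

theorem thompsonSubgroupOf_eq (H : Subgroup G) :
    Cfsg.thompsonSubgroupOf p H = sSup (maxIn (elemAb p) H) := by
  rw [Cfsg.thompsonSubgroupOf, Cfsg.thompsonSubgroup, map_sSup_eq, image_maxElemAb]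

theorem thompsonSubgroup_eq : Cfsg.thompsonSubgroup p G = sSup (maxIn (elemAb p) (⊤ : Subgroup G)) := by
  rw [Cfsg.thompsonSubgroup, maxElemAb_eq]

theorem thompsonSubgroupAOf_eq (H : Subgroup G) :
    Cfsg.thompsonSubgroupAOf H = sSup (maxIn abelian H) := by
  rw [Cfsg.thompsonSubgroupAOf, Cfsg.thompsonSubgroupA, map_sSup_eq, image_maxAbelian]

theorem thompsonSubgroupA_eq : Cfsg.thompsonSubgroupA G = sSup (maxIn abelian (⊤ : Subgroup G)) := by
  rw [Cfsg.thompsonSubgroupA, maxAbelian_eq]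

theorem thompsonSubgroupOf_le (H : Subgroup G) : Cfsg.thompsonSubgroupOf p H ≤ H := Subgroup.map_subtype_le _

theorem thompsonSubgroupAOf_le (H : Subgroup G) : Cfsg.thompsonSubgroupAOf H ≤ H := Subgroup.map_subtype_le _

theorem thompsonSubgroupOf_top : Cfsg.thompsonSubgroupOf p (⊤ : Subgroup G) = Cfsg.thompsonSubgroup p G := by
  rw [thompsonSubgroupOf_eq, thompsonSubgroup_eq]

theorem map_thompsonSubgroupOf {G' : Type*} [Group G'] (f : G →* G') {H : Subgroup G} (hf : Set.InjOn f H) :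
    (Cfsg.thompsonSubgroupOf p H).map f = Cfsg.thompsonSubgroupOf p (H.map f) := by
  rw [thompsonSubgroupOf_eq, thompsonSubgroupOf_eq, map_sSup_eq,
    map_maxIn f hf (elemAb p) (elemAb p) (fun A hA => elemAb_map_iff_of_injOn hf hA)]

theorem map_thompsonSubgroupAOf {G' : Type*} [Group G'] (f : G →* G') {H : Subgroup G} (hf : Set.InjOn f H) :
    (Cfsg.thompsonSubgroupAOf H).map f = Cfsg.thompsonSubgroupAOf (H.map f) := by
  rw [thompsonSubgroupAOf_eq, thompsonSubgroupAOf_eq, map_sSup_eq,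
    map_maxIn f hf abelian abelian (fun A hA => abelian_map_iff hf hA)]

theorem map_thompsonSubgroup {G' : Type*} [Group G'] (e : G ≃* G') :
    (Cfsg.thompsonSubgroup p G).map e.toMonoidHom = Cfsg.thompsonSubgroup p G' := by
  rw [← thompsonSubgroupOf_top, map_thompsonSubgroupOf _ e.injective.injOn,
    Subgroup.map_top_of_surjective _ e.surjective, thompsonSubgroupOf_top]

theorem thompsonSubgroup_characteristic : (Cfsg.thompsonSubgroup p G).Characteristic :=
  Subgroup.characteristic_iff_map_eq.2 fun e => map_thompsonSubgroup e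

theorem map_conj_thompsonSubgroupOf (g : G) (H : Subgroup G) :
    (Cfsg.thompsonSubgroupOf p H).map (MulAut.conj g).toMonoidHom
      = Cfsg.thompsonSubgroupOf p (H.map (MulAut.conj g).toMonoidHom) :=
  map_thompsonSubgroupOf _ (MulAut.conj g).injective.injOn

theorem map_conj_thompsonSubgroupAOf (g : G) (H : Subgroup G) :
    (Cfsg.thompsonSubgroupAOf H).map (MulAut.conj g).toMonoidHom
      = Cfsg.thompsonSubgroupAOf (H.map (MulAut.conj g).toMonoidHom) :=
  map_thompsonSubgroupAOf _ (MulAut.conj g).injective.injOn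

theorem mem_normalizer_iff_map_eq {H : Subgroup G} {g : G} :
    g ∈ Subgroup.normalizer (H : Set G) ↔ H.map (MulAut.conj g).toMonoidHom = H :=
  Subgroup.mem_normalizer_iff_map_conj_eq

theorem normalizer_le_normalizer_thompsonSubgroupOf (H : Subgroup G) :
    Subgroup.normalizer (H : Set G) ≤ Subgroup.normalizer (Cfsg.thompsonSubgroupOf p H : Set G) :=
  fun g hg => by
    rw [mem_normalizer_iff_map_eq, map_conj_thompsonSubgroupOf, mem_normalizer_iff_map_eq.1 hg]

theorem normalizer_le_normalizer_thompsonSubgroupAOf (H : Subgroup G) :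
    Subgroup.normalizer (H : Set G) ≤ Subgroup.normalizer (Cfsg.thompsonSubgroupAOf H : Set G) :=
  fun g hg => by
    rw [mem_normalizer_iff_map_eq, map_conj_thompsonSubgroupAOf, mem_normalizer_iff_map_eq.1 hg]

/-- An element of order dividing `p` centralising a maximal elementary abelian subgroup lies in it. -/
theorem mem_of_centralizes [Finite G] {H A : Subgroup G} (hA : A ∈ maxIn (elemAb p) H) {x : G} (hxH : x ∈ H)
    (hx : x ^ p = 1) (hc : x ∈ Subgroup.centralizer (A : Set G)) : x ∈ A := by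
  have h : elemAb p (A ⊔ Subgroup.zpowers x) :=
    elemAb_sup hA.2.1 (elemAb_zpowers hx) (le_centralizer_comm (Subgroup.zpowers_le.2 hc))
  have e := eq_of_le_of_card_le le_sup_left
    (hA.2.2 _ (sup_le hA.1 (Subgroup.zpowers_le.2 hxH)) h)
  rw [e]
  exact Subgroup.mem_sup_right (Subgroup.mem_zpowers x)

/-- An element centralising a maximal abelian subgroup of largest order lies in it. -/
theorem mem_of_centralizes_abelian [Finite G] {H A : Subgroup G} (hA : A ∈ maxIn abelian H) {x : G} (hxH : x ∈ H)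
    (hc : x ∈ Subgroup.centralizer (A : Set G)) : x ∈ A := by
  have h : abelian (A ⊔ Subgroup.zpowers x) := by
    refine Subgroup.le_centralizer_iff_isMulCommutative.1 ?_
    rw [centralizer_sup]
    exact sup_le
      (le_inf (Subgroup.le_centralizer_iff_isMulCommutative.2 hA.2.1)
        (le_centralizer_comm (Subgroup.zpowers_le.2 hc)))
      (le_inf (Subgroup.zpowers_le.2 hc) (Subgroup.le_centralizer_iff_isMulCommutative.2 inferInstance))
  have e := eq_of_le_of_card_le le_sup_left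
    (hA.2.2 _ (sup_le hA.1 (Subgroup.zpowers_le.2 hxH)) h)
  rw [e]
  exact Subgroup.mem_sup_right (Subgroup.mem_zpowers x)

theorem exists_maxElemAb_le_sylow [Finite G] [Fact p.Prime] (S : Sylow p G) :
    ∃ A ∈ maxIn (elemAb p) (⊤ : Subgroup G), A ≤ S := by
  obtain ⟨A, hA⟩ := exists_maxIn (Q := elemAb p) elemAb_bot (⊤ : Subgroup G)
  obtain ⟨T, hT⟩ := (elemAb_isPGroup hA.2.1).exists_le_sylow
  obtain ⟨g, hg⟩ := MulAction.exists_smul_eq G T S
  refine ⟨A.map (MulAut.conj g).toMonoidHom, ?_, ?_⟩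
  · have := map_maxIn (MulAut.conj g).toMonoidHom (H := ⊤) (MulAut.conj g).injective.injOn
      (elemAb p) (elemAb p) (fun B hB => elemAb_map_iff_of_injOn (MulAut.conj g).injective.injOn hB)
    rw [Subgroup.map_top_of_surjective _ (MulAut.conj g).surjective] at this
    exact this ▸ ⟨A, hA, rfl⟩
  · rw [← hg, Sylow.coe_subgroup_smul]
    exact Subgroup.map_mono hT

theorem thompsonSubgroupOf_sylow_le [Finite G] [Fact p.Prime] (S : Sylow p G) :
    Cfsg.thompsonSubgroupOf p (S : Subgroup G) ≤ Cfsg.thompsonSubgroup p G := by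
  obtain ⟨A, hA, hAS⟩ := exists_maxElemAb_le_sylow S
  rw [thompsonSubgroupOf_eq, thompsonSubgroup_eq]
  exact sSup_le_sSup (maxIn_subset hA hAS le_top)

end Cfsg.Agent.PLocal
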