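import Cfsg.Agent.Lib.PLocal.Action
import Cfsg.Agent.Lib.PLocal.Thompson

/-!
Thompson and Timmesfeld replacement (namespace `Cfsg.Agent.PLocal`).

For an abelian `V` normalised by `A` with `⁅A, A⁆` centralising `V`, and no `B ≤ A` having
`|B| |C_V(B)| > |A| |C_V(A)|`:
* `replacement_core`: for `U ≤ V`, `B := C_A([U, A])` has `C_V(B) = [U, A] C_V(A)` and the same product.
* `bestOffender_replacement` : Timmesfeld's version, `not_centralize_replacement`.
-/

namespace Cfsg.Agent.PLocal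

open scoped commutatorElement

variable {G : Type*} [Group G] {p : ℕ}

/-- `C_V(B)`. -/
local notation "Fx(" V ", " B ")" => V ⊓ Subgroup.centralizer ((B : Subgroup G) : Set G)

/-- `[s, A]` for a set `s`. -/
def commSet (s : Set G) (A : Subgroup G) : Subgroup G :=
  Subgroup.closure {g | ∃ u ∈ s, ∃ a ∈ A, ⁅u, a⁆ = g}

theorem commSet_union (s t : Set G) (A : Subgroup G) : commSet (s ∪ t) A = commSet s A ⊔ commSet t A := by
  rw [commSet, commSet, commSet, ← Subgroup.closure_union]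
  congr 1
  ext g
  simp only [Set.mem_ofPred_eq, Set.mem_union]
  constructor
  · rintro ⟨u, hu | hu, h⟩
    · exact Or.inl ⟨u, hu, h⟩
    · exact Or.inr ⟨u, hu, h⟩
  · rintro (⟨u, hu, h⟩ | ⟨u, hu, h⟩)
    · exact ⟨u, Or.inl hu, h⟩
    · exact ⟨u, Or.inr hu, h⟩

theorem commSet_le {V A : Subgroup G} {s : Set G} (hs : s ⊆ V) (hAV : A ≤ Subgroup.normalizer (V : Set G)) :
    commSet s A ≤ V :=
  (Subgroup.closure_le V).2 (by rintro _ ⟨u, hu, a, ha, rfl⟩; exact commutator_mem_left (hAV ha) (hs hu))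

theorem conj_comm_of_commutator_le {V A : Subgroup G} (hab : ⁅A, A⁆ ≤ Subgroup.centralizer (V : Set G))
    {a x v : G} (ha : a ∈ A) (hx : x ∈ A) (hv : v ∈ V) :
    a * (x * v * x⁻¹) * a⁻¹ = x * (a * v * a⁻¹) * x⁻¹ := by
  have hc : a⁻¹ * x⁻¹ * a * x ∈ ⁅A, A⁆ := by
    have := Subgroup.commutator_mem_commutator (A.inv_mem ha) (A.inv_mem hx)
    rwa [commutatorElement_def, inv_inv, inv_inv] at this
  have h := Subgroup.mem_centralizer_iff.1 (hab hc) v hv
  calc a * (x * v * x⁻¹) * a⁻¹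
      = x * a * ((a⁻¹ * x⁻¹ * a * x) * v) * x⁻¹ * a⁻¹ := by group
    _ = x * a * (v * (a⁻¹ * x⁻¹ * a * x)) * x⁻¹ * a⁻¹ := by rw [h]
    _ = x * (a * v * a⁻¹) * x⁻¹ := by group

theorem card_le_single [Finite G] {V A : Subgroup G} (hVab : V ≤ Subgroup.centralizer (V : Set G))
    (hAV : A ≤ Subgroup.normalizer (V : Set G)) (hab : ⁅A, A⁆ ≤ Subgroup.centralizer (V : Set G))
    {u : G} (hu : u ∈ V) :
    Nat.card A * Nat.card ↥(Fx(V, A)) ≤
      Nat.card ↥(A ⊓ Subgroup.centralizer (commSet {u} A : Set G)) *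
        Nat.card ↥(commSet {u} A ⊔ Fx(V, A)) := by
  set C := Fx(V, A)
  set W := commSet {u} A
  set B := A ⊓ Subgroup.centralizer (W : Set G)
  have hw : ∀ a : A, ⁅u, (a : G)⁆ ∈ W := fun a => Subgroup.subset_closure ⟨u, rfl, a, a.2, rfl⟩
  have key : ∀ a a' : A, (⁅u, (a : G)⁆)⁻¹ * ⁅u, (a' : G)⁆ ∈ C →
      (a : G)⁻¹ * a' ∈ Subgroup.centralizer (W : Set G) := by
    intro a a' h
    rw [show W = Subgroup.closure {g | ∃ v ∈ ({u} : Set G), ∃ x ∈ A, ⁅v, x⁆ = g} from rfl,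
      Subgroup.centralizer_closure]
    refine Subgroup.mem_centralizer_iff.2 ?_
    rintro _ ⟨u', hu', x, hx, rfl⟩
    rw [Set.mem_singleton_iff.1 hu']
    have hf : (⁅u, (a : G)⁆)⁻¹ * ⁅u, (a' : G)⁆ = (a * u * (a : G)⁻¹) * (a' * u * (a' : G)⁻¹)⁻¹ := by
      rw [commutatorElement_def, commutatorElement_def]; group
    rw [hf] at h
    set y := a * u * (a : G)⁻¹
    set y' := a' * u * (a' : G)⁻¹
    have hy : y ∈ V := conj_mem (hAV a.2) hu
    have hy' : y' ∈ V := conj_mem (hAV a'.2) hu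
    have e1 : x * (y * y'⁻¹) * x⁻¹ = y * y'⁻¹ := by
      rw [Subgroup.mem_centralizer_iff.1 h.2 x hx, mul_inv_cancel_right]
    have e2 : x * (y * y'⁻¹) * x⁻¹ = (a * (x * u * x⁻¹) * (a : G)⁻¹) * (a' * (x * u * x⁻¹) * (a' : G)⁻¹)⁻¹ := by
      rw [conj_comm_of_commutator_le hab a.2 hx hu, conj_comm_of_commutator_le hab a'.2 hx hu]; simp only [y, y']; group
    have e3 : (a : G) * (x * u * x⁻¹) * (a : G)⁻¹ =
        y * y'⁻¹ * (a' * (x * u * x⁻¹) * (a' : G)⁻¹) := by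
      exact mul_inv_eq_iff_eq_mul.1 (e2.symm.trans e1)
    have hz : a' * (x * u * x⁻¹) * (a' : G)⁻¹ ∈ V := conj_mem (hAV a'.2) (conj_mem (hAV hx) hu)
    have e4 : (a : G) * ⁅u, x⁆ * (a : G)⁻¹ = a' * ⁅u, x⁆ * (a' : G)⁻¹ := by
      have c1 : Commute y y' := commute_of_le_centralizer hVab hy hy'
      rw [show (a : G) * ⁅u, x⁆ * (a : G)⁻¹ = y * (a * (x * u * x⁻¹) * (a : G)⁻¹)⁻¹ by
          rw [commutatorElement_def]; simp only [y]; group,
        show (a' : G) * ⁅u, x⁆ * (a' : G)⁻¹ = y' * (a' * (x * u * x⁻¹) * (a' : G)⁻¹)⁻¹ by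
          rw [commutatorElement_def]; simp only [y']; group, e3]
      set z := a' * (x * u * x⁻¹) * (a' : G)⁻¹
      have c2 : Commute y z := commute_of_le_centralizer hVab hy hz
      have c3 : Commute y' z := commute_of_le_centralizer hVab hy' hz
      rw [mul_inv_rev (y * y'⁻¹) z, mul_inv_rev y y'⁻¹, inv_inv]
      calc y * (z⁻¹ * (y' * y⁻¹)) = z⁻¹ * (y * (y' * y⁻¹)) := by
            rw [← mul_assoc, c2.inv_right.eq, mul_assoc]
        _ = z⁻¹ * y' := by rw [← mul_assoc y, c1.eq, mul_inv_cancel_right]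
        _ = y' * z⁻¹ := (c3.inv_right.eq).symm
    rw [show ⁅u, x⁆ * ((a : G)⁻¹ * a') = (a : G)⁻¹ * ((a : G) * ⁅u, x⁆ * (a : G)⁻¹) * a' by group, e4]
    group
  haveI : Finite (A ⧸ B.subgroupOf A) := inferInstance
  let f : (A ⧸ B.subgroupOf A) × C → ↥(W ⊔ C) := fun qc =>
    ⟨⁅u, (qc.1.out : G)⁆ * qc.2, Subgroup.mul_mem_sup (hw _) qc.2.2⟩
  have hf : Function.Injective f := by
    rintro ⟨q, c⟩ ⟨q', c'⟩ h
    have h' : ⁅u, (q.out : G)⁆ * c = ⁅u, (q'.out : G)⁆ * c' := congrArg Subtype.val h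
    have hmem : (⁅u, (q.out : G)⁆)⁻¹ * ⁅u, (q'.out : G)⁆ ∈ C := by
      have : (⁅u, (q.out : G)⁆)⁻¹ * ⁅u, (q'.out : G)⁆ = c * (c' : G)⁻¹ := by
        rw [eq_mul_inv_iff_mul_eq, mul_assoc, ← h', inv_mul_cancel_left]
      rw [this]; exact C.mul_mem c.2 (C.inv_mem c'.2)
    have hq : q = q' := by
      rw [← Quotient.out_eq q, ← Quotient.out_eq q']
      apply QuotientGroup.eq.2
      rw [Subgroup.mem_subgroupOf]
      exact ⟨A.mul_mem (A.inv_mem q.out.2) q'.out.2, key _ _ hmem⟩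
    subst hq
    exact Prod.ext rfl (Subtype.ext (mul_left_cancel h'))
  have hcard := Nat.card_le_card_of_injective f hf
  rw [Nat.card_prod] at hcard
  have hA : Nat.card A = Nat.card (A ⧸ B.subgroupOf A) * Nat.card B := by
    rw [Subgroup.card_eq_card_quotient_mul_card_subgroup (B.subgroupOf A)]
    congr 1
    exact Nat.card_congr (Subgroup.subgroupOfEquivOfLe (inf_le_left : B ≤ A)).toEquiv
  rw [hA, mul_right_comm, mul_comm (Nat.card B)]
  exact Nat.mul_le_mul_right _ hcard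

theorem commSet_eq_commutator (U A : Subgroup G) : commSet (U : Set G) A = ⁅U, A⁆ :=
  (Subgroup.commutator_def U A).symm

theorem sup_fixed_le {V A W : Subgroup G} (hW : W ≤ V) :
    W ⊔ Fx(V, A) ≤ Fx(V, A ⊓ Subgroup.centralizer (W : Set G)) :=
  sup_le (le_inf hW (le_centralizer_comm inf_le_right))
    (inf_le_inf_left V (Subgroup.centralizer_le inf_le_left))

/-- Thompson's replacement: the core statement. -/
theorem replacement_core [Finite G] {V A : Subgroup G} (hVab : V ≤ Subgroup.centralizer (V : Set G))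
    (hAV : A ≤ Subgroup.normalizer (V : Set G)) (hab : ⁅A, A⁆ ≤ Subgroup.centralizer (V : Set G))
    (hmax : ∀ B : Subgroup G, B ≤ A → Nat.card B * Nat.card ↥(Fx(V, B)) ≤ Nat.card A * Nat.card ↥(Fx(V, A)))
    (s : Finset G) (hs : ∀ u ∈ s, u ∈ V) :
    Nat.card ↥(A ⊓ Subgroup.centralizer (commSet (s : Set G) A : Set G)) *
        Nat.card ↥(Fx(V, A ⊓ Subgroup.centralizer (commSet (s : Set G) A : Set G)))
      = Nat.card A * Nat.card ↥(Fx(V, A)) ∧
    Fx(V, A ⊓ Subgroup.centralizer (commSet (s : Set G) A : Set G)) = commSet (s : Set G) A ⊔ Fx(V, A) := by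
  set m := Nat.card A * Nat.card ↥(Fx(V, A))
  have squeeze : ∀ t : Set G, t ⊆ V →
      m ≤ Nat.card ↥(A ⊓ Subgroup.centralizer (commSet t A : Set G)) * Nat.card ↥(commSet t A ⊔ Fx(V, A)) →
      Nat.card ↥(A ⊓ Subgroup.centralizer (commSet t A : Set G)) *
        Nat.card ↥(Fx(V, A ⊓ Subgroup.centralizer (commSet t A : Set G))) = m ∧
      Fx(V, A ⊓ Subgroup.centralizer (commSet t A : Set G)) = commSet t A ⊔ Fx(V, A) := by
    intro t ht hle
    have h1 := sup_fixed_le (A := A) (commSet_le ht hAV)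
    set B := A ⊓ Subgroup.centralizer (commSet t A : Set G)
    have h2 := hmax B inf_le_left
    have h3 := Nat.mul_le_mul_left (Nat.card B) (card_le_of_le h1)
    refine ⟨le_antisymm h2 (hle.trans h3), (eq_of_le_of_card_le h1 ?_).symm⟩
    exact Nat.le_of_mul_le_mul_left (h2.trans hle) Nat.card_pos
  classical
  induction s using Finset.induction_on with
  | empty =>
    refine squeeze _ (by simp) ?_
    have : commSet ((∅ : Finset G) : Set G) A = ⊥ := by simp [commSet]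
    rw [this, bot_sup_eq]
    refine Nat.mul_le_mul_right _ (card_le_of_le (H := A) (le_inf le_rfl ?_))
    exact le_centralizer_comm bot_le
  | @insert u s hu ih =>
    have hs' : ∀ x ∈ s, x ∈ V := fun x hx => hs x (Finset.mem_insert_of_mem hx)
    have huV : u ∈ V := hs u (Finset.mem_insert_self u s)
    refine squeeze _ (fun x hx => hs x hx) ?_
    rw [Finset.coe_insert, ← Set.singleton_union, commSet_union, centralizer_sup]
    obtain ⟨hm1, hC1⟩ := squeeze {u} (by simpa using huV) (card_le_single hVab hAV hab huV)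
    obtain ⟨hm2, hC2⟩ := ih hs'
    set W1 := commSet ({u} : Set G) A
    set W2 := commSet (s : Set G) A
    set C := Fx(V, A)
    set B1 := A ⊓ Subgroup.centralizer (W1 : Set G)
    set B2 := A ⊓ Subgroup.centralizer (W2 : Set G)
    have hB : A ⊓ (Subgroup.centralizer (W1 : Set G) ⊓ Subgroup.centralizer (W2 : Set G)) = B1 ⊓ B2 :=
      inf_inf_distrib_left A _ _
    have hW : W1 ⊔ W2 ⊔ C = (W1 ⊔ C) ⊔ (W2 ⊔ C) := sup_sup_distrib_right W1 W2 C
    rw [hB, hW, ← hC1, ← hC2]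
    have h3 : Fx(V, B1 ⊔ B2) = Fx(V, B1) ⊓ Fx(V, B2) := by rw [centralizer_sup, inf_inf_distrib_left]
    have h4 := hmax (B1 ⊔ B2) (sup_le inf_le_left inf_le_left)
    have h5 := card_sup_mul_card_inf (H := Fx(V, B1)) (K := Fx(V, B2))
      ((inf_le_left.trans hVab).trans ((Subgroup.centralizer_le inf_le_left).trans
        (Subgroup.centralizer_le_normalizer _)))
    have h6 := card_mul_card_le B1 B2
    rw [h3] at h4
    refine Nat.le_of_mul_le_mul_left (a := m) ?_ (Nat.mul_pos (Nat.card_pos (α := A)) (Nat.card_pos (α := ↥(Fx(V, A)))))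
    calc m * m = (Nat.card B1 * Nat.card B2) * (Nat.card ↥(Fx(V, B1)) * Nat.card ↥(Fx(V, B2))) := by
          conv_lhs => arg 1; rw [← hm1]
          conv_lhs => arg 2; rw [← hm2]
          ring
      _ ≤ (Nat.card ↥(B1 ⊔ B2) * Nat.card ↥(B1 ⊓ B2)) *
            (Nat.card ↥(Fx(V, B1) ⊔ Fx(V, B2)) * Nat.card ↥(Fx(V, B1) ⊓ Fx(V, B2))) := by
          rw [h5]; exact Nat.mul_le_mul_right _ h6
      _ = (Nat.card ↥(B1 ⊔ B2) * Nat.card ↥(Fx(V, B1) ⊓ Fx(V, B2))) *
            (Nat.card ↥(B1 ⊓ B2) * Nat.card ↥(Fx(V, B1) ⊔ Fx(V, B2))) := by ring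
      _ ≤ m * _ := Nat.mul_le_mul_right _ h4

/-- Thompson's replacement for a subgroup `U ≤ V`. -/
theorem replacement [Finite G] {V A : Subgroup G} (hVab : V ≤ Subgroup.centralizer (V : Set G))
    (hAV : A ≤ Subgroup.normalizer (V : Set G)) (hab : ⁅A, A⁆ ≤ Subgroup.centralizer (V : Set G))
    (hmax : ∀ B : Subgroup G, B ≤ A → Nat.card B * Nat.card ↥(Fx(V, B)) ≤ Nat.card A * Nat.card ↥(Fx(V, A)))
    {U : Subgroup G} (hU : U ≤ V) :
    Nat.card ↥(A ⊓ Subgroup.centralizer ((⁅U, A⁆ : Subgroup G) : Set G)) *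
        Nat.card ↥(Fx(V, A ⊓ Subgroup.centralizer ((⁅U, A⁆ : Subgroup G) : Set G)))
      = Nat.card A * Nat.card ↥(Fx(V, A)) ∧
    Fx(V, A ⊓ Subgroup.centralizer ((⁅U, A⁆ : Subgroup G) : Set G)) = ⁅U, A⁆ ⊔ Fx(V, A) := by
  have := replacement_core hVab hAV hab hmax (Set.toFinite (U : Set G)).toFinset
    (fun u hu => hU ((Set.Finite.mem_toFinset _).1 hu))
  rwa [Set.Finite.coe_toFinset, commSet_eq_commutator] at this

theorem bestOffender_commutative_image {V A : Subgroup G} (hA : Cfsg.IsBestOffenderOn p V A) :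
    ∀ a ∈ A, ∃ k : ℕ, a ^ p ^ k ∈ Subgroup.centralizer (V : Set G) :=
  fun a ha => ⟨1, by simpa using hA.2.2 a ha⟩

theorem bestOffender_replacement [Finite G] {V A : Subgroup G} (hV : Cfsg.IsElementaryAbelian p V)
    (hAV : A ≤ Subgroup.normalizer (V : Set G)) (hA : Cfsg.IsBestOffenderOn p V A) {U : Subgroup G} (hU : U ≤ V) :
    Cfsg.IsBestOffenderOn p V (A ⊓ Subgroup.centralizer ((⁅U, A⁆ : Subgroup G) : Set G)) := by
  obtain ⟨h1, _⟩ := replacement (elemAb_le_centralizer hV) hAV hA.2.1 hA.1 hU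
  refine ⟨fun B hB => ?_, (Subgroup.commutator_mono inf_le_left inf_le_left).trans hA.2.1,
    fun a ha => hA.2.2 a ha.1⟩
  rw [h1]
  exact hA.1 B (hB.trans inf_le_left)

/-- If `A` acts nontrivially then so does its replacement. -/
theorem not_centralize_replacement [Finite G] [Fact p.Prime] {V A : Subgroup G}
    (hV : Cfsg.IsElementaryAbelian p V) (hAV : A ≤ Subgroup.normalizer (V : Set G))
    (hA : Cfsg.IsBestOffenderOn p V A) {U : Subgroup G} (hU : U ≤ V) (hne : ⁅V, A⁆ ≠ ⊥) :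
    ⁅V, A ⊓ Subgroup.centralizer ((⁅U, A⁆ : Subgroup G) : Set G)⁆ ≠ ⊥ := by
  intro h0
  obtain ⟨_, h2⟩ := replacement (elemAb_le_centralizer hV) hAV hA.2.1 hA.1 hU
  rw [inf_eq_left.2 (Subgroup.commutator_eq_bot_iff_le_centralizer.1 h0)] at h2
  refine hne (eq_bot_of_le_commutator_pgroup (elemAb_isPGroup hV) hAV (bestOffender_commutative_image hA)
    (commutator_le_left_of_normalizes hAV) ?_)
  have hW : ⁅U, A⁆ ≤ ⁅V, A⁆ := Subgroup.commutator_mono hU le_rfl
  have hle : V ≤ ⁅V, A⁆ ⊔ Fx(V, A) := h2.le.trans (sup_le_sup_right hW _)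
  have hVV := elemAb_le_centralizer hV
  refine Subgroup.commutator_le.2 fun v hv a ha => ?_
  have hn : Fx(V, A) ≤ Subgroup.normalizer ((⁅V, A⁆ : Subgroup G) : Set G) :=
    ((inf_le_left.trans hVV).trans (Subgroup.centralizer_le (commutator_le_left_of_normalizes hAV))).trans
      (Subgroup.centralizer_le_normalizer _)
  have hm := hle hv
  rw [← SetLike.mem_coe, Subgroup.coe_mul_of_right_le_normalizer_left _ _ hn] at hm
  obtain ⟨w, hw, c, hc, rfl⟩ := Set.mem_mul.1 hm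
  have hca : ⁅c, a⁆ = 1 :=
    commutatorElement_eq_one_iff_mul_comm.2 (Subgroup.mem_centralizer_iff.1 hc.2 a ha).symm
  rw [commutatorElement_mul_left_eq_conj_mul, hca, mul_one, mul_inv_cancel, one_mul]
  exact Subgroup.commutator_mem_commutator hw ha

end Cfsg.Agent.PLocal
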