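import Cfsg.Agent.Lib.PLocal.PComplement
import Cfsg.Agent.Lib.PLocal.Functor
import Cfsg.Agent.Lib.PLocal.ZJCenter
import Cfsg.Agent.Lib.PLocal.Replacement

/-!
The normal `p`-complement theorems of Glauberman and Thompson, `p` odd (namespace `Cfsg.Agent.PLocal`).

* `glauberman_complement`: through `N(Z(J(P)))`, elementary abelian `J`
* `glauberman_complementA`: through `N(Z(J(P)))`, abelian `J`
* `thompson_complement`: through `N(J(P))` and `C(Z(P))`
-/

namespace Cfsg.Agent.PLocal

open Subgroup
open scoped commutatorElement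

universe u

variable {p : ℕ} [Fact p.Prime]

/-- A scheme from a single functorial characteristic subgroup whose normality finishes the reduced case. -/
theorem scheme_of_functor (F : ∀ {X : Type u} [Group X], Subgroup X → Subgroup X)
    (hF : ∀ {X Y : Type u} [Group X] [Group Y] (f : X →* Y) (K : Subgroup X), Set.InjOn f K →
      (F K).map f = F (K.map f))
    (hle : ∀ {X : Type u} [Group X] (K : Subgroup X), F K ≤ K)
    (hne : ∀ {X : Type u} [Group X] [Finite X] (K : Subgroup X), IsPGroup p K → K ≠ ⊥ → F K ≠ ⊥)
    (hfinal : ∀ {X : Type u} [Group X] [Finite X] (S : Sylow p X), Reduced p (S : Subgroup X) →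
      (F (S : Subgroup X)).Normal) :
    Scheme.{u} p fun G _ S => Cfsg.HasNormalPComplement p ↥(normalizer (F S : Set G)) where
  of_char := by
    intro G _ _ R hR h
    obtain ⟨hc, hmap⟩ := char_of_functorial (fun {X} [Group X] => F) (fun f K hf => hF f K hf) (R : Subgroup G)
    rw [← hmap]
    refine h _ hc fun e => hne _ R.2 hR ?_
    rw [← hmap, e, Subgroup.map_bot]
  restrict := by
    intro G _ _ S M hSM h
    have hmap : (F ((S : Subgroup G).subgroupOf M)).map M.subtype = F (S : Subgroup G) := by
      rw [hF _ _ M.subtype_injective.injOn, map_subgroupOf_eq_of_le hSM]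
    refine Transfer.hasNormalPComplement_of_injective h
      ((M.subtype.comp (normalizer (F ((S : Subgroup G).subgroupOf M) : Set M)).subtype).codRestrict _
        fun x => ?_) fun a b hab => ?_
    · rw [← hmap]; exact le_normalizer_map M.subtype ⟨x, x.2, rfl⟩
    · refine Subtype.ext (Subtype.ext ?_)
      have := congrArg Subtype.val hab
      exact this
  map := by
    intro G G' _ _ _ f hf hker S h
    haveI : Finite G' := Finite.of_surjective f hf
    rw [← hF f _ (injOn_of_pGroup f hker S.2), normalizer_map_eq f hf hker (S.2.to_le (hle _))]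
    exact hnpc_of_map h
  final := by
    intro G _ _ S hr h
    exact hr.not_complement (hnpc_of_normal_normalizer (hfinal S hr) h)

theorem glauberman_complement {G : Type u} [Group G] [Finite G] (hp : p ≠ 2) (P : Sylow p G)
    (h : Cfsg.HasNormalPComplement p ↥(normalizer (Cfsg.centerThompsonOf p (P : Subgroup G) : Set G))) :
    Cfsg.HasNormalPComplement p G := by
  refine (scheme_of_functor.{u} (fun {X} [Group X] K => Cfsg.centerThompsonOf p K)
    (fun f K hf => map_centerThompsonOf f hf) (fun K => inf_le_left.trans (thompsonSubgroupOf_le K))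
    (fun K hK hne e => ?_)
    (fun S hr => zjCenter_normal hp hr.centralizer_le (fun Q _ hQ => hr.shape.pStableOn hp Q hQ) S)).hasNormalPComplement
      P h
  obtain ⟨z, hz, hz1, hzp⟩ := exists_central_of_order_p hK hne
  exact hz1 (mem_bot.1 (e.le (central_le_centerThompsonOf hz hzp)))

theorem glauberman_complementA {G : Type u} [Group G] [Finite G] (hp : p ≠ 2) (P : Sylow p G)
    (h : Cfsg.HasNormalPComplement p ↥(normalizer (Cfsg.centerThompsonAOf (P : Subgroup G) : Set G))) :
    Cfsg.HasNormalPComplement p G := by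
  refine (scheme_of_functor.{u} (fun {X} [Group X] K => Cfsg.centerThompsonAOf K)
    (fun f K hf => map_centerThompsonAOf f hf) (fun K => inf_le_left.trans (thompsonSubgroupAOf_le K))
    (fun K hK hne e => ?_)
    (fun S hr => ?_)).hasNormalPComplement P h
  · obtain ⟨z, hz, hz1, -⟩ := exists_central_of_order_p hK hne
    exact hz1 (mem_bot.1 (e.le (central_le_centerThompsonAOf hz)))
  · rw [Cfsg.centerThompsonAOf, thompsonSubgroupAOf_eq, ← sInf_maxIn_abelian]
    exact zj_normal hp goodClass_abelian hr.centralizer_le (fun Q _ hQ => hr.shape.pStableOn hp Q hQ) S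

/-! ### Thompson -/

theorem mem_centralizer_of_omegaOne {G : Type*} [Group G] {Z : Subgroup G} (hZp : IsPGroup p Z)
    (hZc : Z ≤ centralizer (Z : Set G)) {x : G} (hx : (orderOf x).Coprime p) (hxZ : x ∈ normalizer (Z : Set G))
    (hxo : x ∈ centralizer (Cfsg.omegaOne p Z : Set G)) : x ∈ centralizer (Z : Set G) := by
  suffices key : ∀ k, ∀ z ∈ Z, z ^ p ^ k = 1 → x * z * x⁻¹ = z by
    refine mem_centralizer_iff.2 fun z hz => ?_
    obtain ⟨k, hk⟩ := hZp ⟨z, hz⟩
    exact (mul_inv_eq_iff_eq_mul.1 (key k z hz (congrArg Subtype.val hk))).symm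
  intro k
  induction k with
  | zero => intro z _ hz; rw [pow_zero, pow_one] at hz; simp [hz]
  | succ k ih =>
    intro z hz hzk
    set w := x * z * x⁻¹ * z⁻¹
    have hwZ : w ∈ Z := Z.mul_mem (conj_mem hxZ hz) (Z.inv_mem hz)
    have hwp : w ^ p = 1 := by
      have hcm : Commute (x * z * x⁻¹) z⁻¹ :=
        (mem_centralizer_iff.1 (hZc (Z.inv_mem hz)) _ (conj_mem hxZ hz))
      rw [hcm.mul_pow, conj_pow, inv_pow, ih (z ^ p) (Z.pow_mem hz p) (by rw [← pow_mul, ← pow_succ', hzk]),
        mul_inv_cancel]
    have hxw : x * w = w * x := (mem_centralizer_iff.1 hxo w (mem_omegaOne hwZ hwp)).symm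
    have hn := conj_pow_eq (v := z) (a := x) (w := w) rfl hxw (orderOf x)
    rw [pow_orderOf_eq_one, one_mul, inv_one, mul_one, right_eq_mul] at hn
    have h3 := pow_gcd_eq_one.2 ⟨hn, hwp⟩
    rw [Nat.coprime_iff_gcd_eq_one.1 hx, pow_one] at h3
    exact mul_inv_eq_one.1 h3

/-- The reduced case of Thompson's theorem. -/
theorem thompson_final {G : Type u} [Group G] [Finite G] (hp : p ≠ 2) (S : Sylow p G)
    (hr : Reduced p (S : Subgroup G))
    (hN : Cfsg.HasNormalPComplement p ↥(normalizer (Cfsg.thompsonSubgroupOf p (S : Subgroup G) : Set G)))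
    (hC : Cfsg.HasNormalPComplement p
      ↥(centralizer (((S : Subgroup G) ⊓ centralizer ((S : Subgroup G) : Set G) : Subgroup G) : Set G))) : False := by
  set H := Cfsg.pCore p G
  haveI : H.Normal := Cores.pCore_normal p G
  have hHp : IsPGroup p H := Cores.isPGroup_pCore p G
  have hHS : H ≤ (S : Subgroup G) := Cores.pCore_le_sylow S
  set ZH := H ⊓ centralizer (H : Set G)
  have normC : ∀ X : Subgroup G, X.Normal → (centralizer (X : Set G)).Normal := fun X hX =>
    normalizer_eq_top_iff.1 (top_le_iff.1
      ((normalizer_eq_top_iff.2 hX).ge.trans (normalizer_le_normalizer_centralizer X)))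
  haveI := normC H inferInstance
  have hZHn : ZH.Normal := inferInstance
  set V := Cfsg.omegaOne p ZH
  have hZHab : ZH ≤ centralizer (ZH : Set G) := inf_le_right.trans (centralizer_le inf_le_left)
  have hVe : Cfsg.IsElementaryAbelian p V := omegaOne_elemAb hZHab
  haveI : V.Normal := normalizer_eq_top_iff.1 (top_le_iff.1 fun g _ => by
    rw [mem_normalizer_iff_map_eq, map_omegaOne _ (MulAut.conj g).injective.injOn,
      mem_normalizer_iff_map_eq.1 (le_normalizer_of_normal (K := ⊤) (mem_top g))])
  set N := centralizer (V : Set G)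
  haveI : N.Normal := normC V inferInstance
  have hHN : H ≤ N := le_centralizer_comm ((omegaOne_le ZH).trans inf_le_right)
  have hZS : (S : Subgroup G) ⊓ centralizer ((S : Subgroup G) : Set G) ≤ ZH := by
    intro z hz
    have hc : z ∈ centralizer (H : Set G) := centralizer_le (SetLike.coe_subset_coe.2 hHS) hz.2
    exact ⟨hr.centralizer_le hc, hc⟩
  have hnot : ¬ Cfsg.pResidual p G ≤ N := by
    intro hres
    have htop : (⊤ : Subgroup G) ≤
        centralizer (((S : Subgroup G) ⊓ centralizer ((S : Subgroup G) : Set G) : Subgroup G) : Set G) := by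
      rw [← Transfer.sylow_sup_eq_top S]
      refine sup_le (le_centralizer_comm inf_le_right) ((closure_le _).2 fun x hx => ?_)
      exact centralizer_le (SetLike.coe_subset_coe.2 hZS) (mem_centralizer_of_omegaOne (hHp.to_le inf_le_left) hZHab
        hx (le_normalizer_of_normal (K := ⊤) (mem_top x)) (hres (Transfer.mem_pResidual_of_coprime hx)))
    exact hr.not_complement (hnpc_of_top (hnpc_of_le htop hC))
  have hNH : N ≤ H := by
    rcases hr.pResidual_minimal N inferInstance hHN with h | h
    · exact Cores.le_pCore (inferInstance : N.Normal) h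
    · exact absurd h hnot
  have hVH : V ≤ H := (omegaOne_le ZH).trans inf_le_left
  have hquad : ∀ a : G, ⁅⁅V, zpowers a⁆, zpowers a⁆ = ⊥ → a ∈ H := by
    intro a ha
    have h1 := hr.shape.pStableOn hp V (elemAb_isPGroup hVe) a ha
    refine Cores.comap_pCore_le (QuotientGroup.mk' N) ?_ h1
    rw [QuotientGroup.ker_mk']
    exact hHp.to_le hNH
  have hJH : Cfsg.thompsonSubgroupOf p (S : Subgroup G) ≤ H := by
    rw [thompsonSubgroupOf_eq]
    refine sSup_le fun A hA => ?_
    by_contra hAH
    have hAV : A ≤ normalizer (V : Set G) := le_normalizer_of_normal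
    have hVS : V ≤ (S : Subgroup G) := hVH.trans hHS
    have hfix : V ⊓ centralizer (A : Set G) ≤ A := fun x hx =>
      mem_of_centralizes hA (hVS hx.1) (hVe.2 x hx.1) hx.2
    have hoff : Cfsg.IsBestOffenderOn p V A := by
      refine ⟨fun B hB => ?_, ?_, fun a ha => by rw [hA.2.1.2 a ha]; exact one_mem _⟩
      · set C := V ⊓ centralizer (B : Set G)
        have hBe := elemAb_mono hA.2.1 hB
        have hCe : Cfsg.IsElementaryAbelian p C := elemAb_mono hVe inf_le_left
        have hsup := elemAb_sup hBe hCe (le_centralizer_comm inf_le_right)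
        have h1 : Nat.card ↥(B ⊔ C) ≤ Nat.card A :=
          maxIn_card hA (sup_le (hB.trans hA.1) (inf_le_left.trans hVS)) hsup
        have h2 : Nat.card ↥(B ⊓ C) ≤ Nat.card ↥(V ⊓ centralizer (A : Set G)) := card_le_of_le fun x hx =>
          ⟨hx.2.1, elemAb_le_centralizer hA.2.1 (hB hx.1)⟩
        have h3 := card_sup_mul_card_inf (H := B) (K := C) (inf_le_right.trans (centralizer_le_normalizer _))
        rw [← h3]
        exact Nat.mul_le_mul h1 h2
      · rw [(commutator_eq_bot_iff_le_centralizer.2 (elemAb_le_centralizer hA.2.1))]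
        exact bot_le
    have hne : ⁅V, A⁆ ≠ ⊥ := fun e => hAH ((le_centralizer_comm
      (commutator_eq_bot_iff_le_centralizer.1 e)).trans hNH)
    have h1 := not_centralize_replacement hVe hAV hoff (U := V) le_rfl hne
    set A0 := A ⊓ centralizer ((⁅V, A⁆ : Subgroup G) : Set G)
    refine h1 (commutator_eq_bot_iff_le_centralizer.2 (le_centralizer_comm fun a ha => ?_))
    refine hHN (hquad a (le_bot_iff.1 ?_))
    refine (commutator_mono (commutator_mono le_rfl (zpowers_le.2 (inf_le_left (b := centralizer _) ha)))
      (zpowers_le.2 ha)).trans (commutator_eq_bot_iff_le_centralizer.2 (le_centralizer_comm inf_le_right)).le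
  have hJ : Cfsg.thompsonSubgroupOf p (S : Subgroup G) = Cfsg.thompsonSubgroupOf p H := by
    rw [thompsonSubgroupOf_eq, thompsonSubgroupOf_eq]
    rw [thompsonSubgroupOf_eq] at hJH
    refine le_antisymm (sSup_le fun A hA => le_sSup (maxIn_of_mem_le hA ((le_sSup hA).trans hJH) hHS))
      (sSup_le fun A hA => ?_)
    obtain ⟨A₀, hA₀⟩ := exists_maxIn (Q := elemAb p) elemAb_bot (S : Subgroup G)
    exact le_sSup ⟨hA.1.trans hHS, hA.2.1, fun B hB hQ =>
      (hA₀.2.2 B hB hQ).trans (hA.2.2 A₀ ((le_sSup hA₀).trans hJH) hA₀.2.1)⟩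
  refine hr.not_complement (hnpc_of_normal_normalizer ?_ hN)
  rw [hJ]
  exact normalizer_eq_top_iff.1 (top_le_iff.1 ((normalizer_eq_top_iff.2 (inferInstance : H.Normal)).ge.trans
    (normalizer_le_normalizer_thompsonSubgroupOf H)))

theorem thompson_complement {G : Type u} [Group G] [Finite G] (hp : p ≠ 2) (P : Sylow p G)
    (hN : Cfsg.HasNormalPComplement p ↥(normalizer (Cfsg.thompsonSubgroupOf p (P : Subgroup G) : Set G)))
    (hC : Cfsg.HasNormalPComplement p
      ↥(centralizer (((P : Subgroup G) ⊓ centralizer ((P : Subgroup G) : Set G) : Subgroup G) : Set G))) :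
    Cfsg.HasNormalPComplement p G := by
  have sc : Scheme.{u} p fun G _ S =>
      Cfsg.HasNormalPComplement p ↥(normalizer (Cfsg.thompsonSubgroupOf p S : Set G)) ∧
      Cfsg.HasNormalPComplement p ↥(centralizer ((S ⊓ centralizer (S : Set G) : Subgroup G) : Set G)) := by
    refine ⟨?_, ?_, ?_, ?_⟩
    · intro G _ _ R hR h
      refine ⟨?_, ?_⟩
      · obtain ⟨hc, hmap⟩ := char_of_functorial.{u} (fun {X} [Group X] K => Cfsg.thompsonSubgroupOf p K)
          (fun f K hf => map_thompsonSubgroupOf f hf) (R : Subgroup G)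
        rw [← hmap]
        obtain ⟨z, hz, hz1, hzp⟩ := exists_central_of_order_p R.2 hR
        refine h _ hc fun e => hz1 ?_
        have hzJ : z ∈ Cfsg.thompsonSubgroupOf p (R : Subgroup G) := (central_le_centerThompsonOf hz hzp).1
        rw [← hmap, e, Subgroup.map_bot] at hzJ
        exact mem_bot.1 hzJ
      · obtain ⟨hc, hmap⟩ := char_of_functorial.{u} (fun {X} [Group X] K => K ⊓ centralizer (K : Set X))
          (fun f K hf => map_inf_centralizer_self f hf) (R : Subgroup G)
        rw [← hmap]
        obtain ⟨z, hz, hz1, -⟩ := exists_central_of_order_p R.2 hR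
        refine hnpc_of_le (centralizer_le_normalizer _) (h _ hc fun e => hz1 ?_)
        rw [← hmap, e, Subgroup.map_bot] at hz
        exact mem_bot.1 hz
    · intro G _ _ S M hSM h
      have hinj : Set.InjOn M.subtype ((S : Subgroup G).subgroupOf M) := M.subtype_injective.injOn
      refine ⟨?_, ?_⟩
      · have hmap : (Cfsg.thompsonSubgroupOf p ((S : Subgroup G).subgroupOf M)).map M.subtype
            = Cfsg.thompsonSubgroupOf p (S : Subgroup G) := by
          rw [map_thompsonSubgroupOf _ hinj, map_subgroupOf_eq_of_le hSM]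
        refine Transfer.hasNormalPComplement_of_injective h.1 ((M.subtype.comp
          (normalizer (Cfsg.thompsonSubgroupOf p ((S : Subgroup G).subgroupOf M) : Set M)).subtype).codRestrict _
            fun x => ?_) fun a b hab => ?_
        · rw [← hmap]; exact le_normalizer_map M.subtype ⟨x, x.2, rfl⟩
        · refine Subtype.ext (Subtype.ext ?_)
          have := congrArg Subtype.val hab
          exact this
      · set Z := (S : Subgroup G).subgroupOf M ⊓ centralizer ((S : Subgroup G).subgroupOf M : Set M)
        have hmap : Z.map M.subtype = (S : Subgroup G) ⊓ centralizer ((S : Subgroup G) : Set G) := by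
          rw [map_inf_centralizer_self _ hinj, map_subgroupOf_eq_of_le hSM]
        refine Transfer.hasNormalPComplement_of_injective h.2
          ((M.subtype.comp (centralizer (Z : Set M)).subtype).codRestrict _ fun x => ?_) fun a b hab => ?_
        · rw [← hmap]; exact map_centralizer_le_centralizer_image _ M.subtype ⟨x, x.2, rfl⟩
        · refine Subtype.ext (Subtype.ext ?_)
          have := congrArg Subtype.val hab
          exact this
    · intro G G' _ _ _ f hf hker S h
      haveI : Finite G' := Finite.of_surjective f hf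
      have hinj := injOn_of_pGroup f hker S.2
      refine ⟨?_, ?_⟩
      · rw [← map_thompsonSubgroupOf f hinj, normalizer_map_eq f hf hker (S.2.to_le (thompsonSubgroupOf_le _))]
        exact hnpc_of_map h.1
      · rw [← map_inf_centralizer_self f hinj, centralizer_map_eq f hf hker (S.2.to_le inf_le_left)]
        exact hnpc_of_map h.2
    · intro G _ _ S hr h
      exact thompson_final hp S hr h.1 h.2
  exact sc.hasNormalPComplement P ⟨hN, hC⟩

end Cfsg.Agent.PLocal
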