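import Cfsg.Agent.Lib.PLocal.PStable
import Cfsg.Agent.Lib.Quadratic.PairModel
import Cfsg.Agent.Lib.Quadratic.Stable

/-!
Failure of `p`-stability gives a section `Qd(p)` (namespace `Cfsg.Agent.PLocal`).

* `exists_prime_plane`: `SL₂(p) ≤ SL₂(K)` stabilises an `F_p`-plane on which it acts naturally
* `qd_section_of_plane`: a group inducing `SL₂(p)` on a subgroup `≅ F_p²` gives a section `Qd(p)`
* `qd_section_of_not_stable`: an element quadratic on a normal `p`-group outside `O_p` gives a section `Qd(p)`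
-/

namespace Cfsg.Agent.PLocal

open Cfsg Subgroup Quadratic Matrix
open scoped commutatorElement

universe u

variable {p : ℕ} [Fact p.Prime]

local notation "SL₂" => Matrix.SpecialLinearGroup (Fin 2)

omit [Fact p.Prime] in
theorem upperE_transvection {K : Type*} [Field K] (d : K) :
    SpecialLinearGroup.transvection (show (0 : Fin 2) ≠ 1 by decide) d = upperE d := by
  apply Subtype.ext
  show Matrix.transvection (0 : Fin 2) 1 d = _
  ext i j
  fin_cases i <;> fin_cases j <;> simp [Matrix.transvection, upperE, Matrix.single]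

omit [Fact p.Prime] in
theorem lowerE_transvection {K : Type*} [Field K] (d : K) :
    SpecialLinearGroup.transvection (show (1 : Fin 2) ≠ 0 by decide) d = lowerE d := by
  apply Subtype.ext
  show Matrix.transvection (1 : Fin 2) 0 d = _
  ext i j
  fin_cases i <;> fin_cases j <;> simp [Matrix.transvection, lowerE, Matrix.single]

theorem lowerE_pow' (n : ℕ) : lowerE (1 : ZMod p) ^ n = lowerE (n : ZMod p) := by
  induction n with
  | zero =>
    rw [pow_zero]
    apply Subtype.ext
    ext i j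
    fin_cases i <;> fin_cases j <;> simp [lowerE]
  | succ n ih =>
    rw [pow_succ, ih]
    apply Subtype.ext
    rw [Matrix.SpecialLinearGroup.coe_mul, lowerE_val, lowerE_val, lowerE_val]
    ext i j
    fin_cases i <;> fin_cases j <;> simp [Matrix.mul_apply, Fin.sum_univ_two]

/-- `SL₂(p)` is generated by the two unitriangular elements. -/
theorem closure_upperE_lowerE : Subgroup.closure ({upperE 1, lowerE 1} : Set (SL₂ (ZMod p))) = ⊤ := by
  rw [← top_le_iff, ← Linear.closure_slTvSet, Subgroup.closure_le]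
  rintro _ ⟨i, j, hij, d, rfl⟩
  have hd : ((d.val : ℕ) : ZMod p) = d := ZMod.natCast_zmod_val d
  fin_cases i <;> fin_cases j
  · exact absurd rfl hij
  · rw [SetLike.mem_coe, show SpecialLinearGroup.transvection hij d = upperE d from upperE_transvection d]
    have := Subgroup.pow_mem _ (Subgroup.subset_closure (Set.mem_insert (upperE (1 : ZMod p)) {lowerE 1})) d.val
    rwa [upperE_pow, mul_one, hd] at this
  · rw [SetLike.mem_coe, show SpecialLinearGroup.transvection hij d = lowerE d from lowerE_transvection d]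
    have := Subgroup.pow_mem _ (Subgroup.subset_closure (Set.mem_insert_of_mem (upperE (1 : ZMod p))
      (Set.mem_singleton (lowerE 1)))) d.val
    rwa [lowerE_pow', hd] at this
  · exact absurd rfl hij

omit [Fact p.Prime] in
theorem val_mul {m : ℕ} {K : Type*} [CommRing K] (A B : Matrix.SpecialLinearGroup (Fin m) K) :
    (A * B).1 = A.1 * B.1 := rfl

omit [Fact p.Prime] in
theorem val_inv_two {K : Type*} [CommRing K] (A : SL₂ K) :
    (A⁻¹).1 = !![A.1 1 1, -A.1 0 1; -A.1 1 0, A.1 0 0] := by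
  show Matrix.adjugate A.1 = _
  exact Matrix.adjugate_fin_two A.1

omit [Fact p.Prime] in
/-- The only involution of `SL₂` in odd characteristic. -/
theorem eq_neg_one_of_sq {K : Type*} [Field K] (h2 : (2 : K) ≠ 0) {x : SL₂ K} (hx : x * x = 1) (h1 : x ≠ 1) :
    x = -1 := by
  have hm : x.1 * x.1 = 1 := congrArg Subtype.val hx
  have e00 : x.1 0 0 * x.1 0 0 + x.1 0 1 * x.1 1 0 = 1 := by
    have := congrFun (congrFun hm 0) 0; simpa [Matrix.mul_apply, Fin.sum_univ_two] using this
  have e01 : x.1 0 0 * x.1 0 1 + x.1 0 1 * x.1 1 1 = 0 := by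
    have := congrFun (congrFun hm 0) 1; simpa [Matrix.mul_apply, Fin.sum_univ_two] using this
  have e10 : x.1 1 0 * x.1 0 0 + x.1 1 1 * x.1 1 0 = 0 := by
    have := congrFun (congrFun hm 1) 0; simpa [Matrix.mul_apply, Fin.sum_univ_two] using this
  have e11 : x.1 1 0 * x.1 0 1 + x.1 1 1 * x.1 1 1 = 1 := by
    have := congrFun (congrFun hm 1) 1; simpa [Matrix.mul_apply, Fin.sum_univ_two] using this
  have hd : x.1 0 0 * x.1 1 1 - x.1 0 1 * x.1 1 0 = 1 := by
    have := x.2; rwa [Matrix.det_fin_two] at this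
  set s := x.1 0 0 + x.1 1 1 with hs
  have hs2 : s * s = 4 := by linear_combination e00 + e11 + 2 * hd
  have hs0 : s ≠ 0 := fun h => by
    rw [h, mul_zero] at hs2
    exact mul_ne_zero h2 h2 (by linear_combination -hs2)
  have h01 : x.1 0 1 = 0 := (mul_eq_zero.1 (show x.1 0 1 * s = 0 by linear_combination e01)).resolve_right hs0
  have h10 : x.1 1 0 = 0 := (mul_eq_zero.1 (show x.1 1 0 * s = 0 by linear_combination e10)).resolve_right hs0
  rw [h01, zero_mul, add_zero] at e00
  rw [h10, mul_zero, sub_zero] at hd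
  rcases mul_self_eq_one_iff.1 e00 with h | h
  · rw [h, one_mul] at hd
    exact absurd (Subtype.ext (by ext i j; fin_cases i <;> fin_cases j <;> simp [h, hd, h01, h10])) h1
  · rw [h, neg_one_mul, neg_eq_iff_eq_neg] at hd
    exact Subtype.ext (by ext i j; fin_cases i <;> fin_cases j <;> simp [h, hd, h01, h10])

theorem tr_eq_zero_of_sq {K : Type*} [Field K] {s : SL₂ K} (h : s * s = -1) : s.1 0 0 + s.1 1 1 = 0 := by
  have hm : s.1 * s.1 = -1 := congrArg Subtype.val h
  have e00 : s.1 0 0 * s.1 0 0 + s.1 0 1 * s.1 1 0 = -1 := by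
    have := congrFun (congrFun hm 0) 0; simpa [Matrix.mul_apply, Fin.sum_univ_two] using this
  have e11 : s.1 1 0 * s.1 0 1 + s.1 1 1 * s.1 1 1 = -1 := by
    have := congrFun (congrFun hm 1) 1; simpa [Matrix.mul_apply, Fin.sum_univ_two] using this
  have hd : s.1 0 0 * s.1 1 1 - s.1 0 1 * s.1 1 0 = 1 := by
    have := s.2; rwa [Matrix.det_fin_two] at this
  exact mul_self_eq_zero.1 (by linear_combination e00 + e11 + 2 * hd)

/-- A copy of `SL₂(p)` in `SL₂(K)` has a natural `F_p`-plane. -/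
theorem exists_prime_plane (hp : p ≠ 2) {K : Type*} [Field K] [CharP K p] (f : SL₂ (ZMod p) →* SL₂ K)
    (hf : Function.Injective f) :
    ∃ ι : (Fin 2 → ZMod p) →+ (Fin 2 → K), Function.Injective ι ∧
      ∀ s x, (f s).1.mulVec (ι x) = ι (s.1.mulVec x) := by
  have h2 : (2 : K) ≠ 0 := two_ne_zero_char (K := K) hp
  have h2' : (2 : ZMod p) ≠ 0 := two_ne_zero_char (K := ZMod p) hp
  set c : ZMod p →+* K := ZMod.castHom dvd_rfl K
  set u := f (upperE 1)
  set l := f (lowerE 1)
  obtain ⟨g, t, hg⟩ := exists_conj_upperE_of_pow (p := p) (y := u) (by rw [← map_pow, upperE_pow_char p, map_one])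
  obtain ⟨g', t', hg'⟩ := exists_conj_upperE_of_pow (p := p) (y := l) (by
    rw [← map_pow, lowerE_pow', CharP.cast_eq_zero, ← map_one f]
    congr 1
    apply Subtype.ext
    ext i j
    fin_cases i <;> fin_cases j <;> simp [lowerE])
  set L := g⁻¹ * l * g with hL
  have hd : L.1 0 0 * L.1 1 1 - L.1 0 1 * L.1 1 0 = 1 := by
    have := L.2; rwa [Matrix.det_fin_two] at this
  have htrL : L.1 0 0 + L.1 1 1 = 2 := by
    have e : L = (g⁻¹ * g') * upperE t' * (g⁻¹ * g')⁻¹ := by
      rw [← hg', hL]; group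
    have : Matrix.trace L.1 = Matrix.trace (upperE t').1 := by
      rw [e, val_mul, Matrix.trace_mul_comm, ← val_mul, inv_mul_cancel_left]
    rwa [Matrix.trace_fin_two, Matrix.trace_fin_two, upperE_val, show (!![(1 : K), t'; 0, 1] 0 0) = 1 from rfl,
      show (!![(1 : K), t'; 0, 1] 1 1) = 1 from rfl, one_add_one_eq_two] at this
  -- the two do not commute
  have hne : ¬ Commute (upperE (1 : ZMod p)) (lowerE 1) := by
    intro h
    have := congrFun (congrFun (congrArg Subtype.val h.eq) 0) 0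
    simp only [val_mul, upperE_val, lowerE_val] at this
    simp [Matrix.mul_apply, Fin.sum_univ_two] at this
  have hC : L.1 1 0 ≠ 0 := by
    intro h0
    rw [h0, mul_zero, sub_zero] at hd
    have hA : L.1 0 0 = 1 := by
      have : (L.1 0 0 - 1) * (L.1 0 0 - 1) = 0 := by linear_combination -hd + L.1 0 0 * htrL
      exact sub_eq_zero.1 (mul_self_eq_zero.1 this)
    have hD : L.1 1 1 = 1 := by linear_combination htrL - hA
    have hLu : L = upperE (L.1 0 1) := by
      apply Subtype.ext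
      ext i j
      fin_cases i <;> fin_cases j <;> simp [upperE, h0, hA, hD]
    have h3 : Commute (upperE t) L := by
      rw [hLu, commute_iff_eq, upperE_mul, upperE_mul, add_comm]
    have h4 := h3.map (MulAut.conj g).toMonoidHom
    rw [← hg, hL] at h4
    simp only [MulEquiv.coe_toMonoidHom, MulAut.conj_apply] at h4
    have h5 : Commute u l := by simpa [mul_assoc] using h4
    exact hne (hf (by rw [map_mul, map_mul]; exact h5.eq))
  -- the relation `(u l⁻¹ u)² = -1`
  have hm1 : f (-1) = -1 := by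
    refine eq_neg_one_of_sq h2 (by rw [← map_mul, neg_mul_neg, one_mul, map_one]) fun h => ?_
    have h6 : (-1 : SL₂ (ZMod p)) = 1 := hf (h.trans (map_one f).symm)
    have := congrFun (congrFun (congrArg Subtype.val h6) 0) 0
    simp at this
    exact h2' (by linear_combination -this)
  have hrel : (upperE (1 : ZMod p) * (lowerE 1)⁻¹ * upperE 1) * (upperE 1 * (lowerE 1)⁻¹ * upperE 1) = -1 := by
    apply Subtype.ext
    simp only [val_mul, val_inv_two, upperE_val, lowerE_val]
    ext i j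
    fin_cases i <;> fin_cases j <;> simp [Matrix.mul_apply, Fin.sum_univ_two]
  have hS : (upperE t * L⁻¹ * upperE t) * (upperE t * L⁻¹ * upperE t) = -1 := by
    have h7 : (u * l⁻¹ * u) * (u * l⁻¹ * u) = -1 := by
      rw [← hm1, ← hrel]; simp only [map_mul, map_inv, u, l]
    calc (upperE t * L⁻¹ * upperE t) * (upperE t * L⁻¹ * upperE t)
        = g⁻¹ * ((u * l⁻¹ * u) * (u * l⁻¹ * u)) * g := by rw [← hg, hL]; group
      _ = -1 := by rw [h7]; simp
  have htC : t * L.1 1 0 = 1 := by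
    have h8 := tr_eq_zero_of_sq hS
    simp only [val_mul, val_inv_two, upperE_val] at h8
    simp [Matrix.mul_apply, Fin.sum_univ_two] at h8
    exact mul_left_cancel₀ h2 (by linear_combination -h8 + htrL)
  set v1 : Fin 2 → K := g.1.mulVec ![1, 0]
  set v2 : Fin 2 → K := g.1.mulVec ![L.1 0 0 - 1, L.1 1 0]
  let ι : (Fin 2 → ZMod p) →+ (Fin 2 → K) :=
    AddMonoidHom.mk' (fun x => c (x 0) • v1 + c (x 1) • v2) fun x y => by
      simp only [Pi.add_apply, map_add, add_smul]; abel
  have hι : ∀ x, ι x = g.1.mulVec ![c (x 0) + c (x 1) * (L.1 0 0 - 1), c (x 1) * L.1 1 0] := by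
    intro x
    show c (x 0) • v1 + c (x 1) • v2 = _
    rw [← Matrix.mulVec_smul, ← Matrix.mulVec_smul, ← Matrix.mulVec_add]
    congr 1
    ext i
    fin_cases i <;> simp
  refine ⟨ι, ?_, fun s => ?_⟩
  · rw [injective_iff_map_eq_zero]
    intro x hx
    rw [hι] at hx
    have h9 := congrArg (g⁻¹).1.mulVec hx
    rw [Matrix.mulVec_mulVec, ← val_mul, inv_mul_cancel, show (1 : SL₂ K).1 = 1 from rfl,
      Matrix.one_mulVec, Matrix.mulVec_zero] at h9
    have hx1 : x 1 = 0 := by
      have := congrFun h9 1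
      simp at this
      rcases this with h | h
      · exact h
      · exact absurd h hC
    have hx0 : x 0 = 0 := by
      have := congrFun h9 0
      simp [hx1] at this
      exact this
    ext i
    fin_cases i <;> simp [hx0, hx1]
  have hu : u = g * upperE t * g⁻¹ := by rw [← hg]; group
  have hl : l = g * L * g⁻¹ := by rw [hL]; group
  have gen : ∀ (M : SL₂ K) (x : Fin 2 → ZMod p), (g * M * g⁻¹).1.mulVec (ι x) =
      g.1.mulVec (M.1.mulVec ![c (x 0) + c (x 1) * (L.1 0 0 - 1), c (x 1) * L.1 1 0]) := by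
    intro M x
    rw [hι, Matrix.mulVec_mulVec, ← val_mul, inv_mul_cancel_right, Matrix.mulVec_mulVec, val_mul]
  have hs : s ∈ Submonoid.closure ({upperE 1, lowerE 1} : Set (SL₂ (ZMod p))) := by
    rw [← Subgroup.closure_toSubmonoid_of_finite, Subgroup.mem_toSubmonoid, closure_upperE_lowerE]
    exact Subgroup.mem_top s
  induction hs using Submonoid.closure_induction with
  | mem y hy =>
    intro x
    rcases hy with rfl | rfl
    · show u.1.mulVec (ι x) = _
      rw [hu, gen, hι]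
      congr 1
      ext i
      fin_cases i <;> simp [upperE, Matrix.mulVec, dotProduct, Fin.sum_univ_two]
      linear_combination c (x 1) * htC
    · show l.1.mulVec (ι x) = _
      rw [hl, gen, hι]
      congr 1
      ext i
      fin_cases i <;> simp [lowerE, Matrix.mulVec, dotProduct, Fin.sum_univ_two]
      · linear_combination c (x 1) * (L.1 0 0) * htrL - c (x 1) * hd - c (x 1) * htrL + c (x 1) * htrL
      · linear_combination c (x 1) * L.1 1 0 * htrL
  | one => intro x; simp
  | mul y z _ _ hy hz =>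
    intro x
    rw [map_mul, val_mul, ← Matrix.mulVec_mulVec, hz, hy, val_mul,
      Matrix.mulVec_mulVec]

/-- The affine matrix of `(s, x)`. -/
def affineMat (s : SL₂ (ZMod p)) (x : Fin 2 → ZMod p) : Matrix.SpecialLinearGroup (Fin 3) (ZMod p) :=
  ⟨!![s.1 0 0, s.1 0 1, x 0; s.1 1 0, s.1 1 1, x 1; 0, 0, 1], by
    have h := s.2
    rw [Matrix.det_fin_two] at h
    rw [Matrix.det_fin_three]
    simp
    linear_combination h⟩

theorem affineMat_mul (s t : SL₂ (ZMod p)) (x y : Fin 2 → ZMod p) :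
    affineMat s x * affineMat t y = affineMat (s * t) (x + s.1.mulVec y) := by
  apply Subtype.ext
  rw [val_mul]
  ext i j
  fin_cases i <;> fin_cases j <;>
    simp [affineMat, val_mul, Matrix.mul_apply, Fin.sum_univ_three, Fin.sum_univ_two, Matrix.mulVec, dotProduct] <;> ring

theorem affineMat_mem_qd (s : SL₂ (ZMod p)) (x : Fin 2 → ZMod p) : affineMat s x ∈ Cfsg.qd p :=
  subset_closure ⟨by simp [affineMat], by simp [affineMat], by simp [affineMat]⟩

theorem exists_affineMat {M : Matrix.SpecialLinearGroup (Fin 3) (ZMod p)} (h0 : M.1 2 0 = 0) (h1 : M.1 2 1 = 0)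
    (h2 : M.1 2 2 = 1) : ∃ s x, affineMat s x = M := by
  have hd : M.1 0 0 * M.1 1 1 - M.1 0 1 * M.1 1 0 = 1 := by
    have := M.2
    rw [Matrix.det_fin_three, h0, h1, h2] at this
    linear_combination this
  refine ⟨⟨!![M.1 0 0, M.1 0 1; M.1 1 0, M.1 1 1], by rw [Matrix.det_fin_two_of]; exact hd⟩,
    ![M.1 0 2, M.1 1 2], Subtype.ext ?_⟩
  ext i j
  fin_cases i <;> fin_cases j <;> simp [affineMat, h0, h1, h2]

/-- A group inducing the natural `SL₂(p)` on a copy of `F_p²` gives a section `Qd(p)`. -/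
theorem qd_section_of_plane (hp : p ≠ 2) {G : Type u} [Group G] [Finite G]
    (ψ : Multiplicative (Fin 2 → ZMod p) →* G) (hψ : Function.Injective ψ) {M₁ : Subgroup G}
    (χ : M₁ →* SL₂ (ZMod p)) (hχ : Function.Surjective χ)
    (hconj : ∀ (h : M₁) (x : Fin 2 → ZMod p), (h : G) * ψ (Multiplicative.ofAdd x) * (h : G)⁻¹ =
      ψ (Multiplicative.ofAdd ((χ h).1.mulVec x))) :
    ∃ (K L : Subgroup G) (_ : (L.subgroupOf K).Normal), Nonempty ((K ⧸ L.subgroupOf K) ≃* ↥(Cfsg.qd p)) := by
  haveI : Fact (Nat.Prime 2) := ⟨Nat.prime_two⟩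
  have h2 : (2 : ZMod p) ≠ 0 := two_ne_zero_char (K := ZMod p) hp
  set Zc : Subgroup (SL₂ (ZMod p)) := zpowers (-1)
  haveI : Zc.Normal := ⟨fun z hz g => by
    obtain ⟨k, rfl⟩ := mem_zpowers_iff.1 hz
    rw [← conj_zpow, show g * (-1) * g⁻¹ = (-1 : SL₂ (ZMod p)) by simp]
    exact zpow_mem (mem_zpowers _) k⟩
  set D := Zc.comap χ
  haveI : D.Normal := inferInstance
  let T : Sylow 2 D := default
  have hZc2 : IsPGroup 2 Zc := by
    rintro ⟨z, hz⟩
    obtain ⟨k, rfl⟩ := mem_zpowers_iff.1 hz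
    refine ⟨1, Subtype.ext ?_⟩
    show ((-1 : SL₂ (ZMod p)) ^ k) ^ 2 ^ 1 = 1
    rw [pow_one, ← zpow_natCast, ← _root_.zpow_mul, mul_comm, _root_.zpow_mul, zpow_natCast, neg_one_sq,
      _root_.one_zpow]
  have hq : Function.Surjective (χ.subgroupComap Zc) := χ.subgroupComap_surjective_of_surjective Zc hχ
  have hTtop : ((T.mapSurjective hq : Sylow 2 Zc) : Subgroup Zc) = ⊤ :=
    top_le_iff.1 ((T.mapSurjective hq).3 (fun x => by
      obtain ⟨k, hk⟩ := hZc2 x.1
      exact ⟨k, Subtype.ext hk⟩) le_top).le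
  have hTD : ∀ d : D, ∃ t ∈ (T : Subgroup D), χ (t : M₁) = χ (d : M₁) := by
    intro d
    have h3 : χ.subgroupComap Zc d ∈ ((T.mapSurjective hq : Sylow 2 Zc) : Subgroup Zc) := hTtop.ge (mem_top _)
    rw [Sylow.coe_mapSurjective] at h3
    obtain ⟨t, ht, hte⟩ := h3
    exact ⟨t, ht, congrArg Subtype.val hte⟩
  set N := normalizer ((T : Subgroup D).map D.subtype : Set M₁)
  have hN : ∀ s, ∃ n ∈ N, χ n = s := by
    intro s
    obtain ⟨m, rfl⟩ := hχ s
    obtain ⟨n, hn, d, hd, rfl⟩ := mem_sup_of_normal_right.1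
      ((Sylow.normalizer_sup_eq_top T).ge (mem_top m))
    obtain ⟨t, ht, hte⟩ := hTD ⟨d, hd⟩
    exact ⟨n * (t : M₁), N.mul_mem hn (le_normalizer (mem_map_of_mem D.subtype ht)), by
      rw [map_mul, map_mul, hte]⟩
  set W := ψ.range
  set N' := N.map M₁.subtype
  have hψc : ∀ (h : M₁) (v : Multiplicative (Fin 2 → ZMod p)), (h : G) * ψ v * (h : G)⁻¹ =
      ψ (Multiplicative.ofAdd ((χ h).1.mulVec v.toAdd)) := fun h v => hconj h v.toAdd
  have hdis : ∀ (n : M₁), n ∈ N → ∀ x, (n : G) = ψ x → x = 1 := by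
    intro n hn x hnx
    obtain ⟨z0, hz0⟩ := hχ (-1)
    obtain ⟨t, ht, htz⟩ := hTD ⟨z0, show χ z0 ∈ Zc from hz0 ▸ mem_zpowers _⟩
    rw [hz0] at htz
    have htT : (t : M₁) ∈ (T : Subgroup D).map D.subtype := mem_map_of_mem D.subtype ht
    have h4 : n * (t : M₁) * n⁻¹ * (t : M₁)⁻¹ ∈ (T : Subgroup D).map D.subtype :=
      mul_mem (conj_mem hn htT) (inv_mem htT)
    have h5 : ((n * (t : M₁) * n⁻¹ * (t : M₁)⁻¹ : M₁) : G) = ψ (x * x) := by
      have h6 := hψc (t : M₁) x⁻¹
      rw [htz] at h6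
      have e : (Multiplicative.ofAdd (((-1 : SL₂ (ZMod p))).1.mulVec (Multiplicative.toAdd x⁻¹))) = x := by
        apply Multiplicative.toAdd.injective
        show (-(1 : Matrix (Fin 2) (Fin 2) (ZMod p))).mulVec (-Multiplicative.toAdd x) = _
        rw [Matrix.neg_mulVec, Matrix.one_mulVec, neg_neg]
      rw [e, map_inv] at h6
      calc ((n * (t : M₁) * n⁻¹ * (t : M₁)⁻¹ : M₁) : G) = ψ x * (((t : M₁) : G) * (ψ x)⁻¹ * ((t : M₁) : G)⁻¹) := by
            simp only [Subgroup.coe_mul, Subgroup.coe_inv, hnx, mul_assoc]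
        _ = ψ (x * x) := by rw [h6, map_mul]
    obtain ⟨d, hd, hde⟩ := h4
    obtain ⟨k, hk⟩ := T.2 ⟨d, hd⟩
    have h7 : ψ (x * x) ^ 2 ^ k = 1 := by
      rw [← h5, ← hde]
      exact congrArg (fun z : (T : Subgroup D) => (((z : D) : M₁) : G)) hk
    rw [← map_pow, ← map_one ψ] at h7
    have h8 := congrArg Multiplicative.toAdd (hψ h7)
    rw [toAdd_pow, toAdd_mul, toAdd_one, ← two_nsmul, ← mul_nsmul'] at h8
    apply Multiplicative.toAdd.injective
    ext i
    have h9 := congrFun h8 i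
    simp only [Pi.smul_apply, Pi.zero_apply, nsmul_eq_mul, Nat.cast_mul, Nat.cast_pow, Nat.cast_ofNat,
      mul_eq_zero, pow_eq_zero_iff', h2, false_and, false_or, or_false] at h9
    simpa using h9
  -- the subgroup `W N`
  set X : Subgroup G := W ⊔ N'
  have hnor : N' ≤ normalizer (W : Set G) := by
    refine Subgroup.le_normalizer_iff.2 ?_
    rintro _ ⟨n, -, rfl⟩ _ ⟨v, rfl⟩
    exact ⟨_, (hψc n v).symm⟩
  have hdec : ∀ g ∈ X, ∃ v, ∃ n ∈ N, g = ψ v * (n : G) := by
    intro g hg
    rw [← SetLike.mem_coe, coe_mul_of_right_le_normalizer_left _ _ hnor] at hg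
    obtain ⟨_, ⟨v, rfl⟩, _, ⟨n, hn, rfl⟩, rfl⟩ := Set.mem_mul.1 hg
    exact ⟨v, n, hn, rfl⟩
  choose vv nn hnn heq using fun g : X => hdec g g.2
  let Θ0 : X → Matrix.SpecialLinearGroup (Fin 3) (ZMod p) := fun g => affineMat (χ (nn g)) (vv g).toAdd
  have huniq : ∀ (g : X) v, ∀ n ∈ N, (g : G) = ψ v * ((n : M₁) : G) → Θ0 g = affineMat (χ n) v.toAdd := by
    intro g v n hn hg
    rw [heq g] at hg
    have h10 : ((nn g * n⁻¹ : M₁) : G) = ψ ((vv g)⁻¹ * v) := by
      rw [map_mul, map_inv, Subgroup.coe_mul, Subgroup.coe_inv, eq_inv_mul_iff_mul_eq, ← mul_assoc, hg,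
        mul_inv_cancel_right]
    have h11 := hdis _ (N.mul_mem (hnn g) (N.inv_mem hn)) _ h10
    rw [inv_mul_eq_one] at h11
    rw [h11, mul_right_inj] at hg
    have h12 : nn g = n := Subtype.ext hg
    simp only [Θ0, h11, h12]
  let Θ : X →* Matrix.SpecialLinearGroup (Fin 3) (ZMod p) := MonoidHom.mk' Θ0 fun g g' => by
    have h13 : ((g * g' : X) : G) = ψ (vv g * Multiplicative.ofAdd ((χ (nn g)).1.mulVec (vv g').toAdd)) *
        ((nn g * nn g' : M₁) : G) := by
      rw [Subgroup.coe_mul, heq g, heq g', map_mul, ← hψc, Subgroup.coe_mul]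
      group
    rw [huniq _ _ _ (N.mul_mem (hnn g) (hnn g')) h13]
    simp only [Θ0, affineMat_mul, map_mul, toAdd_mul, toAdd_ofAdd]
  have hrange : Θ.range = Cfsg.qd p := by
    refine le_antisymm ?_ ((closure_le _).2 ?_)
    · rintro _ ⟨g, rfl⟩; exact affineMat_mem_qd _ _
    · rintro M ⟨h0, h1, h2'⟩
      obtain ⟨s, x, rfl⟩ := exists_affineMat h0 h1 h2'
      obtain ⟨n, hn, rfl⟩ := hN s
      exact ⟨⟨ψ (Multiplicative.ofAdd x) * n, mul_mem (mem_sup_left ⟨_, rfl⟩) (mem_sup_right ⟨n, hn, rfl⟩)⟩,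
        huniq _ _ n hn rfl⟩
  obtain ⟨K, L, hL, -, h⟩ := section_of_hom Θ (Cfsg.qd p) hrange.ge (MulEquiv.refl _)
  exact ⟨K, L, hL, h⟩

theorem qd_section_aux (hp : p ≠ 2) (n : ℕ) : ∀ {G : Type u} [Group G] [Finite G] {P : Subgroup G} [P.Normal]
    (_ : IsPGroup p P) {a b y : G}
    (_ : ∀ v ∈ P, Commute a (a * v * a⁻¹ * v⁻¹)) (_ : ∀ v ∈ P, Commute b (b * v * b⁻¹ * v⁻¹))
    (_ : y ∈ Subgroup.closure ({a, b} : Set G)) (_ : ∀ k : ℕ, y ^ p ^ k ∉ centralizer (P : Set G))
    (_ : Subgroup.closure ({a, b} : Set G) ⊔ P = ⊤), Nat.card P = n →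
    ∃ (K L : Subgroup G) (_ : (L.subgroupOf K).Normal), Nonempty ((K ⧸ L.subgroupOf K) ≃* ↥(Cfsg.qd p)) := by
  induction n using Nat.strong_induction_on with
  | _ n ih =>
  intro G _ _ P _ hP a b y ha hb hy hny htop hn
  have hP0 : P ≠ ⊥ := by
    rintro rfl
    exact hny 0 (mem_centralizer_iff.2 fun x hx => by rw [mem_bot.1 hx, one_mul, mul_one])
  obtain ⟨V, hVP, ⟨hVn, hV0⟩, hVmin⟩ := exists_minimal_le_of_wellFoundedLT
    (fun V : Subgroup G => V.Normal ∧ V ≠ ⊥) P ⟨inferInstance, hP0⟩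
  haveI := hVn
  have hmin : ∀ K : Subgroup G, K.Normal → K ≤ V → K = ⊥ ∨ K = V := fun K hK hKV =>
    or_iff_not_imp_left.2 fun hb' => le_antisymm hKV (hVmin ⟨hK, hb'⟩ hKV)
  have hVp : IsPGroup p V := hP.to_le hVP
  have hPC : P ≤ centralizer (V : Set G) := conjAction_trivial_of_pgroup_minimal hVp hP hmin
  have hVab : V ≤ centralizer (V : Set G) := hVP.trans hPC
  have hVe : Cfsg.IsElementaryAbelian p V := by
    have he := omegaOne_elemAb (p := p) hVab
    haveI : (Cfsg.omegaOne p V).Normal := normalizer_eq_top_iff.1 (top_le_iff.1 fun g _ => by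
      rw [mem_normalizer_iff_map_eq, map_omegaOne _ (MulAut.conj g).injective.injOn,
        mem_normalizer_iff_map_eq.1 (le_normalizer_of_normal (K := ⊤) (mem_top g))])
    have hdvd : p ∣ Nat.card V := (hVp.card_eq_or_dvd).resolve_left fun h => hV0 (card_eq_one.1 h)
    rwa [(hmin _ inferInstance (omegaOne_le V)).resolve_left (omegaOne_ne_bot hdvd)] at he
  set H₀ := Subgroup.closure ({a, b} : Set G) with hH₀
  by_cases h1 : ∀ k : ℕ, y ^ p ^ k ∉ centralizer (V : Set G)
  · letI : CommGroup V := { mul_comm := fun u v => Subtype.ext (elemAb_comm hVe u.2 v.2) }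
    letI : Module (ZMod p) (Additive V) :=
      AddCommGroup.zmodModule (n := p) fun v =>
        congrArg Additive.ofMul (Subtype.ext (hVe.2 _ (Additive.toMul v).2) : (Additive.toMul v : V) ^ p = 1)
    have hHV : H₀ ≤ normalizer (V : Set G) := le_normalizer_of_normal
    let θ : H₀ →* MulAut V := V.normalizerMonoidHom.comp (inclusion hHV)
    have hθ : ∀ (h : H₀) (x : V), ((θ h x : V) : G) = h * x * (h : G)⁻¹ := fun h x => rfl
    let ρ : H₀ →* Module.End (ZMod p) (Additive V) :=
      { toFun := fun u => (θ u).toMonoidHom.toAdditive.toZModLinearMap p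
        map_one' := LinearMap.ext fun v => by simp
        map_mul' := fun u w => LinearMap.ext fun v => by simp }
    have happ : ∀ u v, ρ u v = Additive.ofMul (θ u (Additive.toMul v)) := fun _ _ => rfl
    have hquad : ∀ u : H₀, (∀ v ∈ P, Commute (u : G) ((u : G) * v * (u : G)⁻¹ * v⁻¹)) → IsQuad ρ u := by
      intro u hu v
      apply Additive.toMul.injective
      rw [happ, happ]
      simp only [toMul_sub, toMul_ofMul, div_eq_mul_inv]
      refine Subtype.ext ?_
      rw [hθ, Subgroup.coe_mul, Subgroup.coe_inv, hθ, (hu _ (hVP (Additive.toMul v).2)).eq, mul_inv_cancel_right]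
    have hne : ∃ g, ρ g ≠ 1 := by
      refine ⟨⟨y, hy⟩, fun h => h1 0 (mem_centralizer_iff.2 fun x hx => ?_)⟩
      have h3 := congrArg (fun z => ((Additive.toMul z : V) : G))
        (LinearMap.congr_fun h (Additive.ofMul (⟨x, hx⟩ : V)))
      simp only [happ, toMul_ofMul, hθ, Module.End.one_apply] at h3
      rw [pow_zero, pow_one]
      exact (mul_inv_eq_iff_eq_mul.1 h3).symm
    have hirr : ∀ U : Submodule (ZMod p) (Additive V), (∀ g, ∀ u ∈ U, ρ g u ∈ U) → U = ⊥ ∨ U = ⊤ := by
      intro U hU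
      let U' : Subgroup G := (AddSubgroup.toSubgroup' U.toAddSubgroup).map V.subtype
      have hmem : ∀ (v : V), ((v : G) ∈ U' ↔ Additive.ofMul v ∈ U) := fun v =>
        ⟨fun ⟨w, hw, hwv⟩ => (Subtype.ext hwv : w = v) ▸ hw, fun h => ⟨v, h, rfl⟩⟩
      have hU'V : U' ≤ V := map_subtype_le _
      have hU'n : U'.Normal := by
        refine normalizer_eq_top_iff.1 (top_le_iff.1 (htop.ge.trans (sup_le ?_ ?_)))
        · refine Subgroup.le_normalizer_iff.2 fun h hh x hx => ?_
          have h4 := hU ⟨h, hh⟩ _ ((hmem ⟨x, hU'V hx⟩).1 hx)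
          rw [happ, toMul_ofMul] at h4
          have h5 := (hmem _).2 h4
          rwa [hθ] at h5
        · exact hPC.trans ((centralizer_le hU'V).trans (centralizer_le_normalizer _))
      rcases hmin U' hU'n hU'V with h | h
      · left
        rw [Submodule.eq_bot_iff]
        intro v hv
        have h6 : (((Additive.toMul v : V)) : G) ∈ U' := (hmem _).2 hv
        rw [h, mem_bot] at h6
        exact Additive.toMul.injective (Subtype.ext h6)
      · right
        rw [Submodule.eq_top_iff']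
        intro v
        exact (hmem (Additive.toMul v)).1 (h.symm ▸ (Additive.toMul v : V).2)
    obtain ⟨K, i1, i2, i3, c, hc, φ, hφa, hφb, e, he⟩ := exists_equiv_irreducible ρ
      (a := ⟨a, subset_closure (Set.mem_insert _ _)⟩)
      (b := ⟨b, subset_closure (Set.mem_insert_of_mem _ rfl)⟩)
      (closure_pair_eq_top a b) (hquad _ ha) (hquad _ hb) hne hirr
    letI := i1
    haveI := i2
    haveI := i3
    obtain ⟨M, hM, ⟨em⟩⟩ := exists_sl2_zmod hp hc φ.range ⟨_, hφa⟩ ⟨_, hφb⟩
    set f : SL₂ (ZMod p) →* SL₂ K := M.subtype.comp em.symm.toMonoidHom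
    obtain ⟨ι, hι, hιf⟩ := exists_prime_plane hp f (M.subtype_injective.comp em.symm.injective)
    let ψ : Multiplicative (Fin 2 → ZMod p) →* G :=
      V.subtype.comp (MonoidHom.mk' (fun x => Additive.toMul (e.symm (ι x.toAdd))) fun x x' => by
        simp [map_add])
    have hψ : Function.Injective ψ := fun x x' h => Multiplicative.toAdd.injective
      (hι (e.symm.injective (Additive.toMul.injective (Subtype.ext h))))
    let χ : ↥((M.comap φ).map H₀.subtype) →* SL₂ (ZMod p) :=
      em.toMonoidHom.comp ((φ.subgroupComap M).comp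
        ((M.comap φ).equivMapOfInjective H₀.subtype H₀.subtype_injective).symm.toMonoidHom)
    have hχ : Function.Surjective χ := by
      intro s
      obtain ⟨h, hh⟩ := hM (em.symm s).2
      refine ⟨(M.comap φ).equivMapOfInjective H₀.subtype H₀.subtype_injective
        ⟨h, show φ h ∈ M from hh.symm ▸ (em.symm s).2⟩, ?_⟩
      simp only [χ, MonoidHom.comp_apply, MulEquiv.coe_toMonoidHom, MulEquiv.symm_apply_apply]
      exact (congrArg em (Subtype.ext hh)).trans (em.apply_symm_apply s)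
    refine qd_section_of_plane hp ψ hψ χ hχ fun m x => ?_
    set h' := ((M.comap φ).equivMapOfInjective H₀.subtype H₀.subtype_injective).symm m
    have hm : (m : G) = ((h' : H₀) : G) := by
      conv_lhs => rw [← ((M.comap φ).equivMapOfInjective H₀.subtype H₀.subtype_injective).apply_symm_apply m]
      rfl
    have h7 : f (χ m) = φ (h' : H₀) := by
      simp [f, χ, h']
      rfl
    have h8 : ρ (h' : H₀) (e.symm (ι x)) = e.symm (ι ((χ m).1.mulVec x)) := by
      apply e.injective
      rw [he, e.apply_symm_apply, e.apply_symm_apply, ← h7, hιf]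
    have h9 := congrArg (fun z => ((Additive.toMul z : V) : G)) h8
    simp only [happ, toMul_ofMul, hθ] at h9
    rw [hm]
    exact h9
  push Not at h1
  obtain ⟨m, hm⟩ := h1
  set π := QuotientGroup.mk' V with hπ
  have hπs : Function.Surjective π := QuotientGroup.mk'_surjective V
  haveI : (P.map π).Normal := (inferInstance : P.Normal).map π hπs
  have h2 : ∀ k : ℕ, π y ^ p ^ k ∉ centralizer ((P.map π : Subgroup (G ⧸ V)) : Set (G ⧸ V)) := by
    intro l hl
    set z := y ^ p ^ (m + l) with hz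
    have hzV : z ∈ centralizer (V : Set G) := by rw [hz, pow_add, pow_mul]; exact pow_mem hm _
    have hzP : π z ∈ centralizer ((P.map π : Subgroup (G ⧸ V)) : Set (G ⧸ V)) := by
      rw [hz, map_pow, pow_add, mul_comm, pow_mul]; exact pow_mem hl _
    refine hny (m + l + 1) (mem_centralizer_iff.2 fun x hx => ?_)
    rw [pow_succ, pow_mul, ← hz]
    set w := z * x * z⁻¹ * x⁻¹
    have hw : w ∈ V := by
      rw [← QuotientGroup.eq_one_iff]
      show π w = 1
      have h3 := mem_centralizer_iff.1 hzP (π x) (mem_map_of_mem π hx)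
      simp only [w, map_mul, map_inv, ← h3]
      group
    have hn' := conj_pow_eq (v := x) (a := z) (w := w) (by simp [w])
      (mem_centralizer_iff.1 hzV w hw).symm p
    rw [hVe.2 w hw, one_mul] at hn'
    exact (mul_inv_eq_iff_eq_mul.1 hn').symm
  have hlt : Nat.card (P.map π) < n := by
    have h := Solvable.card_eq_card_map_mul π P
    rw [hπ, QuotientGroup.ker_mk', inf_eq_right.2 hVP] at h
    rw [← hn, hπ, h]
    exact lt_mul_of_one_lt_right Nat.card_pos ((one_lt_card_iff_ne_bot V).2 hV0)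
  have hquad : ∀ c : G, (∀ v ∈ P, Commute c (c * v * c⁻¹ * v⁻¹)) →
      ∀ v ∈ P.map π, Commute (π c) (π c * v * (π c)⁻¹ * v⁻¹) := by
    rintro c hc _ ⟨v, hv, rfl⟩
    simpa using (hc v hv).map π
  have hcl : H₀.map π = Subgroup.closure ({π a, π b} : Set (G ⧸ V)) := by
    rw [hH₀, MonoidHom.map_closure, Set.image_pair]
  obtain ⟨K, L, hL, hiso⟩ := ih _ hlt (hP.map π) (hquad a ha) (hquad b hb) (hcl ▸ mem_map_of_mem π hy) h2
    (by rw [← hcl, ← Subgroup.map_sup, htop, map_top_of_surjective π hπs]) rfl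
  obtain ⟨K', L', hL', -, hiso'⟩ := section_of_quotient (H := K) V ⟨K, L, hL, le_rfl, hiso⟩
  exact ⟨K', L', hL', hiso'⟩

/-- **Failure of `p`-stability gives a section `Qd(p)`.** -/
theorem qd_section_of_not_stable (hp : p ≠ 2) {G : Type u} [Group G] [Finite G] {P : Subgroup G} [P.Normal]
    (hP : IsPGroup p P) {a : G} (ha : ∀ v ∈ P, Commute a (a * v * a⁻¹ * v⁻¹))
    (hna : (QuotientGroup.mk a : G ⧸ centralizer (P : Set G)) ∉ pCore p (G ⧸ centralizer (P : Set G))) :
    ∃ (K L : Subgroup G) (_ : (L.subgroupOf K).Normal), Nonempty ((K ⧸ L.subgroupOf K) ≃* ↥(Cfsg.qd p)) := by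
  obtain ⟨g, hg⟩ := exists_pair_of_not_mem_pCore hna
  obtain ⟨g, rfl⟩ := QuotientGroup.mk_surjective g
  set C := centralizer (P : Set G)
  set π := QuotientGroup.mk' C
  obtain ⟨y, hy, hny⟩ : ∃ y ∈ Subgroup.closure ({a, g * a * g⁻¹} : Set G), ∀ k : ℕ, y ^ p ^ k ∉ C := by
    by_contra h
    push Not at h
    apply hg
    intro x
    have hx : (x : G ⧸ C) ∈ (Subgroup.closure ({a, g * a * g⁻¹} : Set G)).map π := by
      rw [MonoidHom.map_closure, Set.image_pair]
      exact x.2
    obtain ⟨y, hy, hyx⟩ := hx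
    obtain ⟨k, hk⟩ := h y hy
    refine ⟨k, Subtype.ext ?_⟩
    rw [SubgroupClass.coe_pow, OneMemClass.coe_one, ← hyx, ← map_pow]
    exact (QuotientGroup.eq_one_iff _).2 hk
  set G₀ := Subgroup.closure ({a, g * a * g⁻¹} : Set G) ⊔ P
  have hPG : P ≤ G₀ := le_sup_right
  have haG : a ∈ G₀ := mem_sup_left (subset_closure (Set.mem_insert _ _))
  have hbG : g * a * g⁻¹ ∈ G₀ := mem_sup_left (subset_closure (Set.mem_insert_of_mem _ rfl))
  have hq : ∀ c : G₀, (∀ v ∈ P, Commute (c : G) ((c : G) * v * (c : G)⁻¹ * v⁻¹)) →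
      ∀ v ∈ P.subgroupOf G₀, Commute c (c * v * c⁻¹ * v⁻¹) := fun c hc v hv =>
    Subtype.ext (hc v (mem_subgroupOf.1 hv)).eq
  have hcl : (Subgroup.closure ({⟨a, haG⟩, ⟨g * a * g⁻¹, hbG⟩} : Set G₀)).map G₀.subtype =
      Subgroup.closure ({a, g * a * g⁻¹} : Set G) := by
    rw [MonoidHom.map_closure, Set.image_pair]; rfl
  have hy' : (⟨y, mem_sup_left hy⟩ : G₀) ∈ Subgroup.closure ({⟨a, haG⟩, ⟨g * a * g⁻¹, hbG⟩} : Set G₀) := by
    obtain ⟨z, hz, hzy⟩ := hcl.ge hy
    rwa [show (⟨y, mem_sup_left hy⟩ : G₀) = z from Subtype.ext hzy.symm]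
  obtain ⟨K, L, hL, ⟨e⟩⟩ := qd_section_aux hp _ (P := P.subgroupOf G₀) (hP.comap_subtype)
    (hq _ ha) (hq _ (commute_of_quad_conj (by rw [normalizer_eq_top]; exact mem_top g) ha)) hy'
    (fun k hk => hny k (mem_centralizer_iff.2 fun x hx => congrArg Subtype.val
      (mem_centralizer_iff.1 hk ⟨x, hPG hx⟩ (mem_subgroupOf.2 hx))))
    (map_injective G₀.subtype_injective (by
      rw [Subgroup.map_sup, hcl, map_subgroupOf_eq_of_le hPG, ← MonoidHom.range_eq_map, range_subtype])) rfl
  have es : ↥(K.map G₀.subtype) ≃* ↥K := (K.equivMapOfInjective G₀.subtype G₀.subtype_injective).symm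
  set q : ↥(K.map G₀.subtype) →* ↥(Cfsg.qd p) :=
    (e.toMonoidHom.comp (QuotientGroup.mk' (L.subgroupOf K))).comp es.toMonoidHom
  obtain ⟨K', L', hL', -, h⟩ := section_of_hom q ⊤
    (MonoidHom.range_eq_top.2 ((e.surjective.comp (QuotientGroup.mk'_surjective _)).comp es.surjective)).ge
    topEquiv
  exact ⟨K', L', hL', h⟩

end Cfsg.Agent.PLocal
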