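import Cfsg.Agent.Lib.PLocal.CharFunctor
import Cfsg.Agent.Lib.PLocal.QdSection
import Cfsg.Agent.Lib.PLocal.ZJ
import Cfsg.Agent.Lib.PLocal.Functor

/-!
`N(Z(J(S)))` controls strong fusion in all sections of a `Qd(p)`-free group, `p` odd (namespace `Cfsg.Agent.PLocal`).

* `zjFunctor`, `isCharPFunctor_zjFunctor`, `inducedFunctor_zjFunctor`
* `qdFree_zjA_normal`, `qdFree_zjA_control`
-/

namespace Cfsg.Agent.PLocal

open Subgroup
open Cfsg (IsCharPFunctor inducedFunctor)
open FunctorControl (IsSec)

universe u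

/-- `Z(J(Q))`, abelian version, as a functor on groups. -/
def zjFunctor (Q : Type u) [Group Q] : Subgroup Q := Cfsg.centerThompsonAOf (⊤ : Subgroup Q)

theorem inducedFunctor_zjFunctor {G : Type u} [Group G] (H : Subgroup G) :
    inducedFunctor zjFunctor H = Cfsg.centerThompsonAOf H := by
  rw [inducedFunctor, zjFunctor, map_centerThompsonAOf _ H.subtype_injective.injOn, ← MonoidHom.range_eq_map,
    range_subtype]

variable {p : ℕ} [Fact p.Prime]

theorem isCharPFunctor_zjFunctor : IsCharPFunctor.{u} p zjFunctor := by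
  refine ⟨fun Q _ _ hQ hnt e => ?_, fun Q R _ _ _ hQ φ => ?_⟩
  · obtain ⟨z, hz, hz1, -⟩ := exists_central_of_order_p (H := (⊤ : Subgroup Q))
      (hQ.of_equiv Subgroup.topEquiv.symm) top_ne_bot
    exact hz1 (mem_bot.1 (e.le (central_le_centerThompsonAOf hz)))
  · rw [zjFunctor, map_centerThompsonAOf _ φ.injective.injOn, map_top_of_surjective _ φ.surjective, zjFunctor]

/-- A constrained group with no section `Qd(p)` has `Z(J(S))` normal. -/
theorem qdFree_zjA_normal (hp : p ≠ 2) {G : Type u} [Group G] [Finite G]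
    (hfree : ¬ Cfsg.Involves ↥(Cfsg.qd p) G)
    (hc : centralizer (Cfsg.pCore p G : Set G) ≤ Cfsg.pCore p G) (S : Sylow p G) :
    (Cfsg.centerThompsonAOf (S : Subgroup G)).Normal := by
  rw [Cfsg.centerThompsonAOf, thompsonSubgroupAOf_eq, ← sInf_maxIn_abelian]
  refine zj_normal hp goodClass_abelian hc (fun P _ hP a ha => ?_) S
  by_contra hna
  exact hfree (qd_section_of_not_stable hp hP (Quadratic.commute_of_quad ha) hna)

/-- In every section of a `Qd(p)`-free group, `N(Z(J(T)))` realises all fusion in `T`. -/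
theorem qdFree_zjA_control (hp : p ≠ 2) {G : Type u} [Group G] [Finite G]
    (hfree : ¬ Cfsg.Involves ↥(Cfsg.qd p) G) {X : Type u} [Group X] (hX : IsSec G X) (P : Sylow p X)
    (Q : Subgroup X) (hQ : Q ≤ (P : Subgroup X)) (g : X)
    (hg : Q.map (MulAut.conj g).toMonoidHom ≤ (P : Subgroup X)) :
    Realized (normalizer (inducedFunctor zjFunctor (P : Subgroup X) : Set X)) Q g := by
  refine sec_control (goodFunctor_induced isCharPFunctor_zjFunctor) (fun K R _ hc T => ?_) hX P Q hQ g hg
  rw [inducedFunctor_zjFunctor]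
  refine qdFree_zjA_normal hp (fun h => hfree ?_) hc T
  obtain ⟨K', f, hf⟩ := (FunctorControl.isSec_quotient K R)
  obtain ⟨L, q, hq⟩ := Involves.exists_hom_of_involves h
  exact Involves.involves_of_subgroup (Involves.involves_of_surjective f hf (Involves.involves_of_hom q hq))

end Cfsg.Agent.PLocal
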