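import Cfsg.Agent.Lib.PLocal.Thompson
import Cfsg.Agent.Lib.PLocal.Action
import Cfsg.Agent.Lib.PLocal.Replacement

/-!
Maximal elementary abelian subgroups as best offenders (namespace `Cfsg.Agent.PLocal`).

* `isBestOffenderOn_of_maxIn`: a member of `maxIn (elemAb p) S` is a best offender on `V ≤ S`
* `exists_larger_intersection`: unless it acts quadratically it has a replacement meeting `V` in more
* `le_centralizer_of_sup_fixed`: `V = [V, A] C_V(A)` forces trivial action
-/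

namespace Cfsg.Agent.PLocal

open Subgroup
open scoped commutatorElement

variable {G : Type*} [Group G] [Finite G] {p : ℕ}

theorem fixed_le_of_maxIn {S A V : Subgroup G} (hA : A ∈ maxIn (elemAb p) S) (hV : Cfsg.IsElementaryAbelian p V)
    (hVS : V ≤ S) : V ⊓ centralizer (A : Set G) ≤ A :=
  fun _ hx => mem_of_centralizes hA (hVS hx.1) (hV.2 _ hx.1) hx.2

theorem isBestOffenderOn_of_maxIn {S A V : Subgroup G} (hA : A ∈ maxIn (elemAb p) S)
    (hV : Cfsg.IsElementaryAbelian p V) (hVS : V ≤ S) : Cfsg.IsBestOffenderOn p V A := by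
  refine ⟨fun B hB => ?_, ?_, fun a ha => by rw [hA.2.1.2 a ha]; exact one_mem _⟩
  · set C := V ⊓ centralizer (B : Set G)
    have hBe := elemAb_mono hA.2.1 hB
    have hCe : Cfsg.IsElementaryAbelian p C := elemAb_mono hV inf_le_left
    have hsup := elemAb_sup hBe hCe (le_centralizer_comm inf_le_right)
    have h1 : Nat.card ↥(B ⊔ C) ≤ Nat.card A :=
      maxIn_card hA (sup_le (hB.trans hA.1) (inf_le_left.trans hVS)) hsup
    have h2 : Nat.card ↥(B ⊓ C) ≤ Nat.card ↥(V ⊓ centralizer (A : Set G)) := card_le_of_le fun x hx =>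
      ⟨hx.2.1, elemAb_le_centralizer hA.2.1 (hB hx.1)⟩
    have h3 := card_sup_mul_card_inf (H := B) (K := C) (inf_le_right.trans (centralizer_le_normalizer _))
    rw [← h3]
    exact Nat.mul_le_mul h1 h2
  · rw [(commutator_eq_bot_iff_le_centralizer.2 (elemAb_le_centralizer hA.2.1))]
    exact bot_le

/-- The replacement of `A` with respect to `V`. -/
theorem exists_larger_intersection {S A V : Subgroup G} (hA : A ∈ maxIn (elemAb p) S)
    (hV : Cfsg.IsElementaryAbelian p V) (hVS : V ≤ S) (hAV : A ≤ normalizer (V : Set G))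
    (hq : ⁅⁅V, A⁆, A⁆ ≠ ⊥) :
    ∃ A' ∈ maxIn (elemAb p) S, A ⊓ V < A' ⊓ V ∧
      A' = A ⊓ centralizer ((⁅V, A⁆ : Subgroup G) : Set G) ⊔ (⁅V, A⁆ ⊔ V ⊓ centralizer (A : Set G)) := by
  obtain ⟨h1, h2⟩ := replacement (elemAb_le_centralizer hV) hAV (isBestOffenderOn_of_maxIn hA hV hVS).2.1
    (isBestOffenderOn_of_maxIn hA hV hVS).1 (U := V) le_rfl
  set A0 := A ⊓ centralizer ((⁅V, A⁆ : Subgroup G) : Set G)
  have hfix := fixed_le_of_maxIn hA hV hVS
  have hVA : ⁅V, A⁆ ≤ V := commutator_le_left_of_normalizes hAV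
  set F0 := ⁅V, A⁆ ⊔ V ⊓ centralizer (A : Set G) with hF0
  have hF0V : F0 ≤ V := sup_le hVA inf_le_left
  have hF0c : F0 ≤ centralizer (A0 : Set G) := sup_le (le_centralizer_comm inf_le_right)
    (inf_le_right.trans (centralizer_le inf_le_left))
  have hsup : Cfsg.IsElementaryAbelian p (A0 ⊔ F0) :=
    elemAb_sup (elemAb_mono hA.2.1 inf_le_left) (elemAb_mono hV hF0V) (le_centralizer_comm hF0c)
  have hcard : Nat.card A ≤ Nat.card ↥(A0 ⊔ F0) := by
    have h3 := card_sup_mul_card_inf (H := A0) (K := F0) (hF0c.trans (centralizer_le_normalizer _))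
    rw [h2] at h1
    rw [h1] at h3
    refine Nat.le_of_mul_le_mul_right ?_ (Nat.card_pos (α := ↥(V ⊓ centralizer (A : Set G))))
    rw [← h3]
    exact Nat.mul_le_mul_left _ (card_le_of_le fun x hx =>
      ⟨hF0V hx.2, elemAb_le_centralizer hA.2.1 hx.1.1⟩)
  refine ⟨A0 ⊔ F0, ⟨sup_le (inf_le_left.trans hA.1) (hF0V.trans hVS), hsup,
    fun B hB hQ => (hA.2.2 B hB hQ).trans hcard⟩, ?_, rfl⟩
  have hle : A ⊓ V ≤ F0 := fun x hx =>
    mem_sup_right (⟨hx.2, elemAb_le_centralizer hA.2.1 hx.1⟩ : x ∈ V ⊓ centralizer (A : Set G))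
  refine lt_of_le_of_ne (le_inf (hle.trans le_sup_right) inf_le_right) fun e => hq ?_
  have h4 : ⁅V, A⁆ ≤ A :=
    (le_inf ((le_sup_left : ⁅V, A⁆ ≤ F0).trans le_sup_right) hVA).trans (e.ge.trans inf_le_left)
  exact le_bot_iff.1 ((commutator_mono h4 le_rfl).trans
    (commutator_eq_bot_iff_le_centralizer.2 (elemAb_le_centralizer hA.2.1)).le)

theorem le_centralizer_of_sup_fixed [Fact p.Prime] {A V : Subgroup G} (hV : Cfsg.IsElementaryAbelian p V)
    (hAV : A ≤ normalizer (V : Set G)) (hAp : ∀ a ∈ A, ∃ k : ℕ, a ^ p ^ k ∈ centralizer (V : Set G))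
    (hle : V ≤ ⁅V, A⁆ ⊔ V ⊓ centralizer (A : Set G)) : A ≤ centralizer (V : Set G) := by
  refine le_centralizer_comm (commutator_eq_bot_iff_le_centralizer.1
    (eq_bot_of_le_commutator_pgroup (elemAb_isPGroup hV) hAV hAp (commutator_le_left_of_normalizes hAV) ?_))
  have hn : V ⊓ centralizer (A : Set G) ≤ normalizer ((⁅V, A⁆ : Subgroup G) : Set G) :=
    ((inf_le_left.trans (elemAb_le_centralizer hV)).trans (centralizer_le
      (commutator_le_left_of_normalizes hAV))).trans (centralizer_le_normalizer _)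
  refine commutator_le.2 fun v hv a ha => ?_
  have hm := hle hv
  rw [← SetLike.mem_coe, coe_mul_of_right_le_normalizer_left _ _ hn] at hm
  obtain ⟨w, hw, c, hc, rfl⟩ := Set.mem_mul.1 hm
  have hca : ⁅c, a⁆ = 1 := commutatorElement_eq_one_iff_mul_comm.2 (mem_centralizer_iff.1 hc.2 a ha).symm
  rw [commutatorElement_mul_left_eq_conj_mul, hca, mul_one, mul_inv_cancel, one_mul]
  exact commutator_mem_commutator hw ha

end Cfsg.Agent.PLocal
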