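import Cfsg.Agent.Lib.PLocal.ZJClosed
import Cfsg.Agent.Lib.PLocal.Functor
import Cfsg.Agent.Lib.PLocal.Quotient

/-!
Glauberman's factorisation for strongly closed subgroups (namespace `Cfsg.Agent.PLocal`).

* `isPStableOn_of_isNormalizerPStable`, `isPStableOn_quotient_pPrime`
* `centerThompsonAOf_normal_closed`, `omegaCenterThompson_normal_closed`: constrained, stable: normal
* `isStronglyClosed_map`: images modulo a normal `p'`-subgroup
-/

namespace Cfsg.Agent.PLocal

open scoped commutatorElement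

variable {G : Type*} [Group G]

theorem isPStableOn_quotient_pPrime [Finite G] {p : ℕ} [Fact p.Prime] {G' : Type*} [Group G']
    (f : G →* G') (hf : Function.Surjective f) (hker : (Nat.card f.ker).Coprime p)
    (hst : Cfsg.IsNormalizerPStable p G) (P : Subgroup G') [P.Normal] (hP : IsPGroup p P) :
    Cfsg.IsPStableOn p P := by
  haveI : Finite G' := Finite.of_surjective f hf
  intro a ha
  obtain ⟨S⟩ : Nonempty (Sylow p G) := inferInstance
  set P₀ := (S : Subgroup G) ⊓ P.comap f
  have hP₀ : IsPGroup p P₀ := S.isPGroup'.to_inf_left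
  have hPeq : P₀.map f = P := by
    refine le_antisymm (Subgroup.map_le_iff_le_comap.2 inf_le_right) fun y hy => ?_
    have h : y ∈ ((S.mapSurjective hf : Sylow p G') : Subgroup G') := hP.le_sylow_of_normal _ hy
    rw [Sylow.coe_mapSurjective] at h
    obtain ⟨s, hs, rfl⟩ := h
    exact ⟨s, ⟨hs, hy⟩, rfl⟩
  have heq := normalizer_map_eq f hf hker hP₀
  rw [hPeq, Subgroup.normalizer_eq_top] at heq
  obtain ⟨g, hg, rfl⟩ := heq.le (Subgroup.mem_top a)
  have hle : ⁅⁅P₀, Subgroup.zpowers g⁆, Subgroup.zpowers g⁆ ≤ P₀ := by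
    have h : ⁅P₀, Subgroup.zpowers g⁆ ≤ P₀ :=
      Subgroup.le_normalizer_iff_commutator_le_left.1 (Subgroup.zpowers_le.2 hg)
    exact (Subgroup.commutator_mono h le_rfl).trans h
  have hquad : ⁅⁅P₀, Subgroup.zpowers g⁆, Subgroup.zpowers g⁆ = ⊥ := by
    refine (Subgroup.eq_bot_iff_forall _).2 fun x hx => ?_
    refine injOn_of_pGroup f hker hP₀ (hle hx) (one_mem P₀) ?_
    rw [map_one, ← Subgroup.mem_bot, ← ha, ← hPeq]
    have h2 := Subgroup.mem_map_of_mem f hx
    rwa [Subgroup.map_commutator, Subgroup.map_commutator, MonoidHom.map_zpowers] at h2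
  let N := Subgroup.normalizer (P₀ : Set G)
  let j : ↥N →* G' ⧸ Subgroup.centralizer (P : Set G') :=
    (QuotientGroup.mk' _).comp (f.comp N.subtype)
  have hle' : (Subgroup.centralizer (P₀ : Set G)).subgroupOf N ≤ j.ker := fun n hn => by
    refine (QuotientGroup.eq_one_iff (f (n : G))).2 ?_
    rw [← hPeq]
    exact Subgroup.map_centralizer_le_centralizer_image _ f ⟨n, hn, rfl⟩
  let φ := QuotientGroup.lift _ j hle'
  have hφ : Function.Surjective φ := by
    intro z
    obtain ⟨z, rfl⟩ := QuotientGroup.mk'_surjective _ z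
    have hN := normalizer_map_eq f hf hker hP₀
    rw [hPeq, Subgroup.normalizer_eq_top] at hN
    obtain ⟨n, hn, rfl⟩ := hN.le (Subgroup.mem_top z)
    exact ⟨((⟨n, hn⟩ : N) : ↥N ⧸ _), rfl⟩
  exact Cores.map_pCore_le φ hφ p ⟨_, hst P₀ hP₀ g hg hquad, rfl⟩

theorem isPStableOn_of_isNormalizerPStable [Finite G] {p : ℕ} [Fact p.Prime]
    (hst : Cfsg.IsNormalizerPStable p G) (P : Subgroup G) [P.Normal] (hP : IsPGroup p P) :
    Cfsg.IsPStableOn p P :=
  isPStableOn_quotient_pPrime (MonoidHom.id G) Function.surjective_id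
    (by rw [MonoidHom.ker_id, Subgroup.card_bot]; exact Nat.coprime_one_left p) hst P hP

theorem centerThompsonAOf_normal_closed [Finite G] {p : ℕ} [Fact p.Prime] (hp : p ≠ 2)
    (hc : Subgroup.centralizer (Cfsg.pCore p G : Set G) ≤ Cfsg.pCore p G)
    (hst : ∀ (P : Subgroup G) [P.Normal], IsPGroup p P → Cfsg.IsPStableOn p P) (S : Sylow p G)
    {D : Subgroup G} (hD : Cfsg.IsStronglyClosed D (S : Subgroup G)) :
    (Cfsg.centerThompsonAOf D).Normal := by
  rw [Cfsg.centerThompsonAOf, thompsonSubgroupAOf_eq, ← sInf_maxIn_abelian]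
  exact zj_normal_closed hp goodClass_abelian hc hst S hD

theorem omegaCenterThompson_normal_closed [Finite G] {p : ℕ} [Fact p.Prime] (hp : p ≠ 2)
    (hc : Subgroup.centralizer (Cfsg.pCore p G : Set G) ≤ Cfsg.pCore p G)
    (hst : ∀ (P : Subgroup G) [P.Normal], IsPGroup p P → Cfsg.IsPStableOn p P) (S : Sylow p G)
    {D : Subgroup G} (hD : Cfsg.IsStronglyClosed D (S : Subgroup G)) :
    (Cfsg.omegaOne p (Cfsg.centerThompsonOf p D)).Normal := by
  have hn := zjCenter_normal_closed hp hc hst S hD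
  refine Subgroup.normalizer_eq_top_iff.1 (top_le_iff.1 fun g _ => ?_)
  rw [mem_normalizer_iff_map_eq, map_omegaOne _ (MulAut.conj g).injective.injOn,
    mem_normalizer_iff_map_eq.1 (Subgroup.le_normalizer_of_normal (K := ⊤) (Subgroup.mem_top g))]

end Cfsg.Agent.PLocal
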