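import Cfsg.Agent.Lib.PLocal.PShape
import Cfsg.Agent.Lib.PLocal.Quotient
import Cfsg.Agent.Lib.PLocal.Grows
import Cfsg.Agent.Lib.Transfer.Criteria
import Cfsg.Agent.Lib.Coprime.Invariant

/-!
A common scheme for normal `p`-complement theorems of Glauberman–Thompson type (namespace `Cfsg.Agent.PLocal`).

* `Reduced p S`: the structure of a minimal group without a normal `p`-complement
* `Scheme p Hy`: the four properties of a local hypothesis `Hy`
* `Scheme.hasNormalPComplement`: `Hy` implies a normal `p`-complement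
-/

namespace Cfsg.Agent.PLocal

open Subgroup
open scoped commutatorElement

universe u

/-- The structure of a minimal counterexample. -/
structure Reduced {G : Type u} [Group G] (p : ℕ) (S : Subgroup G) : Prop where
  not_complement : ¬ Cfsg.HasNormalPComplement p G
  complement_of_ge : ∀ M : Subgroup G, S ≤ M → M ≠ ⊤ → Cfsg.HasNormalPComplement p M
  pPrimeCore_eq_bot : Cfsg.pPrimeCore p G = ⊥
  pCore_ne_bot : Cfsg.pCore p G ≠ ⊥
  centralizer_le : centralizer (Cfsg.pCore p G : Set G) ≤ Cfsg.pCore p G
  pResidual_minimal : ∀ T : Subgroup G, T.Normal → Cfsg.pCore p G ≤ T →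
    IsPGroup p T ∨ Cfsg.pResidual p G ≤ T
  shape : PShape p G

/-- The properties of a local hypothesis which force a normal `p`-complement. -/
structure Scheme (p : ℕ) (Hy : ∀ (G : Type u) [Group G], Subgroup G → Prop) : Prop where
  of_char : ∀ {G : Type u} [Group G] [Finite G] (R : Sylow p G), (R : Subgroup G) ≠ ⊥ →
    (∀ X : Subgroup ↥(R : Subgroup G), X.Characteristic → X ≠ ⊥ →
      Cfsg.HasNormalPComplement p ↥(normalizer (X.map (R : Subgroup G).subtype : Set G))) →
    Hy G (R : Subgroup G)
  restrict : ∀ {G : Type u} [Group G] [Finite G] (S : Sylow p G) (M : Subgroup G), (S : Subgroup G) ≤ M →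
    Hy G (S : Subgroup G) → Hy M ((S : Subgroup G).subgroupOf M)
  map : ∀ {G G' : Type u} [Group G] [Group G'] [Finite G] (f : G →* G'), Function.Surjective f →
    (Nat.card f.ker).Coprime p → ∀ S : Sylow p G, Hy G (S : Subgroup G) → Hy G' ((S : Subgroup G).map f)
  final : ∀ {G : Type u} [Group G] [Finite G] (S : Sylow p G), Reduced p (S : Subgroup G) →
    Hy G (S : Subgroup G) → False

variable {p : ℕ} [Fact p.Prime] {G : Type*} [Group G] [Finite G]

theorem card_quotient_lt {N : Subgroup G} (hN : N ≠ ⊥) : Nat.card (G ⧸ N) < Nat.card G := by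
  rw [← N.index_eq_card, ← N.index_mul_card]
  exact lt_mul_of_one_lt_right (Nat.pos_of_ne_zero index_ne_zero_of_finite) (one_lt_card_iff_ne_bot N |>.2 hN)

theorem card_subgroup_lt {M : Subgroup G} (hM : M ≠ ⊤) : Nat.card M < Nat.card G :=
  lt_of_le_of_ne (card_le_card_group M) fun e => hM (card_eq_iff_eq_top M |>.1 e)

theorem hnpc_of_top (h : Cfsg.HasNormalPComplement p (⊤ : Subgroup G)) : Cfsg.HasNormalPComplement p G :=
  Transfer.hasNormalPComplement_of_equiv h topEquiv

theorem hnpc_of_normal_normalizer {X : Subgroup G} (hX : X.Normal)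
    (h : Cfsg.HasNormalPComplement p (normalizer (X : Set G))) : Cfsg.HasNormalPComplement p G := by
  rw [normalizer_eq_top_iff.2 hX] at h
  exact hnpc_of_top h

theorem hnpc_of_le {H K : Subgroup G} (hHK : H ≤ K) (h : Cfsg.HasNormalPComplement p K) :
    Cfsg.HasNormalPComplement p H :=
  Transfer.hasNormalPComplement_of_injective h (inclusion hHK) (inclusion_injective hHK)

theorem hnpc_of_map {G' : Type*} [Group G'] [Finite G'] {f : G →* G'} {H : Subgroup G}
    (h : Cfsg.HasNormalPComplement p H) : Cfsg.HasNormalPComplement p (H.map f) :=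
  Transfer.hasNormalPComplement_of_surjective h _ (f.subgroupMap_surjective H)

/-- An elementary step: the kernel `p'`, the image has a complement. -/
theorem hnpc_of_coprime_ker {G' : Type*} [Group G'] [Finite G'] (f : G →* G') (hf : Function.Surjective f)
    (hker : (Nat.card f.ker).Coprime p) (h : Cfsg.HasNormalPComplement p G') :
    Cfsg.HasNormalPComplement p G := by
  obtain ⟨k, hk⟩ := Transfer.exists_index_pResidual (G := G') (p := p)
  haveI : (Cfsg.pResidual p G').Normal := Transfer.pResidual_normal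
  refine Transfer.hasNormalPComplement_of_normal (N := (Cfsg.pResidual p G').comap f)
    ((index_comap_of_surjective _ hf).trans hk) (Transfer.hasNormalPComplement_of_not_dvd ?_)
  have hc := Cores.card_map_mul_ker f ((Cfsg.pResidual p G').comap f) (ker_le_comap f _)
  rw [map_comap_eq_self_of_surjective hf] at hc
  rw [← (Fact.out : p.Prime).coprime_iff_not_dvd, Nat.coprime_comm, ← hc]
  exact (Transfer.hasNormalPComplement_iff_coprime.1 h).mul_left hker

theorem characteristic_map_equiv {H K : Type*} [Group H] [Group K] (e : H ≃* K) (X : Subgroup H)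
    [hX : X.Characteristic] : (X.map e.toMonoidHom).Characteristic := by
  refine characteristic_iff_map_eq.2 fun a => ?_
  have h1 := characteristic_iff_map_eq.1 hX ((e.trans a).trans e.symm)
  conv_rhs => rw [← h1]
  rw [map_map, map_map]
  congr 1
  ext x
  simp

/-- The Frobenius reduction: a group without normal `p`-complement and trivial `p`-core has a proper subgroup
without one, all of whose characteristic-local subgroups have one. -/
theorem exists_frobenius_subgroup (S : Sylow p G) (hno : ¬ Cfsg.HasNormalPComplement p G)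
    (hle : ∀ M : Subgroup G, (S : Subgroup G) ≤ M → M ≠ ⊤ → Cfsg.HasNormalPComplement p M)
    (hcore : Cfsg.pCore p G = ⊥) :
    ∃ M : Subgroup G, M ≠ ⊤ ∧ ¬ Cfsg.HasNormalPComplement p M ∧
      ∃ R : Sylow p M, (R : Subgroup M) ≠ ⊥ ∧ ∀ X : Subgroup ↥(R : Subgroup M), X.Characteristic → X ≠ ⊥ →
        Cfsg.HasNormalPComplement p ↥(normalizer (X.map (R : Subgroup M).subtype : Set M)) := by
  have hX : ∃ X : Subgroup G, IsPGroup p X ∧ X ≠ ⊥ ∧ ¬ Cfsg.HasNormalPComplement p ↥(normalizer (X : Set G)) := by
    by_contra hn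
    push Not at hn
    exact hno (Transfer.hasNormalPComplement_of_normalizers S fun R hR hb => hn R (S.2.to_le hR.1) hb)
  obtain ⟨X, ⟨hXp, hXne, hXno⟩, hmax⟩ := Set.exists_max_image
    {X : Subgroup G | IsPGroup p X ∧ X ≠ ⊥ ∧ ¬ Cfsg.HasNormalPComplement p ↥(normalizer (X : Set G))}
    (fun X => (Nat.card ↥(normalizer (X : Set G))).factorization p) (Set.toFinite _) hX
  set M := normalizer (X : Set G)
  have hMtop : M ≠ ⊤ := fun e => hXne (le_bot_iff.1 (hcore ▸ Cores.le_pCore (normalizer_eq_top_iff.1 e) hXp))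
  let R : Sylow p M := default
  have hRne : (R : Subgroup M) ≠ ⊥ := by
    intro e
    have hb := (hXp.of_equiv (subgroupOfEquivOfLe (le_normalizer : X ≤ M)).symm).exists_le_sylow
    obtain ⟨R', hR'⟩ := hb
    have hc : Nat.card R' = 1 := (R'.card_eq_multiplicity.trans R.card_eq_multiplicity.symm).trans
      (card_eq_one.2 e)
    exact hXne (subgroupOf_eq_bot.1 (le_bot_iff.1 (hR'.trans (card_eq_one.1 hc).le)) |>.eq_bot_of_le
      (le_normalizer : X ≤ M))
  refine ⟨M, hMtop, hXno, R, hRne, fun Y hYc hYne => ?_⟩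
  by_contra hYno
  set R0 := (R : Subgroup M).map M.subtype
  obtain ⟨S', hS'⟩ := (R.2.map M.subtype).exists_le_sylow
  rcases hS'.eq_or_lt with heq | hlt
  · obtain ⟨g, hg⟩ := MulAction.exists_smul_eq G S' S
    set c := (MulAut.conj g).toMonoidHom
    have hSM : (S : Subgroup G) ≤ M.map c := by
      rw [← hg, Sylow.coe_subgroup_smul]
      exact map_mono (heq ▸ map_subtype_le (R : Subgroup M))
    have hne : M.map c ≠ ⊤ := fun e => hMtop (map_injective (f := c) (MulAut.conj g).injective
      (e.trans (map_top_of_surjective c (MulAut.conj g).surjective).symm))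
    exact hXno (Transfer.hasNormalPComplement_of_equiv (hle _ hSM hne)
      (M.equivMapOfInjective c (MulAut.conj g).injective).symm)
  · set e := (R : Subgroup M).equivMapOfInjective M.subtype M.subtype_injective
    haveI := characteristic_map_equiv e Y
    set Y0 := (Y.map e.toMonoidHom).map R0.subtype
    have hY0 : Y0 = (Y.map (R : Subgroup M).subtype).map M.subtype := by
      show ((Y.map e.toMonoidHom).map _) = _
      rw [map_map, map_map]
      rfl
    have hYp : IsPGroup p (Y.map (R : Subgroup M).subtype) := (R.2.to_subgroup Y).map _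
    have hno0 : ¬ Cfsg.HasNormalPComplement p ↥(normalizer (Y0 : Set G)) := by
      intro h
      refine hYno (Transfer.hasNormalPComplement_of_injective h
        ((M.subtype.comp (normalizer (Y.map (R : Subgroup M).subtype : Set M)).subtype).codRestrict _ fun x => ?_)
        fun a b hab => ?_)
      · rw [hY0]
        exact le_normalizer_map M.subtype ⟨x, x.2, rfl⟩
      · refine Subtype.ext (Subtype.ext ?_)
        have := congrArg Subtype.val hab
        exact this
    have hmem : Y0 ∈ {X : Subgroup G | IsPGroup p X ∧ X ≠ ⊥ ∧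
        ¬ Cfsg.HasNormalPComplement p ↥(normalizer (X : Set G))} := by
      refine ⟨hY0 ▸ hYp.map _, fun e0 => hYne ?_, hno0⟩
      rwa [hY0, map_eq_bot_iff_of_injective _ M.subtype_injective,
        map_eq_bot_iff_of_injective _ (R : Subgroup M).subtype_injective] at e0
    set T := normalizer (R0 : Set G) ⊓ (S' : Subgroup G)
    have hTle : T ≤ normalizer (Y0 : Set G) := inf_le_left.trans (Cores.normalizer_le_normalizer_map _)
    obtain ⟨k, hk⟩ := IsPGroup.iff_card.1 (S'.2.to_le (inf_le_right : T ≤ (S' : Subgroup G)))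
    have h1 : k ≤ (Nat.card ↥(normalizer (Y0 : Set G))).factorization p :=
      ((Fact.out : p.Prime).pow_dvd_iff_le_factorization Nat.card_pos.ne').1 (hk ▸ card_dvd_of_le hTle)
    have h2 : Nat.card R0 < Nat.card T := by
      refine lt_of_le_of_ne (card_le_of_le (normalizer_inf_of_lt S'.2 hlt).le) fun e2 => ?_
      exact (normalizer_inf_of_lt S'.2 hlt).ne (eq_of_le_of_card_le (normalizer_inf_of_lt S'.2 hlt).le e2.ge)
    rw [hk, card_map_of_injective M.subtype_injective, R.card_eq_multiplicity,
      Nat.pow_lt_pow_iff_right (Fact.out : p.Prime).one_lt] at h2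
    exact absurd (hmax _ hmem) (by omega)

/-- The structure of a minimal counterexample, given the complement in proper quotients. -/
theorem reduced_of_quotient (S : Sylow p G) (hno : ¬ Cfsg.HasNormalPComplement p G)
    (hle : ∀ M : Subgroup G, (S : Subgroup G) ≤ M → M ≠ ⊤ → Cfsg.HasNormalPComplement p M)
    (hH : Cfsg.pCore p G ≠ ⊥) (hO : Cfsg.pPrimeCore p G = ⊥)
    (hquo : Cfsg.HasNormalPComplement p (G ⧸ Cfsg.pCore p G)) : Reduced p (S : Subgroup G) := by
  set H := Cfsg.pCore p G
  haveI : H.Normal := Cores.pCore_normal p G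
  have hHp : IsPGroup p H := Cores.isPGroup_pCore p G
  set f := QuotientGroup.mk' H
  have hf : Function.Surjective f := QuotientGroup.mk'_surjective H
  set K := Cfsg.pResidual p (G ⧸ H)
  haveI : K.Normal := Transfer.pResidual_normal
  have hKcop : (Nat.card K).Coprime p := Transfer.hasNormalPComplement_iff_coprime.1 hquo
  obtain ⟨k, hk⟩ := Transfer.exists_index_pResidual (G := G ⧸ H) (p := p)
  set R := K.comap f
  have hRidx : R.index = p ^ k := (index_comap_of_surjective _ hf).trans hk
  have hresR : Cfsg.pResidual p G ≤ R := map_le_iff_le_comap.1 (Transfer.map_pResidual_le f)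
  have hcent : centralizer (H : Set G) ≤ H := by
    set C := centralizer (H : Set G)
    haveI : C.Normal := normalizer_eq_top_iff.1 (top_le_iff.1
      ((normalizer_eq_top_iff.2 (inferInstance : H.Normal)).ge.trans (normalizer_le_normalizer_centralizer H)))
    by_cases hM : C ⊔ (S : Subgroup G) = ⊤
    · exfalso
      have hpC : Cfsg.pResidual p G ≤ C := by
        refine Transfer.pResidual_le fun q => ?_
        obtain ⟨g, rfl⟩ := QuotientGroup.mk_surjective q
        obtain ⟨c, hc, s, hs, rfl⟩ := mem_sup_of_normal_left.1 (hM.ge (mem_top g))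
        obtain ⟨j, hj⟩ := S.2 ⟨s, hs⟩
        refine ⟨j, ?_⟩
        rw [QuotientGroup.mk_mul, (QuotientGroup.eq_one_iff c).2 hc, one_mul, ← QuotientGroup.mk_pow,
          show s ^ p ^ j = 1 from congrArg Subtype.val hj, QuotientGroup.mk_one]
      apply hno
      refine Transfer.hasNormalPComplement_of_normal hRidx ?_
      have hHR : H ≤ R := fun x hx => mem_comap.2 (by
        rw [show f x = 1 from (QuotientGroup.eq_one_iff x).2 hx]; exact K.one_mem)
      have hidx : ¬ p ∣ (H.subgroupOf R).index := by
        have h1 := Cores.card_map_mul_ker f R (ker_le_comap f K)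
        rw [map_comap_eq_self_of_surjective hf, QuotientGroup.ker_mk'] at h1
        have h2 := card_mul_index (H.subgroupOf R)
        rw [Nat.card_congr (subgroupOfEquivOfLe hHR).toEquiv, ← h1, mul_comm (Nat.card K)] at h2
        rw [Nat.eq_of_mul_eq_mul_left Nat.card_pos h2]
        exact (Fact.out : p.Prime).coprime_iff_not_dvd.1 hKcop.symm
      let P : Sylow p R := (hHp.comap_subtype (K := R)).toSylow hidx
      refine Transfer.hasNormalPComplement_of_local P fun Q hQ _ n _ hco => mem_centralizer_iff.2 fun x hx => ?_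
      have hn : (n : G) ∈ C := hpC (Transfer.mem_pResidual_of_coprime (by rwa [orderOf_submonoid]))
      exact Subtype.ext (mem_centralizer_iff.1 hn x (hQ.1 hx))
    · have hCc := hnpc_of_le le_sup_left (hle _ le_sup_right hM)
      have hn : ((Cfsg.pResidual p C).map C.subtype).Normal := Cores.map_subtype_normal_of_characteristic C _
      have hb : (Cfsg.pResidual p C).map C.subtype = ⊥ := le_bot_iff.1 (hO ▸ Cores.le_pPrimeCore hn
        (by rw [card_map_of_injective C.subtype_injective]; exact Transfer.hasNormalPComplement_iff_coprime.1 hCc))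
      rw [map_eq_bot_iff_of_injective _ C.subtype_injective] at hb
      refine Cores.le_pCore (inferInstance : C.Normal) fun x => ?_
      obtain ⟨j, hj⟩ := Transfer.isPGroup_quotient_pResidual (G := C) (p := p) (QuotientGroup.mk x)
      refine ⟨j, ?_⟩
      rw [← QuotientGroup.mk_pow, QuotientGroup.eq_one_iff, hb, mem_bot] at hj
      exact hj
  set Sb := (S : Subgroup G).map f
  have hSbp : IsPGroup p Sb := S.2.map f
  have hcopSK : (Nat.card Sb).Coprime (Nat.card K) := by
    obtain ⟨j, hj⟩ := IsPGroup.iff_card.1 hSbp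
    rw [hj]
    exact hKcop.symm.pow_left j
  have hSK : K ⊓ Sb = ⊥ := inf_eq_bot_of_coprime hcopSK.symm
  have hcon : ∀ T : Subgroup (G ⧸ H), T ≤ K → T ≠ ⊥ → Sb ≤ normalizer (T : Set (G ⧸ H)) → T = K := by
    intro T hTK hTne hTn
    by_cases hM : (T ⊔ Sb).comap f = ⊤
    · refine le_antisymm hTK fun x hx => ?_
      have hx' : x ∈ T ⊔ Sb := by
        obtain ⟨g, rfl⟩ := hf x
        exact hM.ge (mem_top g)
      rw [← SetLike.mem_coe, coe_mul_of_right_le_normalizer_left _ _ hTn] at hx'
      obtain ⟨t, ht, s, hs, rfl⟩ := Set.mem_mul.1 hx'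
      have hsK : s ∈ K ⊓ Sb := ⟨by simpa using K.mul_mem (K.inv_mem (hTK ht)) hx, hs⟩
      rw [hSK, mem_bot] at hsK
      rw [hsK, mul_one]
      exact ht
    · exfalso
      set M := (T ⊔ Sb).comap f
      have hMc := hle M (map_le_iff_le_comap.1 le_sup_right) hM
      set L := (Cfsg.pResidual p M).map M.subtype
      have hHM : H ≤ M := fun x hx => mem_comap.2 (by
        rw [show f x = 1 from (QuotientGroup.eq_one_iff x).2 hx]; exact (T ⊔ Sb).one_mem)
      have hLb : Cfsg.pResidual p M = ⊥ := by
        refine (map_eq_bot_iff_of_injective _ M.subtype_injective).1 (le_bot_iff.1 fun l hl => ?_)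
        obtain ⟨l, hl, rfl⟩ := hl
        have hc : (l : G) ∈ centralizer (H : Set G) := by
          refine mem_centralizer_iff.2 fun h hh => ?_
          have h1 := Transfer.mem_centralizer_of_coprime hMc (Q := H.subgroupOf M)
            (hHp.of_equiv (subgroupOfEquivOfLe hHM).symm) (g := l) (le_normalizer_of_normal (K := (⊤ : Subgroup M)) (mem_top l))
            ((Transfer.mem_pResidual_iff hMc l).1 hl)
          exact congrArg Subtype.val (mem_centralizer_iff.1 h1 ⟨h, hHM hh⟩ (mem_subgroupOf.2 hh))
        obtain ⟨j, hj⟩ := hHp ⟨l, hcent hc⟩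
        have h2 : (orderOf (l : G)).Coprime p := by
          rw [orderOf_submonoid]; exact (Transfer.mem_pResidual_iff hMc l).1 hl
        have h3 := (pow_gcd_eq_one (a := (l : G))).2 ⟨pow_orderOf_eq_one (l : G), congrArg Subtype.val hj⟩
        rw [Nat.coprime_iff_gcd_eq_one.1 (h2.pow_right j), pow_one] at h3
        exact mem_bot.2 h3
      have hMp : IsPGroup p M := fun x => by
        obtain ⟨j, hj⟩ := Transfer.isPGroup_quotient_pResidual (G := M) (p := p) (QuotientGroup.mk x)
        refine ⟨j, ?_⟩
        rw [← QuotientGroup.mk_pow, QuotientGroup.eq_one_iff, hLb, mem_bot] at hj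
        exact hj
      have hTp : IsPGroup p T := (hMp.map f).to_le
        (le_sup_left.trans (map_comap_eq_self_of_surjective hf (T ⊔ Sb)).ge)
      obtain ⟨j, hj⟩ := IsPGroup.iff_card.1 hTp
      refine hTne (card_eq_one.1 (Nat.eq_one_of_dvd_coprimes (hKcop.pow_right j) (card_dvd_of_le hTK) hj.dvd))
  have hKne : K ≠ ⊥ := by
    intro e
    refine hno (Transfer.hasNormalPComplement_of_isPGroup fun g => ?_)
    obtain ⟨j, hj⟩ := Transfer.isPGroup_quotient_pResidual (G := G ⧸ H) (p := p) (QuotientGroup.mk (f g))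
    rw [← QuotientGroup.mk_pow, QuotientGroup.eq_one_iff, show Cfsg.pResidual p (G ⧸ H) = ⊥ from e, mem_bot,
      ← map_pow] at hj
    obtain ⟨i, hi⟩ := hHp ⟨g ^ p ^ j, (QuotientGroup.eq_one_iff _).1 hj⟩
    exact ⟨j + i, by rw [pow_add, pow_mul]; exact congrArg Subtype.val hi⟩
  have hcomm : ⁅K, K⁆ = ⊥ := by
    by_contra hne
    have hKK := hcon _ (commutator_le_self K) hne le_normalizer_of_normal
    obtain ⟨q, hq, hqd⟩ := Nat.exists_prime_and_dvd ((one_lt_card_iff_ne_bot K).2 hKne).ne'
    haveI : Fact q.Prime := ⟨hq⟩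
    obtain ⟨Q, hQ⟩ := Coprime.exists_invariant_sylow (A := Sb) (K := K) le_normalizer_of_normal hcopSK
      (Or.inl (haveI := hSbp.isNilpotent; inferInstance)) q
    have hQne : ((Q : Subgroup K).map K.subtype) ≠ ⊥ := by
      rw [Ne, map_eq_bot_iff_of_injective _ K.subtype_injective]
      exact Q.ne_bot_of_dvd_card hqd
    have hQK : ((Q : Subgroup K).map K.subtype) = K := hcon _ (map_subtype_le _) hQne hQ
    have hKq : IsPGroup q K := by rw [← hQK]; exact Q.2.map _
    haveI := hKq.isNilpotent
    haveI : Nontrivial K := (nontrivial_iff_ne_bot K).2 hKne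
    refine (Group.IsSolvable.commutator_lt_top_of_nontrivial K).ne (map_injective K.subtype_injective ?_)
    rw [map_subtype_commutator, hKK, ← MonoidHom.range_eq_map, range_subtype]
  refine ⟨hno, hle, hO, hH, hcent, fun T hT hHT => ?_, H, R, inferInstance, inferInstance, hHp, ?_, ?_, ?_⟩
  · haveI : (T.map f).Normal := hT.map f hf
    by_cases hb : T.map f ⊓ K = ⊥
    · left
      intro x
      obtain ⟨j, hj⟩ := Transfer.isPGroup_quotient_pResidual (G := G ⧸ H) (p := p) (QuotientGroup.mk (f x))
      rw [← QuotientGroup.mk_pow, QuotientGroup.eq_one_iff] at hj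
      have h1 : f (x : G) ^ p ^ j ∈ T.map f ⊓ K := ⟨(T.map f).pow_mem (mem_map_of_mem f x.2) _, hj⟩
      rw [hb, mem_bot, ← map_pow] at h1
      obtain ⟨i, hi⟩ := hHp ⟨(x : G) ^ p ^ j, (QuotientGroup.eq_one_iff _).1 h1⟩
      exact ⟨j + i, Subtype.ext (by
        rw [SubgroupClass.coe_pow, pow_add, pow_mul]; exact congrArg Subtype.val hi)⟩
    · right
      have hKT : K ≤ T.map f := inf_eq_right.1 (hcon _ inf_le_right hb le_normalizer_of_normal)
      refine hresR.trans ((comap_mono hKT).trans ?_)
      rw [comap_map_eq, QuotientGroup.ker_mk']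
      exact sup_le le_rfl hHT
  · intro x hx y hy
    rw [← QuotientGroup.eq_one_iff (N := H)]
    have h1 : ⁅f x, f y⁆ ∈ ⁅K, K⁆ := commutator_mem_commutator hx hy
    rw [hcomm, mem_bot, ← map_commutatorElement] at h1
    exact h1
  · intro x hx
    refine ⟨Nat.card K, hKcop, (QuotientGroup.eq_one_iff _).1 ?_⟩
    show f (x ^ Nat.card K) = 1
    rw [map_pow]
    exact congrArg Subtype.val (pow_card_eq_one' (x := (⟨f x, hx⟩ : K)))
  · exact fun g => ⟨k, hRidx ▸ R.pow_index_mem g⟩

/-- **The scheme**: such a hypothesis gives a normal `p`-complement. -/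
theorem Scheme.hasNormalPComplement {Hy : ∀ (G : Type u) [Group G], Subgroup G → Prop} (sc : Scheme p Hy)
    {G : Type u} [Group G] [Finite G] (S : Sylow p G) (hS : Hy G (S : Subgroup G)) :
    Cfsg.HasNormalPComplement p G := by
  obtain ⟨n, hn⟩ : ∃ n, n = Nat.card G := ⟨_, rfl⟩
  induction n using Nat.strong_induction_on generalizing G with
  | _ n IH =>
  subst hn
  by_contra hno
  have hle : ∀ M : Subgroup G, (S : Subgroup G) ≤ M → M ≠ ⊤ → Cfsg.HasNormalPComplement p M := fun M hSM hM =>
    IH _ (card_subgroup_lt hM) (S.subtype hSM) (by rw [Sylow.coe_subtype]; exact sc.restrict S M hSM hS) rfl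
  have hH : Cfsg.pCore p G ≠ ⊥ := by
    intro hb
    obtain ⟨M, hM, hMno, R, hRne, hR⟩ := exists_frobenius_subgroup S hno hle hb
    exact hMno (IH _ (card_subgroup_lt hM) R (sc.of_char R hRne hR) rfl)
  have hO : Cfsg.pPrimeCore p G = ⊥ := by
    by_contra hne
    haveI : (Cfsg.pPrimeCore p G).Normal := Cores.pPrimeCore_normal p G
    set f := QuotientGroup.mk' (Cfsg.pPrimeCore p G)
    have hker : (Nat.card f.ker).Coprime p := by
      rw [QuotientGroup.ker_mk']; exact Cores.coprime_card_pPrimeCore p
    refine hno (hnpc_of_coprime_ker f (QuotientGroup.mk'_surjective _) hker ?_)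
    exact IH _ (card_quotient_lt hne) (S.mapSurjective (QuotientGroup.mk'_surjective _))
      (by rw [Sylow.coe_mapSurjective]; exact sc.map f (QuotientGroup.mk'_surjective _) hker S hS) rfl
  haveI : (Cfsg.pCore p G).Normal := Cores.pCore_normal p G
  refine sc.final S (reduced_of_quotient S hno hle hH hO ?_) hS
  set f := QuotientGroup.mk' (Cfsg.pCore p G)
  have hf := QuotientGroup.mk'_surjective (Cfsg.pCore p G)
  let Sb : Sylow p (G ⧸ Cfsg.pCore p G) := S.mapSurjective hf
  by_cases hSb : (Sb : Subgroup (G ⧸ Cfsg.pCore p G)) = ⊥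
  · refine Transfer.hasNormalPComplement_of_not_dvd fun hd => ?_
    exact Sb.ne_bot_of_dvd_card hd hSb
  refine IH _ (card_quotient_lt hH) Sb (sc.of_char Sb hSb fun X hX hXne => ?_) rfl
  set X0 := X.map (Sb : Subgroup (G ⧸ Cfsg.pCore p G)).subtype
  have hX0ne : X0 ≠ ⊥ := fun e => hXne ((map_eq_bot_iff_of_injective _ (subtype_injective _)).1 e)
  have hSX : (S : Subgroup G) ≤ (normalizer (X0 : Set (G ⧸ Cfsg.pCore p G))).comap f := by
    refine map_le_iff_le_comap.1 ?_
    rw [← Sylow.coe_mapSurjective hf S]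
    exact le_normalizer.trans (Cores.normalizer_le_normalizer_map X)
  have hne : (normalizer (X0 : Set (G ⧸ Cfsg.pCore p G))).comap f ≠ ⊤ := by
    intro e
    have hn : normalizer (X0 : Set (G ⧸ Cfsg.pCore p G)) = ⊤ := comap_injective hf (e.trans (comap_top f).symm)
    refine hX0ne (le_bot_iff.1 ?_)
    have h1 := Cores.le_pCore (normalizer_eq_top_iff.1 hn) ((Sb.2.to_subgroup X).map _)
    rwa [Cores.pCore_quotient_self] at h1
  exact Transfer.hasNormalPComplement_of_surjective (hle _ hSX hne) _
    (f.subgroupComap_surjective_of_surjective _ hf)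

end Cfsg.Agent.PLocal
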