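import Cfsg.Agent.Lib.PLocal.PStable
import Cfsg.Agent.Lib.Transfer.Residual

/-!
`p`-stability of groups which are `p`-by-(abelian `p'`)-by-`p` (namespace `Cfsg.Agent.PLocal`).

* `PShape p G`: there are `H ≤ R` normal with `H` a `p`-group, `R/H` abelian `p'`, `G/R` a `p`-group
* `PShape.subgroup`, `PShape.map`: inherited by subgroups and quotients
* `PShape.pStableOn`: `p`-stability on all normal `p`-subgroups (`p` odd)
-/

namespace Cfsg.Agent.PLocal

open scoped commutatorElement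

universe u

variable {G : Type*} [Group G] {p : ℕ}

/-- `p`-by-(abelian `p'`)-by-`p`. -/
def PShape (p : ℕ) (G : Type*) [Group G] : Prop :=
  ∃ H R : Subgroup G, H.Normal ∧ R.Normal ∧ IsPGroup p H ∧ (∀ x ∈ R, ∀ y ∈ R, ⁅x, y⁆ ∈ H) ∧
    (∀ x ∈ R, ∃ n : ℕ, n.Coprime p ∧ x ^ n ∈ H) ∧ ∀ g : G, ∃ k : ℕ, g ^ p ^ k ∈ R

theorem PShape.map {G' : Type*} [Group G'] (h : PShape p G) (f : G →* G') (hf : Function.Surjective f) :
    PShape p G' := by
  obtain ⟨H, R, hH, hR, hHp, hab, hp', hq⟩ := h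
  refine ⟨H.map f, R.map f, hH.map f hf, hR.map f hf, hHp.map f, ?_, ?_, fun g => ?_⟩
  · rintro _ ⟨x, hx, rfl⟩ _ ⟨y, hy, rfl⟩
    exact ⟨_, hab x hx y hy, map_commutatorElement f x y⟩
  · rintro _ ⟨x, hx, rfl⟩
    obtain ⟨n, hn, hxn⟩ := hp' x hx
    exact ⟨n, hn, _, hxn, map_pow f x n⟩
  · obtain ⟨g, rfl⟩ := hf g
    obtain ⟨k, hk⟩ := hq g
    exact ⟨k, _, hk, map_pow f g _⟩

theorem PShape.subgroup (h : PShape p G) (M : Subgroup G) : PShape p M := by
  obtain ⟨H, R, hH, hR, hHp, hab, hp', hq⟩ := h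
  refine ⟨H.comap M.subtype, R.comap M.subtype, hH.comap _, hR.comap _, hHp.comap_subtype, ?_, ?_, fun g => ?_⟩
  · exact fun x hx y hy => hab _ hx _ hy
  · intro x hx
    obtain ⟨n, hn, hxn⟩ := hp' _ hx
    exact ⟨n, hn, hxn⟩
  · obtain ⟨k, hk⟩ := hq g
    exact ⟨k, hk⟩

/-- Such groups are `p`-stable. -/
theorem PShape.pStableOn [Finite G] [Fact p.Prime] (hp : p ≠ 2) (h : PShape p G)
    (P : Subgroup G) [P.Normal] (hP : IsPGroup p P) : Cfsg.IsPStableOn p P := by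
  refine pStableOn_of_minimal (fun N _ _ V hVn hV hmin => ?_) P hP
  obtain ⟨H, R, hH, hR, hHp, hab, hp', hq⟩ := h.map _ (QuotientGroup.mk'_surjective N)
  have hHC : H ≤ Subgroup.centralizer (V : Set (G ⧸ N)) :=
    conjAction_trivial_of_pgroup_minimal (elemAb_isPGroup hV) hHp hmin
  exact fun a ha => mem_pCore_of_quadratic hp hV R (fun x hx y hy => hHC (hab x hx y hy))
    (fun x hx => (hp' x hx).imp fun n hn => ⟨hn.1, hHC hn.2⟩) hq ha

end Cfsg.Agent.PLocal
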