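import Cfsg.Agent.Lib.PLocal.Omega
import Cfsg.Agent.Lib.PLocal.Action
import Cfsg.Agent.Lib.Cores.Basic

/-!
`p`-stability from quadratic action (namespace `Cfsg.Agent.PLocal`).

* `commutator_mem_centralizer_of_quadratic`: `p` odd, `a` quadratic on the elementary abelian `V`, `x` of order
  prime to `p` on `V` commuting there with `a x a⁻¹`: then `a` and `x` commute on `V`
* `mem_pCore_of_quadratic`: the consequence for a normal abelian `p'`-section with `p`-group quotient
* `pStableOn_of_minimal`: reduction of `IsPStableOn` to minimal normal sections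
-/

namespace Cfsg.Agent.PLocal

open scoped commutatorElement

variable {G : Type*} [Group G]

theorem conj_hom_exists {V : Subgroup G} (hV : IsMulCommutative V) :
    ∃ ρ : ↥(Subgroup.normalizer (V : Set G)) →* AddMonoid.End (Additive V),
      ∀ g v, ((Additive.toMul (ρ g (Additive.ofMul v)) : V) : G) = g * v * (g : G)⁻¹ := by
  let f : ↥(Subgroup.normalizer (V : Set G)) → (V →* V) := fun g =>
    { toFun := fun v => ⟨g * v * (g : G)⁻¹, conj_mem g.2 v.2⟩
      map_one' := Subtype.ext (by simp)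
      map_mul' := fun v w => Subtype.ext (by simp [mul_assoc]) }
  exact ⟨{ toFun := fun g => MonoidHom.toAdditive (f g)
           map_one' := AddMonoidHom.ext fun v => Additive.toMul.injective (Subtype.ext (by
             show ((1 : Subgroup.normalizer (V : Set G)) : G) * _ * _ = _
             simp only [OneMemClass.coe_one, one_mul, inv_one, mul_one]
             rfl))
           map_mul' := fun g h => AddMonoidHom.ext fun v => Additive.toMul.injective (Subtype.ext (by
             show ((g * h : Subgroup.normalizer (V : Set G)) : G) * _ * _ = (g : G) * ((h : G) * _ * _) * _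
             simp [mul_assoc])) }, fun g v => rfl⟩

theorem commutator_mem_centralizer_of_quadratic {p : ℕ} [hpr : Fact p.Prime] (hp : p ≠ 2) {V : Subgroup G}
    (hV : Cfsg.IsElementaryAbelian p V) {a x : G} (ha : a ∈ Subgroup.normalizer (V : Set G))
    (hq : ⁅⁅V, Subgroup.zpowers a⁆, Subgroup.zpowers a⁆ = ⊥)
    (hx : x ∈ Subgroup.normalizer (V : Set G)) {n : ℕ} (hn : n.Coprime p)
    (hxn : x ^ n ∈ Subgroup.centralizer (V : Set G))
    (hcomm : ⁅x, a * x * a⁻¹⁆ ∈ Subgroup.centralizer (V : Set G)) :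
    ⁅a, x⁆ ∈ Subgroup.centralizer (V : Set G) := by
  haveI := hV.1
  letI : CommGroup V := { (inferInstance : Group V) with mul_comm := fun a b => Subtype.ext (elemAb_comm hV a.2 b.2) }
  set N := Subgroup.normalizer (V : Set G)
  obtain ⟨ρ, hρ⟩ := conj_hom_exists hV.1
  set E := ρ ⟨a, ha⟩
  set E' := ρ ⟨a⁻¹, N.inv_mem ha⟩
  set X := ρ ⟨x, hx⟩
  set X' := ρ ⟨x⁻¹, N.inv_mem hx⟩
  have hy : a * x * a⁻¹ ∈ N := N.mul_mem (N.mul_mem ha hx) (N.inv_mem ha)
  set Y := ρ ⟨a * x * a⁻¹, hy⟩
  have hz : a * (a * x * a⁻¹) * a⁻¹ ∈ N := N.mul_mem (N.mul_mem ha hy) (N.inv_mem ha)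
  set Z := ρ ⟨a * (a * x * a⁻¹) * a⁻¹, hz⟩
  have ker : ∀ g : N, (g : G) ∈ Subgroup.centralizer (V : Set G) → ρ g = 1 := fun g hg => by
    refine DFunLike.ext _ _ fun v => ?_
    apply Additive.toMul.injective
    apply Subtype.ext
    have := hρ g (Additive.toMul v)
    rw [ofMul_toMul] at this
    rw [this, ← Subgroup.mem_centralizer_iff.1 hg _ (Additive.toMul v).2, mul_inv_cancel_right]
    rfl
  have hpow : (p : AddMonoid.End (Additive V)) = 0 := by
    refine DFunLike.ext _ _ fun v => ?_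
    rw [AddMonoid.End.natCast_apply]
    apply Additive.toMul.injective
    apply Subtype.ext
    rw [toMul_nsmul]
    simpa using hV.2 _ (Additive.toMul v).2
  have e1 : E * X = Y * E := by
    rw [← map_mul, ← map_mul]; congr 1; exact Subtype.ext (by simp [mul_assoc])
  have e2 : E * Y = Z * E := by
    rw [← map_mul, ← map_mul]; congr 1; exact Subtype.ext (by simp [mul_assoc])
  have e3 : E * E' = 1 := by
    rw [← map_mul, ← map_one ρ]; congr 1; exact Subtype.ext (by simp)
  have e4 : X' * X = 1 := by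
    rw [← map_mul, ← map_one ρ]; congr 1; exact Subtype.ext (by simp)
  have cXY : X * Y = Y * X := by
    have h1 := ker ⟨_, N.mul_mem (N.mul_mem (N.mul_mem hx hy) (N.inv_mem hx)) (N.inv_mem hy)⟩ hcomm
    have h2 : X * Y = ρ ⟨_, N.mul_mem (N.mul_mem (N.mul_mem hx hy) (N.inv_mem hx)) (N.inv_mem hy)⟩ * (Y * X) := by
      rw [← map_mul, ← map_mul, ← map_mul]; congr 1; exact Subtype.ext (by simp [mul_assoc])
    rwa [h1, one_mul] at h2
  have cYZ : Y * Z = Z * Y := by
    have : (Y * Z) * E = (Z * Y) * E := by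
      calc Y * Z * E = Y * (E * Y) := by rw [e2, mul_assoc]
        _ = (Y * E) * Y := by rw [mul_assoc]
        _ = E * (X * Y) := by rw [← e1, mul_assoc]
        _ = E * (Y * X) := by rw [cXY]
        _ = Z * (E * X) := by rw [← mul_assoc, e2, mul_assoc]
        _ = Z * Y * E := by rw [e1, mul_assoc]
    calc Y * Z = (Y * Z) * E * E' := by rw [mul_assoc _ E, e3, mul_one]
      _ = (Z * Y) * E * E' := by rw [this]
      _ = Z * Y := by rw [mul_assoc _ E, e3, mul_one]
  have hquad : (E - 1) * (E - 1) = 0 := by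
    refine DFunLike.ext _ _ fun v => ?_
    show E (E v - v) - (E v - v) = 0
    rw [sub_eq_zero]
    apply Additive.toMul.injective
    apply Subtype.ext
    set w := E v - v
    have h1 := hρ ⟨a, ha⟩ (Additive.toMul w)
    rw [ofMul_toMul] at h1
    rw [h1]
    have hw : ((Additive.toMul w : V) : G) ∈ ⁅V, Subgroup.zpowers a⁆ := by
      have h2 := hρ ⟨a, ha⟩ (Additive.toMul v)
      rw [ofMul_toMul] at h2
      have hm := Subgroup.commutator_mem_commutator (H₁ := Subgroup.zpowers a) (H₂ := V) (Subgroup.mem_zpowers a)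
        (Additive.toMul v).2
      rw [Subgroup.commutator_comm] at hm
      rw [toMul_sub, Subgroup.coe_div, h2, div_eq_mul_inv]
      exact hm
    rw [← (commute_of_le_centralizer (Subgroup.commutator_eq_bot_iff_le_centralizer.1 hq) hw
      (Subgroup.mem_zpowers a)).eq, mul_inv_cancel_right]
  have h0 : E * E - 2 * E + 1 = 0 := by
    have : E * E - 2 * E + 1 = (E - 1) * (E - 1) := by (simp only [two_mul, mul_add, add_mul, mul_sub, sub_mul, mul_assoc, one_mul, mul_one, mul_zero, zero_mul]; abel)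
    rw [this, hquad]
  have eA : (Z - X) * E = 2 * (Y - X) := by
    have t1 : E * E * X = Z * (E * E) := by rw [mul_assoc, e1, ← mul_assoc, e2, mul_assoc]
    have t2 : (Z - X) * (E * E) - 2 * ((Y - X) * E) = 0 := by
      calc (Z - X) * (E * E) - 2 * ((Y - X) * E)
          = Z * (E * E) - 2 * (Y * E) + X - X * (E * E - 2 * E + 1) := by (simp only [two_mul, mul_add, add_mul, mul_sub, sub_mul, mul_assoc, one_mul, mul_one, mul_zero, zero_mul]; abel)
        _ = (E * E - 2 * E + 1) * X - X * (E * E - 2 * E + 1) := by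
            rw [← t1, ← e1]; (simp only [two_mul, mul_add, add_mul, mul_sub, sub_mul, mul_assoc, one_mul, mul_one, mul_zero, zero_mul])
        _ = 0 := by rw [h0]; simp
    calc (Z - X) * E = (Z - X) * (E * E) * E' := by rw [mul_assoc, mul_assoc E, e3, mul_one]
      _ = 2 * ((Y - X) * E) * E' := by rw [sub_eq_zero.1 t2]
      _ = _ := by rw [mul_assoc, mul_assoc, e3, mul_one]
  have eB : (Y - X) * (Y - X) = 0 := by
    have cz : Y * (Z - X) = (Z - X) * Y := by rw [mul_sub, sub_mul, cYZ, cXY]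
    have l1 : (Z - X) * Y * E = 2 * ((Y - X) * X) := by
      rw [mul_assoc, ← e1, ← mul_assoc, eA, mul_assoc]
    have l2 : (Z - X) * Y * E = Y * (2 * (Y - X)) := by rw [← cz, mul_assoc, eA]
    have l3 : 2 * ((Y - X) * (Y - X)) = 0 := by
      calc (2 : AddMonoid.End (Additive V)) * ((Y - X) * (Y - X))
          = Y * (2 * (Y - X)) - 2 * (X * (Y - X)) := by (simp only [two_mul, mul_add, add_mul, mul_sub, sub_mul, mul_assoc, one_mul, mul_one, mul_zero, zero_mul]; abel)
        _ = Y * (2 * (Y - X)) - 2 * ((Y - X) * X) := by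
          rw [show X * (Y - X) = (Y - X) * X by rw [mul_sub, sub_mul, cXY]]
        _ = 0 := by rw [← l1, ← l2, sub_self]
    obtain ⟨k, hk⟩ := hpr.out.odd_of_ne_two hp
    calc (Y - X) * (Y - X)
        = (p : AddMonoid.End (Additive V)) * ((Y - X) * (Y - X))
          - (k : AddMonoid.End (Additive V)) * (2 * ((Y - X) * (Y - X))) := by
          rw [hk]; push_cast
          rw [← mul_assoc (k : AddMonoid.End (Additive V)), (Nat.cast_commute k (2 : AddMonoid.End (Additive V))).eq]
          (simp only [two_mul, mul_add, add_mul, mul_sub, sub_mul, mul_assoc, one_mul, mul_one, mul_zero, zero_mul]; abel)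
      _ = 0 := by rw [hpow, l3]; simp
  set U := X' * Y
  have cX' : X' * Y = Y * X' := by
    have e5 : X * X' = 1 := by
      rw [← map_mul, ← map_one ρ]; congr 1; exact Subtype.ext (by simp)
    calc X' * Y = X' * (Y * X) * X' := by rw [mul_assoc, mul_assoc, e5, mul_one]
      _ = X' * (X * Y) * X' := by rw [cXY]
      _ = Y * X' := by rw [← mul_assoc X', e4, one_mul]
  have hU : (U - 1) * (U - 1) = 0 := by
    have f : U - 1 = X' * (Y - X) := by rw [mul_sub, e4]
    have f' : (Y - X) * X' = X' * (Y - X) := by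
      rw [sub_mul, mul_sub, ← cX', e4]
      congr 1
      rw [← map_mul, ← map_one ρ]; congr 1; exact Subtype.ext (by simp)
    calc (U - 1) * (U - 1) = X' * ((Y - X) * X') * (Y - X) := by rw [f]; (simp only [two_mul, mul_add, add_mul, mul_sub, sub_mul, mul_assoc, one_mul, mul_one, mul_zero, zero_mul])
      _ = X' * X' * ((Y - X) * (Y - X)) := by rw [f']; (simp only [two_mul, mul_add, add_mul, mul_sub, sub_mul, mul_assoc, one_mul, mul_one, mul_zero, zero_mul])
      _ = 0 := by rw [eB, mul_zero]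
  have hUp : U ^ p = 1 := by
    have key : ∀ m : ℕ, U ^ m = 1 + (m : AddMonoid.End (Additive V)) * (U - 1) := by
      intro m
      induction m with
      | zero => simp
      | succ m ih =>
        calc U ^ (m + 1) = (1 + (m : AddMonoid.End (Additive V)) * (U - 1)) * (1 + (U - 1)) := by
              rw [pow_succ, ih, add_sub_cancel]
          _ = 1 + ((m : AddMonoid.End (Additive V)) + 1) * (U - 1)
              + (m : AddMonoid.End (Additive V)) * ((U - 1) * (U - 1)) := by (simp only [two_mul, mul_add, add_mul, mul_sub, sub_mul, mul_assoc, one_mul, mul_one, mul_zero, zero_mul]; abel)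
          _ = _ := by rw [hU]; push_cast; simp
    rw [key, hpow, zero_mul, add_zero]
  have hUn : U ^ n = 1 := by
    have hXn : X ^ n = 1 := by rw [← map_pow]; exact ker _ (by simpa using hxn)
    have hYn : Y ^ n = 1 := by
      rw [← map_pow]
      refine ker _ ?_
      show ((⟨a * x * a⁻¹, hy⟩ : N) ^ n : N).1 ∈ _
      rw [SubgroupClass.coe_pow, conj_pow]
      exact conj_mem (normalizer_le_normalizer_centralizer V ha) hxn
    have hX'n : X' ^ n = 1 := by
      rw [← map_pow]
      refine ker _ ?_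
      show ((⟨x⁻¹, N.inv_mem hx⟩ : N) ^ n : N).1 ∈ _
      rw [SubgroupClass.coe_pow, inv_pow]
      exact Subgroup.inv_mem _ hxn
    rw [(show Commute X' Y from cX').mul_pow, hX'n, hYn, one_mul]
  have hU1 : U = 1 := by
    have := (pow_gcd_eq_one (a := U) (m := n) (n := p)).2 ⟨hUn, hUp⟩
    rwa [Nat.coprime_iff_gcd_eq_one.1 hn, pow_one] at this
  have hXY : Y = X := by
    have e5 : X * X' = 1 := by
      rw [← map_mul, ← map_one ρ]; congr 1; exact Subtype.ext (by simp)
    calc Y = X * (X' * Y) := by rw [← mul_assoc, e5, one_mul]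
      _ = X := by rw [show X' * Y = 1 from hU1, mul_one]
  refine Subgroup.mem_centralizer_iff.2 fun v hv => ?_
  have := hρ ⟨a * x * a⁻¹, hy⟩ ⟨v, hv⟩
  rw [show ρ ⟨a * x * a⁻¹, hy⟩ = ρ ⟨x, hx⟩ from hXY, hρ] at this
  rw [commutatorElement_def]
  calc v * (a * x * a⁻¹ * x⁻¹) = (a * x * a⁻¹ * x⁻¹) * (x * ((a * x * a⁻¹)⁻¹ * v * (a * x * a⁻¹)) * x⁻¹) := by group
    _ = (a * x * a⁻¹ * x⁻¹) * v := by
      have h1 := hρ ⟨x, hx⟩ ⟨(a * x * a⁻¹)⁻¹ * v * (a * x * a⁻¹), by
        simpa using conj_mem (Subgroup.inv_mem _ hy) hv⟩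
      have h2 := hρ ⟨a * x * a⁻¹, hy⟩ ⟨(a * x * a⁻¹)⁻¹ * v * (a * x * a⁻¹), by
        simpa using conj_mem (Subgroup.inv_mem _ hy) hv⟩
      rw [show ρ ⟨a * x * a⁻¹, hy⟩ = ρ ⟨x, hx⟩ from hXY, h1] at h2
      simp only at h2
      rw [h2]; group

/-- `a` quadratic on `V` lies in `O_p(G / C(V))` if `G / C(V)` is abelian `p'` by `p`. -/
theorem mem_pCore_of_quadratic [Finite G] {p : ℕ} [Fact p.Prime] (hp : p ≠ 2) {V : Subgroup G} [V.Normal]
    (hV : Cfsg.IsElementaryAbelian p V) (R : Subgroup G) [R.Normal]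
    (hab : ∀ x ∈ R, ∀ y ∈ R, ⁅x, y⁆ ∈ Subgroup.centralizer (V : Set G))
    (hp' : ∀ x ∈ R, ∃ n : ℕ, n.Coprime p ∧ x ^ n ∈ Subgroup.centralizer (V : Set G))
    (hquot : ∀ g : G, ∃ k : ℕ, g ^ p ^ k ∈ R) {a : G}
    (hq : ⁅⁅V, Subgroup.zpowers a⁆, Subgroup.zpowers a⁆ = ⊥) :
    (QuotientGroup.mk a : G ⧸ Subgroup.centralizer (V : Set G)) ∈
      Cfsg.pCore p (G ⧸ Subgroup.centralizer (V : Set G)) := by
  set C := Subgroup.centralizer (V : Set G)
  set f := QuotientGroup.mk' C
  set R' := R.map f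
  haveI : R'.Normal := (inferInstance : R.Normal).map f (QuotientGroup.mk'_surjective C)
  have hnor : ∀ g : G, g ∈ Subgroup.normalizer (V : Set G) := fun g =>
    Subgroup.le_normalizer_of_normal (K := ⊤) (Subgroup.mem_top g)
  have haR : f a ∈ Subgroup.centralizer (R' : Set (G ⧸ C)) := by
    refine Subgroup.mem_centralizer_iff.2 ?_
    rintro _ ⟨x, hx, rfl⟩
    obtain ⟨n, hn, hxn⟩ := hp' x hx
    have h1 := commutator_mem_centralizer_of_quadratic hp hV (hnor a) hq (hnor x) hn hxn
      (hab x hx _ ((inferInstance : R.Normal).conj_mem x hx a))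
    have h2 : f ⁅a, x⁆ = 1 := (QuotientGroup.eq_one_iff _).2 h1
    rw [map_commutatorElement, commutatorElement_eq_one_iff_mul_comm] at h2
    exact h2.symm
  set D := Subgroup.centralizer (R' : Set (G ⧸ C))
  haveI : D.Normal := Subgroup.normalizer_eq_top_iff.1 (top_le_iff.1
    ((Subgroup.normalizer_eq_top_iff.2 inferInstance).ge.trans (normalizer_le_normalizer_centralizer R')))
  let P : Sylow p D := default
  set Z := R'.subgroupOf D
  haveI : Z.Normal := inferInstance
  have hsup : (P : Subgroup D) ⊔ Z = ⊤ := by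
    rw [← Subgroup.index_eq_one]
    haveI : IsPGroup p (D ⧸ Z) := fun q => by
      obtain ⟨⟨d, hd⟩, rfl⟩ := QuotientGroup.mk_surjective q
      obtain ⟨g, rfl⟩ := QuotientGroup.mk'_surjective C d
      obtain ⟨k, hk⟩ := hquot g
      exact ⟨k, (QuotientGroup.eq_one_iff ((⟨f g, hd⟩ : D) ^ p ^ k)).2
        (Subgroup.mem_subgroupOf.2 ⟨g ^ p ^ k, hk, by simp [map_pow]⟩)⟩
    obtain ⟨n, hn⟩ := IsPGroup.iff_card.1 this
    refine Nat.eq_one_of_dvd_coprimes
      (((Fact.out : p.Prime).coprime_iff_not_dvd.2 P.not_dvd_index).pow_left n) ?_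
      (Subgroup.index_dvd_of_le le_sup_left)
    rw [← hn, ← Subgroup.index_eq_card]
    exact Subgroup.index_dvd_of_le le_sup_right
  haveI hPn : (P : Subgroup D).Normal := by
    refine Subgroup.normalizer_eq_top_iff.1 (top_le_iff.1 (hsup.ge.trans (sup_le Subgroup.le_normalizer ?_)))
    refine le_trans (fun z hz => Subgroup.mem_centralizer_iff.2 fun y _ => Subtype.ext ?_)
      (Subgroup.centralizer_le_normalizer _)
    exact (Subgroup.mem_centralizer_iff.1 y.2 z (Subgroup.mem_subgroupOf.1 hz)).symm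
  haveI : (P : Subgroup D).Characteristic := P.characteristic_of_normal hPn
  have haP : (⟨f a, haR⟩ : D) ∈ (P : Subgroup D) := by
    have hp1 : IsPGroup p ↥(Subgroup.zpowers (⟨f a, haR⟩ : D)) := fun y => ⟨1, Subtype.ext (Subtype.ext (by
      obtain ⟨m, hm⟩ := y.2
      have h1 : (f a) ^ p = 1 := by
        rw [← map_pow]
        exact (QuotientGroup.eq_one_iff _).2 (pow_mem_centralizer_of_quadratic
          (Subgroup.le_normalizer_of_normal) hV.2 hq (Subgroup.mem_zpowers a))
      rw [pow_one]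
      simp only [SubgroupClass.coe_pow, ← hm, SubgroupClass.coe_zpow, OneMemClass.coe_one]
      rw [← zpow_natCast, ← zpow_mul, mul_comm, zpow_mul, zpow_natCast, h1, one_zpow]))⟩
    exact (P.3 (IsPGroup.to_sup_of_normal_right hp1 P.isPGroup') le_sup_right).le
      (Subgroup.mem_sup_left (Subgroup.mem_zpowers _))
  exact Cores.le_pCore (Cores.map_subtype_normal_of_characteristic D _) (P.isPGroup'.map _)
    ⟨_, haP, rfl⟩

theorem conjAction_trivial_of_pgroup_minimal [Finite G] {p : ℕ} [Fact p.Prime] {V H : Subgroup G} [V.Normal]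
    [H.Normal] (hVp : IsPGroup p V) (hHp : IsPGroup p H)
    (hmin : ∀ K : Subgroup G, K.Normal → K ≤ V → K = ⊥ ∨ K = V) : H ≤ Subgroup.centralizer (V : Set G) := by
  refine le_centralizer_comm (Subgroup.commutator_eq_bot_iff_le_centralizer.1 ?_)
  rcases hmin ⁅V, H⁆ inferInstance (Subgroup.commutator_le_left V H) with h | h
  · exact h
  · have hb := eq_bot_of_le_commutator_pgroup hVp (A := H) Subgroup.le_normalizer_of_normal
      (fun a ha => by
        obtain ⟨k, hk⟩ := hHp ⟨a, ha⟩
        exact ⟨k, by rw [show a ^ p ^ k = 1 from congrArg Subtype.val hk]; exact Subgroup.one_mem _⟩)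
      le_rfl h.ge
    rw [hb]; exact Subgroup.commutator_bot_left H

/-- `IsPStableOn` reduces to minimal normal `p`-sections. -/
theorem pStableOn_of_minimal [Finite G] {p : ℕ} [Fact p.Prime]
    (h : ∀ (N : Subgroup G) [N.Normal], IsPGroup p N → ∀ (V : Subgroup (G ⧸ N)) [V.Normal],
      Cfsg.IsElementaryAbelian p V → (∀ K : Subgroup (G ⧸ N), K.Normal → K ≤ V → K = ⊥ ∨ K = V) →
      Cfsg.IsPStableOn p V)
    (P : Subgroup G) [P.Normal] (hP : IsPGroup p P) : Cfsg.IsPStableOn p P := by
  intro a ha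
  have claim : ∀ N : Subgroup G, N.Normal → N ≤ P →
      ∃ D : Subgroup G, D.Normal ∧ a ∈ D ∧
        ∀ d ∈ D, (orderOf d).Coprime p → ∀ v ∈ P, ⁅d, v⁆ ∈ N := by
    intro N
    induction N using WellFoundedGT.induction with
    | ind N IH =>
    intro hN hNP
    rcases hNP.eq_or_lt with rfl | hlt
    · exact ⟨⊤, inferInstance, Subgroup.mem_top a,
        fun d _ _ v hv => Subgroup.commutator_le_right ⊤ N (Subgroup.commutator_mem_commutator (Subgroup.mem_top d) hv)⟩
    set f := QuotientGroup.mk' N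
    have hf : Function.Surjective f := QuotientGroup.mk'_surjective N
    haveI : (P.map f).Normal := (inferInstance : P.Normal).map f hf
    have hPne : P.map f ≠ ⊥ := fun e => hlt.not_ge (by
      rw [Subgroup.map_eq_bot_iff, QuotientGroup.ker_mk'] at e; exact e)
    obtain ⟨V, hVP, ⟨hVn, hVne⟩, hVmin⟩ := exists_minimal_le_of_wellFoundedLT
      (fun V : Subgroup (G ⧸ N) => V.Normal ∧ V ≠ ⊥) (P.map f) ⟨inferInstance, hPne⟩
    have hmin : ∀ K : Subgroup (G ⧸ N), K.Normal → K ≤ V → K = ⊥ ∨ K = V := fun K hK hKV =>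
      or_iff_not_imp_left.2 fun hb => le_antisymm hKV (hVmin ⟨hK, hb⟩ hKV)
    have hVp : IsPGroup p V := (hP.map f).to_le hVP
    have hVab : V ≤ Subgroup.centralizer (V : Set (G ⧸ N)) :=
      conjAction_trivial_of_pgroup_minimal hVp hVp hmin
    have hVe : Cfsg.IsElementaryAbelian p V := by
      have he := omegaOne_elemAb (p := p) hVab
      haveI : (Cfsg.omegaOne p V).Normal := by
        refine Subgroup.normalizer_eq_top_iff.1 (top_le_iff.1 fun g _ => ?_)
        rw [mem_normalizer_iff_map_eq, map_omegaOne _ (MulAut.conj g).injective.injOn,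
          mem_normalizer_iff_map_eq.1 (Subgroup.le_normalizer_of_normal (K := ⊤) (Subgroup.mem_top g))]
      have hdvd : p ∣ Nat.card V := by
        rcases hVp.card_eq_or_dvd with h1 | h1
        · exact absurd (Subgroup.card_eq_one.1 h1) hVne
        · exact h1
      rwa [(hmin _ inferInstance (omegaOne_le V)).resolve_left (omegaOne_ne_bot hdvd)] at he
    set M := V.comap f
    haveI : M.Normal := hVn.comap f
    have hMlt : N < M := by
      refine lt_of_le_of_ne (fun x hx => Subgroup.mem_comap.2 (by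
        rw [show f x = 1 from (QuotientGroup.eq_one_iff x).2 hx]; exact V.one_mem)) fun e => hVne ?_
      have e2 := Subgroup.map_comap_eq_self_of_surjective hf V
      rw [show V.comap f = N from e.symm] at e2
      rw [← e2, Subgroup.map_eq_bot_iff, QuotientGroup.ker_mk']
    have hMP : M ≤ P := by
      refine (Subgroup.comap_mono hVP).trans ?_
      rw [Subgroup.comap_map_eq, QuotientGroup.ker_mk', sup_eq_left.2 hNP]
    obtain ⟨D₁, hD₁n, haD₁, hD₁⟩ := IH M hMlt inferInstance hMP
    set C := Subgroup.centralizer (V : Set (G ⧸ N))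
    have hamem : (QuotientGroup.mk (f a) : (G ⧸ N) ⧸ C) ∈ Cfsg.pCore p ((G ⧸ N) ⧸ C) := by
      refine h N (hP.to_le hNP) V hVe hmin (f a) (le_bot_iff.1 ?_)
      rw [← MonoidHom.map_zpowers, ← Subgroup.map_comap_eq_self_of_surjective hf V,
        ← Subgroup.map_commutator, ← Subgroup.map_commutator]
      refine (Subgroup.map_mono (Subgroup.commutator_mono (Subgroup.commutator_mono hMP le_rfl) le_rfl)).trans ?_
      rw [ha, Subgroup.map_bot]
    set D₂ := ((Cfsg.pCore p ((G ⧸ N) ⧸ C)).comap (QuotientGroup.mk' C)).comap f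
    haveI : D₂.Normal := ((Cores.pCore_normal p _).comap _).comap f
    refine ⟨D₁ ⊓ D₂, inferInstance, ⟨haD₁, hamem⟩, fun d hd hdo v hv => ?_⟩
    have hdC : f d ∈ C := by
      rw [← QuotientGroup.eq_one_iff (N := C)]
      obtain ⟨k, hk⟩ := Cores.isPGroup_pCore p ((G ⧸ N) ⧸ C) ⟨_, hd.2⟩
      have h1 : (QuotientGroup.mk' C (f d)) ^ p ^ k = 1 := congrArg Subtype.val hk
      have h2 : (QuotientGroup.mk' C (f d)) ^ orderOf d = 1 := by
        rw [← map_pow, ← map_pow, pow_orderOf_eq_one, map_one, map_one]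
      have h3 := pow_gcd_eq_one.2 ⟨h2, h1⟩
      rwa [Nat.coprime_iff_gcd_eq_one.1 (hdo.pow_right k), pow_one] at h3
    set w := d * v * d⁻¹ * v⁻¹
    have hwV : f w ∈ V := hD₁ d hd.1 hdo v hv
    have hdw : f d * f w = f w * f d := (Subgroup.mem_centralizer_iff.1 hdC _ hwV).symm
    have hn := conj_pow_eq (v := f v) (a := f d) (w := f w) (by simp [w]) hdw (orderOf d)
    rw [← map_pow, pow_orderOf_eq_one, map_one, one_mul, inv_one, mul_one, right_eq_mul] at hn
    have h3 := pow_gcd_eq_one.2 ⟨hn, hVe.2 _ hwV⟩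
    rw [Nat.coprime_iff_gcd_eq_one.1 hdo, pow_one] at h3
    exact (QuotientGroup.eq_one_iff w).1 h3
  obtain ⟨D, hDn, haD, hD⟩ := claim ⊥ inferInstance bot_le
  set C := Subgroup.centralizer (P : Set G)
  refine Cores.le_pCore (hDn.map _ (QuotientGroup.mk'_surjective C)) ?_ ⟨a, haD, rfl⟩
  rintro ⟨_, d, hd, rfl⟩
  obtain ⟨k, m, hm, hkm⟩ := Nat.exists_eq_pow_mul_and_not_dvd (orderOf_pos d).ne' p (Fact.out : p.Prime).ne_one
  refine ⟨k, Subtype.ext ?_⟩
  show (QuotientGroup.mk' C d) ^ p ^ k = 1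
  rw [← map_pow]
  refine (QuotientGroup.eq_one_iff _).2 (Subgroup.mem_centralizer_iff.2 fun v hv => ?_)
  have hco : (orderOf (d ^ p ^ k)).Coprime p := by
    rw [orderOf_pow, hkm, Nat.gcd_eq_right (dvd_mul_right _ _),
      Nat.mul_div_cancel_left _ (pow_pos (Fact.out : p.Prime).pos k)]
    exact (((Fact.out : p.Prime).coprime_iff_not_dvd).2 hm).symm
  exact (commutatorElement_eq_one_iff_mul_comm.1 (Subgroup.mem_bot.1 (hD _ (D.pow_mem hd _) hco v hv))).symm

end Cfsg.Agent.PLocal
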