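import Cfsg.Agent.Lib.Quadratic.Stable
import Cfsg.Agent.Lib.Transfer.Criteria
import Cfsg.Agent.Lib.PLocal.Quotient
import Cfsg.Agent.Lib.Cores.Subnormal

/-!
`SL₂(p)` sections of automisers (namespace `Cfsg.Agent.PLocal`).

* `exists_hom_sl2_kills`: the transvection pair of a quadratic pair on a `p`-group kills the centraliser
* `exists_section_over`: a surjection killing a normal subgroup gives a section above it
* `automiser_sl2_of_not_stable`, `isNormalizerPStable_sections`: if no automiser of a `p`-subgroup has a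
  section `SL₂(p)`, then all sections are `p`-stable
-/

set_option autoImplicit false
set_option linter.unusedSectionVars false

open Cfsg Matrix Cfsg.Agent.PSL2 Cfsg.Agent.Quadratic
open scoped commutatorElement

namespace Cfsg.Agent.PLocal

universe u v

variable {p : ℕ} [Fact p.Prime]

theorem exists_hom_sl2_kills (n : ℕ) : ∀ {G : Type u} [Group G] [Finite G]
    {P : Subgroup G} [P.Normal] (_ : IsPGroup p P) {a b y : G}
    (_ : ∀ v ∈ P, Commute a (a * v * a⁻¹ * v⁻¹)) (_ : ∀ v ∈ P, Commute b (b * v * b⁻¹ * v⁻¹))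
    (_ : y ∈ Subgroup.closure ({a, b} : Set G))
    (_ : ∀ k : ℕ, y ^ p ^ k ∉ Subgroup.centralizer (P : Set G)), Nat.card P = n →
    ∃ (K : Type u) (_ : Field K) (_ : Finite K) (_ : CharP K p) (c : K), c ≠ 0 ∧
      ∃ φ : ↥(Subgroup.closure ({a, b} : Set G)) →* SL2 K,
        upperE c ∈ φ.range ∧ lowerE 1 ∈ φ.range ∧
        ∀ h : ↥(Subgroup.closure ({a, b} : Set G)), (h : G) ∈ Subgroup.centralizer (P : Set G) → φ h = 1 := by
  induction n using Nat.strong_induction_on with
  | _ n ih =>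
  intro G _ _ P hPn hP a b y ha hb hy hny hn
  have hP0 : P ≠ ⊥ := by
    rintro rfl
    exact hny 0 (Subgroup.mem_centralizer_iff.2 fun x hx => by
      rw [Subgroup.mem_bot.1 hx, one_mul, mul_one])
  haveI : Group.IsNilpotent P := hP.isNilpotent
  obtain ⟨q, hq, V, hVn, hV0, hVP, hVc, hVq, hVe, -⟩ := Solvable.exists_minimal_normal_pGroup hP0
  obtain rfl : q = p := by
    haveI := Fact.mk hq
    obtain ⟨k, hk⟩ := IsPGroup.iff_card.1 hVq
    obtain ⟨l, hl⟩ := IsPGroup.iff_card.1 (hP.to_le hVP)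
    rw [hk] at hl
    have hk0 : k ≠ 0 := by
      rintro rfl
      exact hV0 (Subgroup.card_eq_one.1 (by rw [hk, pow_zero]))
    exact (Nat.prime_dvd_prime_iff_eq hq Fact.out).1
      (hq.dvd_of_dvd_pow (n := l) (hl ▸ dvd_pow_self q hk0))
  haveI := hVn
  set H₀ := Subgroup.closure ({a, b} : Set G) with hH₀
  by_cases h1 : ∀ k : ℕ, y ^ q ^ k ∉ Subgroup.centralizer (V : Set G)
  · obtain ⟨K, i1, i2, i3, c, hc, φ, hφa, hφb, hφC, -⟩ := exists_hom_sl2_of_ambient (p := q)
      (V := V) (H := H₀) ⟨hVc, hVe⟩ (fun x _ => by rw [Subgroup.normalizer_eq_top]; exact Subgroup.mem_top x)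
      (closure_pair_eq_top a b) (fun v hv => ha v (hVP hv)) (fun v hv => hb v (hVP hv)) ⟨y, hy⟩ h1
    exact ⟨K, i1, i2, i3, c, hc, φ, ⟨_, hφa⟩, ⟨_, hφb⟩, fun h hh =>
      hφC h (Subgroup.centralizer_le hVP hh)⟩
  set π := QuotientGroup.mk' V with hπ
  haveI : (P.map π).Normal := hPn.map π (QuotientGroup.mk'_surjective V)
  by_cases h2 : ∀ k : ℕ, π y ^ q ^ k ∉ Subgroup.centralizer ((P.map π : Subgroup (G ⧸ V)) : Set (G ⧸ V))
  · have hlt : Nat.card (P.map π) < n := by
      have h := Solvable.card_eq_card_map_mul π P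
      rw [hπ, QuotientGroup.ker_mk', inf_eq_right.2 hVP] at h
      rw [← hn, hπ, h]
      exact lt_mul_of_one_lt_right Nat.card_pos
        (Finite.one_lt_card_iff_nontrivial.2 ((Subgroup.nontrivial_iff_ne_bot V).2 hV0))
    have hquad : ∀ c : G, (∀ v ∈ P, Commute c (c * v * c⁻¹ * v⁻¹)) →
        ∀ v ∈ P.map π, Commute (π c) (π c * v * (π c)⁻¹ * v⁻¹) := by
      rintro c hc _ ⟨v, hv, rfl⟩
      simpa using (hc v hv).map π
    have hcl : H₀.map π = Subgroup.closure ({π a, π b} : Set (G ⧸ V)) := by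
      rw [hH₀, MonoidHom.map_closure, Set.image_pair]
    obtain ⟨K, i1, i2, i3, c, hc, φ, hu, hl, hk⟩ := ih _ hlt (hP.map π) (hquad a ha) (hquad b hb)
      (hcl ▸ Subgroup.mem_map_of_mem π hy) h2 rfl
    let ψ : H₀ →* ↥(Subgroup.closure ({π a, π b} : Set (G ⧸ V))) :=
      (MulEquiv.subgroupCongr hcl).toMonoidHom.comp (π.subgroupMap H₀)
    have hψ : Function.Surjective ψ :=
      (MulEquiv.subgroupCongr hcl).surjective.comp (π.subgroupMap_surjective H₀)
    have hr : (φ.comp ψ).range = φ.range := by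
      rw [MonoidHom.range_comp, MonoidHom.range_eq_top.2 hψ, ← MonoidHom.range_eq_map]
    refine ⟨K, i1, i2, i3, c, hc, φ.comp ψ, hr.symm ▸ hu, hr.symm ▸ hl, fun h hh => hk _ ?_⟩
    refine Subgroup.mem_centralizer_iff.2 ?_
    rintro _ ⟨v, hv, rfl⟩
    show π v * π (h : G) = π (h : G) * π v
    rw [← map_mul, ← map_mul, Subgroup.mem_centralizer_iff.1 hh v hv]
  exfalso
  push Not at h1 h2
  obtain ⟨m, hm⟩ := h1
  obtain ⟨l, hl⟩ := h2
  set z := y ^ q ^ (m + l) with hz
  have hzV : z ∈ Subgroup.centralizer (V : Set G) := by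
    rw [hz, pow_add, pow_mul]; exact pow_mem hm _
  have hzP : π z ∈ Subgroup.centralizer ((P.map π : Subgroup (G ⧸ V)) : Set (G ⧸ V)) := by
    rw [hz, map_pow, pow_add, mul_comm, pow_mul]; exact pow_mem hl _
  refine hny (m + l + 1) (Subgroup.mem_centralizer_iff.2 fun x hx => ?_)
  rw [pow_succ, pow_mul, ← hz]
  set v := x⁻¹ * (z * x * z⁻¹) with hv
  have hvV : v ∈ V := by
    rw [← QuotientGroup.eq_one_iff, ← QuotientGroup.mk'_apply V v, hv]
    have := Subgroup.mem_centralizer_iff.1 hzP (π x) (Subgroup.mem_map_of_mem π hx)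
    simp only [map_mul, map_inv]
    rw [← hπ, ← this]
    group
  have hzv : Commute z v := (Subgroup.mem_centralizer_iff.1 hzV v hvV).symm
  have hrec : ∀ i : ℕ, z ^ i * x * (z ^ i)⁻¹ = x * v ^ i := by
    intro i
    induction i with
    | zero => simp
    | succ i ihi =>
      calc z ^ (i + 1) * x * (z ^ (i + 1))⁻¹ = z * (z ^ i * x * (z ^ i)⁻¹) * z⁻¹ := by
            rw [pow_succ']; group
        _ = z * x * (v ^ i * z⁻¹) := by rw [ihi]; group
        _ = z * x * (z⁻¹ * v ^ i) := by rw [((hzv.pow_right i).inv_left).eq]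
        _ = (x * v) * v ^ i := by rw [hv]; group
        _ = x * v ^ (i + 1) := by rw [pow_succ', mul_assoc]
  have h := hrec q
  rw [hVe v hvV, mul_one, mul_inv_eq_iff_eq_mul] at h
  exact h.symm

/-- A surjection from (a cover of) a subgroup, killing `C`, gives a section above `C`. -/
theorem exists_section_over {G : Type u} [Group G] {N C : Subgroup G} (hCN : C ≤ N)
    (hC : N ≤ Subgroup.normalizer (C : Set G)) {D : Type*} [Group D] (j : D →* G) (hj : j.range ≤ N)
    {T : Type*} [Group T] (f : D →* T) (hf : Function.Surjective f) (hk : ∀ d : D, j d ∈ C → f d = 1) :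
    ∃ (H K : Subgroup G) (_ : (K.subgroupOf H).Normal), C ≤ K ∧ K ≤ H ∧ H ≤ N ∧
      Nonempty ((↥H ⧸ K.subgroupOf H) ≃* T) := by
  set H := j.range ⊔ C
  have hHN : H ≤ N := sup_le hj hCN
  haveI : (C.subgroupOf H).Normal := Cores.subgroupOf_normal_of_le_normalizer (hHN.trans hC)
  set q : D →* ↥H ⧸ C.subgroupOf H :=
    (QuotientGroup.mk' _).comp (j.codRestrict H fun d => Subgroup.mem_sup_left ⟨d, rfl⟩)
  have hq : Function.Surjective q := by
    intro x
    obtain ⟨⟨x, hx⟩, rfl⟩ := QuotientGroup.mk_surjective x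
    have hx' : x ∈ ((j.range ⊔ C : Subgroup G) : Set G) := hx
    rw [Subgroup.coe_mul_of_left_le_normalizer_right j.range C (hj.trans hC)] at hx'
    obtain ⟨_, ⟨d, rfl⟩, c, hc, rfl⟩ := hx'
    refine ⟨d, QuotientGroup.eq.2 ?_⟩
    rw [Subgroup.mem_subgroupOf]
    simpa using hc
  have hker : q.ker ≤ f.ker := fun d hd => by
    rw [MonoidHom.mem_ker] at hd ⊢
    exact hk d (Subgroup.mem_subgroupOf.1 ((QuotientGroup.eq_one_iff _).1 hd))
  set F : ↥H →* T := ((QuotientGroup.lift q.ker f hker).comp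
    (QuotientGroup.quotientKerEquivOfSurjective q hq).symm.toMonoidHom).comp (QuotientGroup.mk' _)
  have hF : Function.Surjective F := by
    intro t
    obtain ⟨d, rfl⟩ := hf t
    obtain ⟨x, hx⟩ := QuotientGroup.mk_surjective (q d)
    refine ⟨x, ?_⟩
    show QuotientGroup.lift q.ker f hker ((QuotientGroup.quotientKerEquivOfSurjective q hq).symm (x : ↥H ⧸ _)) = f d
    rw [hx, show q d = QuotientGroup.quotientKerEquivOfSurjective q hq (QuotientGroup.mk d) from rfl,
      MulEquiv.symm_apply_apply]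
    rfl
  have hK : (F.ker.map H.subtype).subgroupOf H = F.ker :=
    Subgroup.comap_map_eq_self_of_injective H.subtype_injective _
  have hn : ((F.ker.map H.subtype).subgroupOf H).Normal := by rw [hK]; infer_instance
  refine ⟨H, F.ker.map H.subtype, hn, fun c hc => ?_, Subgroup.map_subtype_le _, hHN,
    ⟨(QuotientGroup.quotientMulEquivOfEq hK).trans (QuotientGroup.quotientKerEquivOfSurjective F hF)⟩⟩
  refine ⟨⟨c, Subgroup.mem_sup_right hc⟩, MonoidHom.mem_ker.2 ?_, rfl⟩
  show QuotientGroup.lift q.ker f hker ((QuotientGroup.quotientKerEquivOfSurjective q hq).symm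
    (QuotientGroup.mk (⟨c, Subgroup.mem_sup_right hc⟩ : ↥H) : ↥H ⧸ C.subgroupOf H)) = 1
  rw [(QuotientGroup.eq_one_iff _).2 (Subgroup.mem_subgroupOf.2 hc), map_one, map_one]

/-- An unstable quadratic element of a normalizer gives a section `SL₂(p)` of the automiser. -/
theorem automiser_sl2_of_not_stable (hp : p ≠ 2) {G : Type u} [Group G] [Finite G] {P : Subgroup G}
    (hP : IsPGroup p P) {g : G} (hg : g ∈ Subgroup.normalizer (P : Set G))
    (hq : ⁅⁅P, Subgroup.zpowers g⁆, Subgroup.zpowers g⁆ = ⊥)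
    (hna : (QuotientGroup.mk (s := (Subgroup.centralizer (P : Set G)).subgroupOf (Subgroup.normalizer (P : Set G)))
        (⟨g, hg⟩ : ↥(Subgroup.normalizer (P : Set G)))) ∉
      pCore p (↥(Subgroup.normalizer (P : Set G)) ⧸
        (Subgroup.centralizer (P : Set G)).subgroupOf (Subgroup.normalizer (P : Set G)))) :
    ∃ (H K : Subgroup G) (_ : (K.subgroupOf H).Normal), Subgroup.centralizer (P : Set G) ≤ K ∧ K ≤ H ∧
      H ≤ Subgroup.normalizer (P : Set G) ∧
      Nonempty ((↥H ⧸ K.subgroupOf H) ≃* Matrix.SpecialLinearGroup (Fin 2) (ZMod p)) := by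
  set N := Subgroup.normalizer (P : Set G)
  set Pn := P.subgroupOf N
  haveI hPn : Pn.Normal := Cores.subgroupOf_normal_of_le_normalizer le_rfl
  set Cn := Subgroup.centralizer (Pn : Set N)
  have hC : Cn = (Subgroup.centralizer (P : Set G)).subgroupOf N := by
    ext x
    rw [Subgroup.mem_subgroupOf, Subgroup.mem_centralizer_iff, Subgroup.mem_centralizer_iff]
    exact ⟨fun h v hv => congrArg Subtype.val (h ⟨v, Subgroup.le_normalizer hv⟩ hv),
      fun h v hv => Subtype.ext (h v hv)⟩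
  have hna' : (QuotientGroup.mk (⟨g, hg⟩ : N) : N ⧸ Cn) ∉ pCore p (N ⧸ Cn) := by
    intro h
    refine hna ?_
    have h2 := Cores.map_pCore_le (QuotientGroup.quotientMulEquivOfEq hC).toMonoidHom
      (QuotientGroup.quotientMulEquivOfEq hC).surjective p (Subgroup.mem_map_of_mem _ h)
    simpa using h2
  obtain ⟨x, hx⟩ := exists_pair_of_not_mem_pCore hna'
  obtain ⟨x, rfl⟩ := QuotientGroup.mk_surjective x
  set a : N := ⟨g, hg⟩
  obtain ⟨y, hy, hny⟩ : ∃ y ∈ Subgroup.closure ({a, x * a * x⁻¹} : Set N), ∀ k : ℕ, y ^ p ^ k ∉ Cn := by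
    by_contra h
    push Not at h
    apply hx
    intro w
    have hw : (w : N ⧸ Cn) ∈ (Subgroup.closure ({a, x * a * x⁻¹} : Set N)).map (QuotientGroup.mk' Cn) := by
      rw [MonoidHom.map_closure, Set.image_pair]
      exact w.2
    obtain ⟨y, hy, hyw⟩ := hw
    obtain ⟨k, hk⟩ := h y hy
    refine ⟨k, Subtype.ext ?_⟩
    rw [SubgroupClass.coe_pow, OneMemClass.coe_one, ← hyw, ← map_pow]
    exact (QuotientGroup.eq_one_iff _).2 hk
  have hqa : ∀ v ∈ Pn, Commute a (a * v * a⁻¹ * v⁻¹) := fun v hv => Subtype.ext (commute_of_quad hq v hv).eq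
  obtain ⟨K, i1, i2, i3, c, hc, φ, hu, hl, hk⟩ := exists_hom_sl2_kills _ (P := Pn) (hP.comap_subtype (K := N)) hqa
    (commute_of_quad_conj (by rw [Subgroup.normalizer_eq_top]; exact Subgroup.mem_top x) hqa) hy hny rfl
  haveI := i2
  haveI := i3
  obtain ⟨M, hM, ⟨e⟩⟩ := exists_sl2_zmod hp hc φ.range hu hl
  refine exists_section_over (Subgroup.centralizer_le_normalizer _) (normalizer_le_normalizer_centralizer P)
    ((N.subtype.comp (Subgroup.closure ({a, x * a * x⁻¹} : Set N)).subtype).comp (M.comap φ).subtype) ?_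
    (e.toMonoidHom.comp (φ.subgroupComap M)) (e.surjective.comp ?_) ?_
  · rintro _ ⟨d, rfl⟩
    exact ((d.1 : N)).2
  · rintro ⟨m, hm⟩
    obtain ⟨z, rfl⟩ := hM hm
    exact ⟨⟨z, hm⟩, rfl⟩
  · intro d hd
    have h1 : φ (d : ↥(Subgroup.closure ({a, x * a * x⁻¹} : Set N))) = 1 := hk _ (hC.ge hd)
    show e _ = 1
    rw [show (φ.subgroupComap M) d = 1 from Subtype.ext h1, map_one]

/-- No automiser with a section `SL₂(p)`: every section is `p`-stable. -/
theorem isNormalizerPStable_sections (hp : p ≠ 2) {G : Type u} [Group G] [Finite G]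
    (hfree : ∀ Q : Subgroup G, IsPGroup p ↥Q → ¬ ∃ (H K : Subgroup G) (_ : (K.subgroupOf H).Normal),
      Subgroup.centralizer (Q : Set G) ≤ K ∧ K ≤ H ∧ H ≤ Subgroup.normalizer (Q : Set G) ∧
      Nonempty ((↥H ⧸ K.subgroupOf H) ≃* Matrix.SpecialLinearGroup (Fin 2) (ZMod p)))
    (K₀ R : Subgroup G) [(R.subgroupOf K₀).Normal] :
    Cfsg.IsNormalizerPStable p (↥K₀ ⧸ R.subgroupOf K₀) := by
  intro P hP g hg hq
  by_contra hna
  obtain ⟨H, K, hKn, hCK, hKH, hHN, ⟨e⟩⟩ := automiser_sl2_of_not_stable hp hP hg hq hna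
  set π := QuotientGroup.mk' (R.subgroupOf K₀)
  have hπ : Function.Surjective π := QuotientGroup.mk'_surjective _
  set T := P.comap π
  obtain ⟨S⟩ : Nonempty (Sylow p T) := Sylow.nonempty
  set Q := (S : Subgroup T).map T.subtype
  have hQp : IsPGroup p Q := S.2.map _
  have hQT : Q ≤ T := Subgroup.map_subtype_le _
  have hS := π.subgroupComap_surjective_of_surjective P hπ
  have htop : (S.mapSurjective hS : Subgroup P) = ⊤ :=
    ((S.mapSurjective hS).is_maximal' (hP.of_equiv Subgroup.topEquiv.symm) le_top).symm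
  have hQP : ∀ z ∈ P, ∃ q ∈ Q, π q = z := fun z hz => by
    obtain ⟨w, hw, hwz⟩ := htop.ge (Subgroup.mem_top (⟨z, hz⟩ : P))
    exact ⟨w, ⟨w, hw, rfl⟩, congrArg Subtype.val hwz⟩
  set D := Subgroup.normalizer (Q : Set K₀) ⊓ H.comap π
  refine hfree (Q.map K₀.subtype) (hQp.map _) ?_
  refine exists_section_over (Subgroup.centralizer_le_normalizer _) (normalizer_le_normalizer_centralizer _)
    (K₀.subtype.comp D.subtype) ?_
    ((e.toMonoidHom.comp (QuotientGroup.mk' (K.subgroupOf H))).comp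
      ((π.subgroupComap H).comp (Subgroup.inclusion (inf_le_right : D ≤ H.comap π))))
    ((e.surjective.comp (QuotientGroup.mk'_surjective _)).comp ?_) ?_
  · rintro _ ⟨d, rfl⟩
    exact Subgroup.le_normalizer_map K₀.subtype ⟨d, d.2.1, rfl⟩
  · rintro ⟨h, hh⟩
    obtain ⟨k, rfl⟩ := hπ h
    have hkT : ∀ w : K₀, w ∈ T → k * w * k⁻¹ ∈ T := fun w hw => by
      have := (Subgroup.mem_normalizer_iff.1 (hHN hh) (π w)).1 hw
      show π (k * w * k⁻¹) ∈ P
      simpa using this
    have hQ' : IsPGroup p ↥((Q.map (MulAut.conj k).toMonoidHom).subgroupOf T) :=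
      IsPGroup.comap_subtype (hQp.map _)
    obtain ⟨S', hS'⟩ := hQ'.exists_le_sylow
    obtain ⟨t, ht⟩ := MulAction.exists_smul_eq T S S'
    have hmap : Q.map (MulAut.conj (t : K₀)).toMonoidHom = Q.map (MulAut.conj k).toMonoidHom := by
      refine (Subgroup.eq_of_le_of_card_ge ?_ ?_).symm
      · rintro _ ⟨w, hw, rfl⟩
        have hm : (⟨k * w * k⁻¹, hkT w (hQT hw)⟩ : T) ∈ (S' : Subgroup T) := hS' ⟨w, hw, rfl⟩
        rw [← ht, Sylow.coe_subgroup_smul] at hm
        obtain ⟨u, hu, huw⟩ := hm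
        exact ⟨u, ⟨u, hu, rfl⟩, congrArg Subtype.val huw⟩
      · exact ((Subgroup.card_map_of_injective (MulAut.conj (t : K₀)).injective).trans
          (Subgroup.card_map_of_injective (MulAut.conj k).injective).symm).le
    obtain ⟨q, hq', hqt⟩ := hQP (π t) t.2
    have hmem : q * ((t : K₀)⁻¹ * k) ∈ Subgroup.normalizer (Q : Set K₀) := by
      refine mul_mem (Subgroup.le_normalizer hq') (mem_normalizer_iff_map_eq.2 ?_)
      have : Q.map (MulAut.conj ((t : K₀)⁻¹ * k)).toMonoidHom =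
          (Q.map (MulAut.conj k).toMonoidHom).map (MulAut.conj (t : K₀)⁻¹).toMonoidHom :=
        (congrArg (fun f => Q.map f) (MonoidHom.ext fun w => by simp [mul_assoc])).trans
          (Subgroup.map_map Q _ _).symm
      rw [this, ← hmap]
      refine (Subgroup.map_map Q _ _).trans ?_
      exact (congrArg (fun f => Q.map f) (MonoidHom.ext fun w => by simp [mul_assoc])).trans (Subgroup.map_id Q)
    have hπk : π (q * ((t : K₀)⁻¹ * k)) = π k := by
      rw [map_mul, map_mul, map_inv, hqt, mul_inv_cancel_left]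
    exact ⟨⟨q * ((t : K₀)⁻¹ * k), hmem, show π _ ∈ H by rw [hπk]; exact hh⟩, Subtype.ext hπk⟩
  · intro d hd
    have hc : π (d : K₀) ∈ K := hCK (Subgroup.mem_centralizer_iff.2 fun z hz => by
      obtain ⟨q, hq', rfl⟩ := hQP z hz
      have := Subgroup.mem_centralizer_iff.1 hd (q : G) ⟨q, hq', rfl⟩
      rw [← map_mul, ← map_mul]
      exact congrArg π (Subtype.ext this))
    show e (QuotientGroup.mk _) = 1
    rw [(QuotientGroup.eq_one_iff _).2 (Subgroup.mem_subgroupOf.2 hc), map_one]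

end Cfsg.Agent.PLocal
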