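import Cfsg.Agent.Lib.PLocal.FunctorFusion
import Cfsg.Agent.Lib.FunctorControl.Sections

/-!
Control of strong fusion by isomorphism-invariant `p`-functors in sections (namespace `Cfsg.Agent.PLocal`).

* `goodFunctor_induced`, `goodFunctor_center`
* `sec_control`: normality in constrained sections gives `Realized` control in every section
* `controlsStrongFusion_of_realized`, `familyControls_of_realized`
-/

namespace Cfsg.Agent.PLocal

open Subgroup
open Cfsg (IsCharPFunctor inducedFunctor)
open FunctorControl (IsSec)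

universe u

variable {p : ℕ}

theorem goodFunctor_induced {W : ∀ (Q : Type u) [Group Q], Subgroup Q} (hW : IsCharPFunctor.{u} p W) :
    GoodFunctor p fun (X : Type u) [Group X] (H : Subgroup X) => inducedFunctor W H where
  le _ := map_subtype_le _
  map {X Y} _ _ _ f {H} hH hf := by
    have hg : Function.Bijective (f.subgroupMap H) :=
      ⟨fun a b h => Subtype.ext (hf a.2 b.2 (congrArg Subtype.val h)), f.subgroupMap_surjective H⟩
    show ((W ↥H).map H.subtype).map f = (W ↥(H.map f)).map (H.map f).subtype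
    rw [← hW.2 ↥H ↥(H.map f) hH (MulEquiv.ofBijective _ hg), Subgroup.map_map, Subgroup.map_map]
    rfl
  ne_bot {X} _ _ {H} hH hne e :=
    hW.1 ↥H hH ((Subgroup.nontrivial_iff_ne_bot H).2 hne)
      ((Subgroup.map_eq_bot_iff_of_injective _ H.subtype_injective).1 e)

variable {G : Type u} [Group G] [Finite G] [Fact p.Prime]
variable {F : ∀ (X : Type u) [Group X], Subgroup X → Subgroup X}

/-- **Glauberman's reduction**, for the sections of a fixed group. -/
theorem sec_control (hF : GoodFunctor p F)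
    (hloc : ∀ (K R : Subgroup G) [(R.subgroupOf K).Normal],
      centralizer (Cfsg.pCore p (↥K ⧸ R.subgroupOf K) : Set (↥K ⧸ R.subgroupOf K)) ≤
        Cfsg.pCore p (↥K ⧸ R.subgroupOf K) → ∀ T : Sylow p (↥K ⧸ R.subgroupOf K),
        (F (↥K ⧸ R.subgroupOf K) (T : Subgroup (↥K ⧸ R.subgroupOf K))).Normal)
    {X : Type u} [Group X] (hX : IsSec G X) (P : Sylow p X) (Q : Subgroup X) (hQ : Q ≤ (P : Subgroup X))
    (g : X) (hg : Q.map (MulAut.conj g).toMonoidHom ≤ (P : Subgroup X)) :
    Realized (normalizer (F X (P : Subgroup X) : Set X)) Q g := by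
  haveI := hX.finite
  refine functor_control hF (fun Y _ => IsSec G Y) (fun _ _ M h => h.subgroup M)
    (fun Y _ N _ h => h.of_surjective (QuotientGroup.mk' N) (QuotientGroup.mk'_surjective N))
    (fun Y _ _ hY hc S => ?_) hX P Q hQ g hg
  obtain ⟨K, R, hR, ⟨e⟩⟩ := hY.exists_equiv
  have hpc := Cores.pCore_map_mulEquiv e p
  have hc' : centralizer (Cfsg.pCore p (↥K ⧸ R.subgroupOf K) : Set (↥K ⧸ R.subgroupOf K)) ≤
      Cfsg.pCore p (↥K ⧸ R.subgroupOf K) := fun x hx => by
    have h1 : e x ∈ centralizer (Cfsg.pCore p Y : Set Y) := mem_centralizer_iff.2 fun y hy => by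
      obtain ⟨z, hz, rfl⟩ := hpc.ge hy
      show e z * e x = e x * e z
      rw [← map_mul, ← map_mul, mem_centralizer_iff.1 hx z hz]
    obtain ⟨z, hz, he⟩ := hpc.ge (hc h1)
    rwa [← e.injective he]
  have hsymm : Function.Surjective e.symm.toMonoidHom := e.symm.surjective
  set S' := S.mapSurjective hsymm
  have hmap : (S' : Subgroup (↥K ⧸ R.subgroupOf K)).map e.toMonoidHom = (S : Subgroup Y) := by
    rw [Sylow.coe_mapSurjective, Subgroup.map_map]
    convert Subgroup.map_id _
    ext y; simp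
  haveI := hloc K R hc' S'
  rw [← hmap, ← hF.map _ S'.2 e.injective.injOn]
  exact Normal.map inferInstance _ e.surjective

theorem controlsStrongFusion_of_realized {U : Subgroup G} (P : Sylow p G) (hU : U ≤ (P : Subgroup G))
    (h : ∀ Q ≤ (P : Subgroup G), ∀ g : G, Q.map (MulAut.conj g).toMonoidHom ≤ (P : Subgroup G) →
      Realized (normalizer (U : Set G)) Q g) :
    Cfsg.ControlsStrongFusion p U := by
  refine ⟨P, hU, fun A hA => ⟨hA, fun g hg => ?_⟩⟩
  obtain ⟨x, hx, hxq⟩ := h (Subgroup.closure A) ((closure_le _).2 hA) g (by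
    rw [MonoidHom.map_closure]; exact (closure_le _).2 hg)
  exact ⟨x, hx, fun a ha => (hxq a (subset_closure ha)).symm⟩

theorem familyControls_of_realized {𝒲 : Set (Subgroup G → Subgroup G)} {W : Subgroup G → Subgroup G}
    (hW : W ∈ 𝒲) (P : Sylow p G)
    (h : ∀ Q ≤ (P : Subgroup G), ∀ g : G, Q.map (MulAut.conj g).toMonoidHom ≤ (P : Subgroup G) →
      Realized (normalizer (W (P : Subgroup G) : Set G)) Q g) :
    Cfsg.FamilyControlsStrongFusionIn p 𝒲 ⊤ := by
  refine ⟨P, le_top, P.2, ?_, fun A g _ hA hg => ?_⟩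
  · rw [relIndex_top_right]; exact P.not_dvd_index
  obtain ⟨x, hx, hxq⟩ := h (Subgroup.closure A) ((closure_le _).2 hA) g (by
    rw [MonoidHom.map_closure]; exact (closure_le _).2 hg)
  refine ⟨1, ![1, x], rfl, fun i => ⟨W, hW, ?_⟩, fun i => ?_, fun a ha => hxq a (subset_closure ha)⟩
  · obtain rfl : i = 0 := Subsingleton.elim _ _
    simpa using hx
  · rintro _ ⟨a, ha, rfl⟩
    fin_cases i
    · simpa using hA ha
    · show x * a * x⁻¹ ∈ (P : Subgroup G)
      rw [hxq a (subset_closure ha)]
      exact hg ⟨a, ha, rfl⟩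

end Cfsg.Agent.PLocal
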