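import Cfsg.Agent.Lib.PLocal.Omega
import Cfsg.Agent.Lib.PLocal.Action

/-!
Glauberman's replacement theorem (namespace `Cfsg.Agent.PLocal`).

* `commutator_sq_eq_one`: the derived group of `[b, A]` has exponent dividing 2
* `gStar A b`: `(A ∩ A^b)[A, b]`; `gStar_card`, `gStar_abelian`, `gStar_exponent`, `gStar_inf_lt` and friends
* `exists_mem_normalizer_normalizer`
* `exists_replacement`: the packaged form
-/

namespace Cfsg.Agent.PLocal

open scoped commutatorElement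

variable {G : Type*} [Group G]

/-- `[b, A]`, generated by the `b⁻¹ a b a⁻¹`. -/
def elemComm (A : Subgroup G) (b : G) : Subgroup G :=
  Subgroup.closure {g : G | ∃ a ∈ A, g = b⁻¹ * a * b * a⁻¹}

theorem elemComm_le {A B : Subgroup G} {b : G} (hAB : A ≤ Subgroup.normalizer (B : Set G)) (hb : b ∈ B) :
    elemComm A b ≤ ⁅B, A⁆ :=
  (Subgroup.closure_le _).2 (by
    rintro _ ⟨a, ha, rfl⟩
    have := Subgroup.commutator_mem_commutator (B.inv_mem hb) ha
    rwa [commutatorElement_def, inv_inv] at this)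

theorem derived_central {A B : Subgroup G} (hAB : A ≤ Subgroup.normalizer (B : Set G))
    (hc : ⁅⁅B, B⁆, A⁆ = ⊥) :
    ⁅B, A⁆ ≤ Subgroup.centralizer ((⁅B, B⁆ : Subgroup G) : Set G) ∧
      ⁅⁅B, A⁆, ⁅B, A⁆⁆ ≤ B ⊓ Subgroup.centralizer (B : Set G) := by
  have hA : A ≤ Subgroup.centralizer ((⁅B, B⁆ : Subgroup G) : Set G) :=
    le_centralizer_comm (Subgroup.commutator_eq_bot_iff_le_centralizer.1 hc)
  have hB : B ≤ Subgroup.normalizer (Subgroup.centralizer ((⁅B, B⁆ : Subgroup G) : Set G) : Set G) :=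
    (Subgroup.normalizer_commutator_ge_left B B).trans (normalizer_le_normalizer_centralizer _)
  have h1 : ⁅B, A⁆ ≤ Subgroup.centralizer ((⁅B, B⁆ : Subgroup G) : Set G) := by
    refine Subgroup.commutator_le.2 fun b hb a ha => ?_
    rw [commutatorElement_def]
    exact Subgroup.mul_mem _ (conj_mem (hB hb) (hA ha)) (Subgroup.inv_mem _ (hA ha))
  refine ⟨h1, le_inf ?_ ?_⟩
  · exact (Subgroup.commutator_mono (commutator_le_left_of_normalizes hAB)
      (commutator_le_left_of_normalizes hAB)).trans (Subgroup.commutator_le_self B)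
  · set X := ⁅B, A⁆
    have hX : X ≤ B := commutator_le_left_of_normalizes hAB
    have h2 : ⁅⁅B, B⁆, X⁆ = ⊥ := Subgroup.commutator_eq_bot_iff_le_centralizer.2 (le_centralizer_comm h1)
    exact Subgroup.commutator_eq_bot_iff_le_centralizer.1 (Subgroup.commutator_commutator_eq_bot_of_rotate
      (le_bot_iff.1 ((Subgroup.commutator_mono (Subgroup.commutator_mono hX le_rfl) le_rfl).trans h2.le))
      (le_bot_iff.1 ((Subgroup.commutator_mono (Subgroup.commutator_mono le_rfl hX) le_rfl).trans h2.le)))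

/-- If generators of a subgroup of `B` have commutators in `K`, centralised by `B`, so do all elements. -/
theorem commutator_closure_le {B K : Subgroup G} {s : Set G} (hs : s ⊆ B)
    (hK : B ≤ Subgroup.centralizer (K : Set G)) (h : ∀ x ∈ s, ∀ y ∈ s, ⁅x, y⁆ ∈ K) :
    ⁅Subgroup.closure s, Subgroup.closure s⁆ ≤ K := by
  have hcl : Subgroup.closure s ≤ B := (Subgroup.closure_le B).2 hs
  have hfix : ∀ x ∈ B, ∀ k ∈ K, x * k * x⁻¹ = k := fun x hx k hk => by
    rw [← Subgroup.mem_centralizer_iff.1 (hK hx) k hk, mul_inv_cancel_right]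
  have step : ∀ x ∈ Subgroup.closure s, ∀ y ∈ s, ⁅x, y⁆ ∈ K := by
    intro x hx y hy
    induction hx using Subgroup.closure_induction with
    | mem x hx => exact h x hx y hy
    | one => simp
    | mul x z hx hz ihx ihz =>
      rw [commutatorElement_mul_left_eq_conj_mul, hfix x (hcl hx) _ ihz]
      exact K.mul_mem ihz ihx
    | inv x hx ihx =>
      have e : ⁅x⁻¹, y⁆ = x⁻¹ * (⁅x, y⁆)⁻¹ * x := by rw [commutatorElement_def, commutatorElement_def]; group
      rw [e]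
      have := hfix x⁻¹ (hcl (Subgroup.inv_mem _ hx)) _ (K.inv_mem ihx)
      rw [inv_inv] at this
      rwa [this, K.inv_mem_iff]
  refine Subgroup.commutator_le.2 fun x hx y hy => ?_
  rw [← commutatorElement_inv, K.inv_mem_iff]
  induction hy using Subgroup.closure_induction with
  | mem y hy =>
    rw [← commutatorElement_inv, K.inv_mem_iff]
    exact step x hx y hy
  | one => simp
  | mul y z hy hz ihy ihz =>
    rw [commutatorElement_mul_left_eq_conj_mul, hfix y (hcl hy) _ ihz]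
    exact K.mul_mem ihz ihy
  | inv y hy ihy =>
    have e : ⁅y⁻¹, x⁆ = y⁻¹ * (⁅y, x⁆)⁻¹ * y := by rw [commutatorElement_def, commutatorElement_def]; group
    rw [e]
    have := hfix y⁻¹ (hcl (Subgroup.inv_mem _ hy)) _ (K.inv_mem ihy)
    rw [inv_inv] at this
    rwa [this, K.inv_mem_iff]

/-- The heart of the matter: commutators of the generators of `[b, A]` square to one. -/
theorem commutator_gen_sq {A B : Subgroup G} (hAB : A ≤ Subgroup.normalizer (B : Set G))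
    (hc : ⁅⁅B, B⁆, A⁆ = ⊥) (hA : IsMulCommutative A) {b : G} (hb : b ∈ B)
    (hY : ⁅⁅elemComm A b, A⁆, A⁆ = ⊥) {a₁ a₂ : G} (h₁ : a₁ ∈ A) (h₂ : a₂ ∈ A) :
    ⁅b⁻¹ * a₁ * b * a₁⁻¹, b⁻¹ * a₂ * b * a₂⁻¹⁆ ^ 2 = 1 := by
  obtain ⟨hXD, hZ⟩ := derived_central hAB hc
  have hX : ⁅B, A⁆ ≤ B := commutator_le_left_of_normalizes hAB
  set X := ⁅B, A⁆
  set c := b⁻¹
  have hcB : c ∈ B := B.inv_mem hb
  set Y := elemComm A b
  have hYX : Y ≤ X := elemComm_le hAB hb
  set f : G → G := fun a => b⁻¹ * a * b * a⁻¹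
  have hfY : ∀ a ∈ A, f a ∈ Y := fun a ha => Subgroup.subset_closure ⟨a, ha, rfl⟩
  have hcon : ∀ a, a * c * a⁻¹ = (f a)⁻¹ * c := fun a => by simp only [f, c]; group
  have hDA : ∀ d ∈ ⁅B, B⁆, ∀ a ∈ A, a * d * a⁻¹ = d := fun d hd a ha => by
    rw [← commute_of_le_centralizer (Subgroup.commutator_eq_bot_iff_le_centralizer.1 hc) hd ha,
      mul_inv_cancel_right]
  have hDX : ∀ d ∈ ⁅B, B⁆, ∀ x ∈ X, x * d * x⁻¹ = d := fun d hd x hx => by
    rw [(commute_of_le_centralizer hXD hx hd).eq, mul_inv_cancel_right]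
  have hK : ∀ k ∈ ⁅Y, A⁆, k ∈ X ∧ (∀ a ∈ A, a * k * a⁻¹ = k) ∧ ∀ a ∈ A, Commute (f a) k := by
    intro k hk
    have hkX : k ∈ X := Subgroup.commutator_le.2 (fun y hy a ha => by
      rw [commutatorElement_def, mul_assoc, mul_assoc]
      refine X.mul_mem (hYX hy) ?_
      rw [← mul_assoc]
      exact conj_mem (Subgroup.normalizer_commutator_ge_right B A ha) (X.inv_mem (hYX hy))) hk
    have hka : ∀ a ∈ A, a * k * a⁻¹ = k := fun a ha => by
      rw [← commute_of_le_centralizer (Subgroup.commutator_eq_bot_iff_le_centralizer.1 hY) hk ha,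
        mul_inv_cancel_right]
    refine ⟨hkX, hka, fun a ha => ?_⟩
    have hd : ⁅c, k⁆ ∈ ⁅B, B⁆ := Subgroup.commutator_mem_commutator hcB (hX hkX)
    have h1 : ⁅(f a)⁻¹ * c, k⁆ = ⁅c, k⁆ := by
      have := hDA _ hd a ha
      rw [conjugate_commutatorElement, hcon, hka a ha] at this
      exact this
    rw [commutatorElement_mul_left_eq_conj_mul, hDX _ hd _ (X.inv_mem (hYX (hfY a ha)))] at h1
    simpa using (commutatorElement_eq_one_iff_commute.1 (mul_eq_left.1 h1)).inv_left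
  have key : ∀ a ∈ A, ∀ a' ∈ A, ⁅c, ⁅a, f a'⁆⁆ = ⁅f a, f a'⁆ := by
    intro a ha a' ha'
    set y := f a
    set y' := f a'
    set s := ⁅a, y'⁆
    have hs : s ∈ ⁅Y, A⁆ := Subgroup.commutator_comm A Y ▸ Subgroup.commutator_mem_commutator ha (hfY a' ha')
    obtain ⟨hsX, -, hsy⟩ := hK s hs
    have hy : y ∈ X := hYX (hfY a ha)
    have hy' : y' ∈ X := hYX (hfY a' ha')
    have hd : ⁅c, y'⁆ ∈ ⁅B, B⁆ := Subgroup.commutator_mem_commutator hcB (hX hy')
    have hd' : ⁅c, s * y'⁆ ∈ ⁅B, B⁆ := Subgroup.commutator_mem_commutator hcB (hX (X.mul_mem hsX hy'))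
    have hw : ⁅y, y'⁆ ∈ B ⊓ Subgroup.centralizer (B : Set G) :=
      hZ (Subgroup.commutator_mem_commutator hy hy')
    have hw' : ⁅y⁻¹, y'⁆ = (⁅y, y'⁆)⁻¹ := by
      have hcm : ⁅y, y'⁆ * y = y * ⁅y, y'⁆ := (Subgroup.mem_centralizer_iff.1 hw.2 y (hX hy)).symm
      calc ⁅y⁻¹, y'⁆ = y⁻¹ * (⁅y, y'⁆)⁻¹ * y := by rw [commutatorElement_def, commutatorElement_def]; group
        _ = y⁻¹ * (y * (⁅y, y'⁆)⁻¹) := by
            rw [mul_assoc, ((show Commute ⁅y, y'⁆ y from hcm).inv_left).eq]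
        _ = _ := by group
    have h1 : ⁅y⁻¹ * c, s * y'⁆ = ⁅c, y'⁆ := by
      have := hDA _ hd a ha
      rw [conjugate_commutatorElement, hcon, show a * y' * a⁻¹ = s * y' by
        rw [← MulAut.conj_apply, conj_eq_commutatorElement_mul]] at this
      exact this
    have h2 : ⁅y⁻¹, s * y'⁆ = ⁅y⁻¹, y'⁆ := by
      have hys : Commute y⁻¹ s := (hsy a ha).inv_left
      have hb' : ⁅y⁻¹, y'⁆ * s = s * ⁅y⁻¹, y'⁆ := by
        rw [hw']
        exact ((show Commute ⁅y, y'⁆ s from (Subgroup.mem_centralizer_iff.1 hw.2 s (hX hsX)).symm).inv_left).eq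
      calc ⁅y⁻¹, s * y'⁆ = ⁅y⁻¹, s⁆ * (s * ⁅y⁻¹, y'⁆ * s⁻¹) := by
            simp only [commutatorElement_def]; group
        _ = _ := by rw [hys.commutator_eq, ← hb']; group
    have h3 : ⁅c, s * y'⁆ = ⁅c, s⁆ * ⁅c, y'⁆ := by
      calc ⁅c, s * y'⁆ = ⁅c, s⁆ * (s * ⁅c, y'⁆ * s⁻¹) := by simp only [commutatorElement_def]; group
        _ = _ := by rw [hDX _ hd s hsX]
    rw [commutatorElement_mul_left_eq_conj_mul, hDX _ hd' _ (X.inv_mem hy), h2, h3, hw'] at h1
    have hcy : c * y' * c⁻¹ * y'⁻¹ = ⁅c, y'⁆ := rfl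
    have hwd : Commute ⁅y, y'⁆ ⁅c, y'⁆ :=
      (Subgroup.mem_centralizer_iff.1 hw.2 _ ((Subgroup.commutator_le_self B) hd)).symm
    calc ⁅c, s⁆ = ⁅c, s⁆ * ⁅c, y'⁆ * (⁅y, y'⁆)⁻¹ * ⁅y, y'⁆ * (⁅c, y'⁆)⁻¹ := by group
      _ = ⁅c, y'⁆ * ⁅y, y'⁆ * (⁅c, y'⁆)⁻¹ := by rw [h1]
      _ = ⁅y, y'⁆ := by rw [← hwd.eq, mul_inv_cancel_right]
  show ⁅f a₁, f a₂⁆ ^ 2 = 1
  set y := f a₁
  set y' := f a₂
  set s := ⁅a₁, y'⁆
  set s' := ⁅a₂, y⁆
  have hs : s ∈ ⁅Y, A⁆ := Subgroup.commutator_comm A Y ▸ Subgroup.commutator_mem_commutator h₁ (hfY _ h₂)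
  have hs' : s' ∈ ⁅Y, A⁆ := Subgroup.commutator_comm A Y ▸ Subgroup.commutator_mem_commutator h₂ (hfY _ h₁)
  have hcomm : a₁ * a₂ = a₂ * a₁ :=
    commute_of_le_centralizer (Subgroup.le_centralizer_iff_isMulCommutative.2 hA) h₁ h₂
  have e0 : y * (s * y') = y' * (s' * y) := by
    calc y * (s * y') = b⁻¹ * (a₁ * a₂) * b * (a₁ * a₂)⁻¹ := by
          simp only [s, y, y', f, commutatorElement_def]; group
      _ = b⁻¹ * (a₂ * a₁) * b * (a₂ * a₁)⁻¹ := by rw [hcomm]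
      _ = y' * (s' * y) := by simp only [s', y, y', f, commutatorElement_def]; group
  have cs : Commute y s := (hK s hs).2.2 _ h₁
  have cs' : Commute y' s' := (hK s' hs').2.2 _ h₂
  have e1 : s' = s * ⁅y, y'⁆ := by
    have : s * (y * y') = s' * (y' * y) := by
      rw [← mul_assoc, ← cs.eq, mul_assoc, e0, ← mul_assoc, cs'.eq, mul_assoc]
    calc s' = s' * (y' * y) * (y' * y)⁻¹ := by group
      _ = s * (y * y') * (y' * y)⁻¹ := by rw [this]
      _ = _ := by rw [commutatorElement_def]; group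
  have hw : ⁅y, y'⁆ ∈ B ⊓ Subgroup.centralizer (B : Set G) :=
    hZ (Subgroup.commutator_mem_commutator (hYX (hfY _ h₁)) (hYX (hfY _ h₂)))
  have hcw : ⁅c, ⁅y, y'⁆⁆ = 1 :=
    (show Commute c ⁅y, y'⁆ from Subgroup.mem_centralizer_iff.1 hw.2 c hcB).commutator_eq
  have e2 : ⁅c, s'⁆ = ⁅c, s⁆ := by
    calc ⁅c, s'⁆ = ⁅c, s⁆ * (s * ⁅c, ⁅y, y'⁆⁆ * s⁻¹) := by rw [e1]; simp only [commutatorElement_def]; group
      _ = _ := by rw [hcw]; group
  rw [key a₂ h₂ a₁ h₁, key a₁ h₁ a₂ h₂, ← commutatorElement_inv] at e2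
  rw [pow_two]
  nth_rw 1 [← e2]
  rw [inv_mul_cancel]

theorem commutator_sq_eq_one {A B : Subgroup G} (hAB : A ≤ Subgroup.normalizer (B : Set G))
    (hc : ⁅⁅B, B⁆, A⁆ = ⊥) (hA : IsMulCommutative A) {b : G} (hb : b ∈ B)
    (hY : ⁅⁅elemComm A b, A⁆, A⁆ = ⊥) {w : G} (hw : w ∈ ⁅elemComm A b, elemComm A b⁆) : w ^ 2 = 1 := by
  obtain ⟨-, hZ⟩ := derived_central hAB hc
  set Z := B ⊓ Subgroup.centralizer (B : Set G)
  have hZab : Z ≤ Subgroup.centralizer (Z : Set G) :=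
    inf_le_right.trans (Subgroup.centralizer_le inf_le_left)
  have hgen : {g : G | ∃ a ∈ A, g = b⁻¹ * a * b * a⁻¹} ⊆ (⁅B, A⁆ : Subgroup G) := fun g hg =>
    elemComm_le hAB hb (Subgroup.subset_closure hg)
  refine (omegaOne_elemAb (p := 2) hZab).2 w (commutator_closure_le (B := B) (K := Cfsg.omegaOne 2 Z) ?_ ?_ ?_ hw)
  · exact fun g hg => commutator_le_left_of_normalizes hAB (hgen hg)
  · exact le_centralizer_comm ((omegaOne_le _).trans inf_le_right)
  · rintro _ ⟨a₁, h₁, rfl⟩ _ ⟨a₂, h₂, rfl⟩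
    exact mem_omegaOne (hZ (Subgroup.commutator_mem_commutator (hgen ⟨a₁, h₁, rfl⟩) (hgen ⟨a₂, h₂, rfl⟩)))
      (commutator_gen_sq hAB hc hA hb hY h₁ h₂)

/-! ### The replacement -/

/-- `(A ∩ b⁻¹Ab)[A, b]`. -/
def gStar (A : Subgroup G) (b : G) : Subgroup G :=
  (A ⊓ A.map (MulAut.conj b⁻¹).toMonoidHom) ⊔ Subgroup.closure {g : G | ∃ a ∈ A, g = a * b⁻¹ * a⁻¹ * b}

/-- The hypotheses of Glauberman's replacement theorem. -/
structure GSetup (A B : Subgroup G) (b : G) : Prop where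
  normalB : B.Normal
  abA : IsMulCommutative A
  derived : ⁅B, B⁆ ≤ A
  memB : b ∈ B
  memNN : b ∈ Subgroup.normalizer ((Subgroup.normalizer (A : Set G)) : Set G)

variable {A B : Subgroup G} {b : G}

theorem mem_conj_map {A : Subgroup G} {b x : G} :
    x ∈ A.map (MulAut.conj b⁻¹).toMonoidHom ↔ b * x * b⁻¹ ∈ A := by
  constructor
  · rintro ⟨a, ha, rfl⟩
    simpa [mul_assoc] using ha
  · intro h
    exact ⟨_, h, by simp [mul_assoc]⟩

namespace GSetup

variable (h : GSetup A B b)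
include h

theorem comm_A {x y : G} (hx : x ∈ A) (hy : y ∈ A) : Commute x y :=
  commute_of_le_centralizer (Subgroup.le_centralizer_iff_isMulCommutative.2 h.abA) hx hy

theorem mapA_le : A.map (MulAut.conj b⁻¹).toMonoidHom ≤ Subgroup.normalizer (A : Set G) := by
  intro x hx
  have h1 := (Subgroup.mem_normalizer_iff''.1 h.memNN _).1 (Subgroup.le_normalizer (mem_conj_map.1 hx))
  simpa [mul_assoc] using h1

theorem normalizer_le_normalizer_mapA :
    Subgroup.normalizer (A : Set G) ≤ Subgroup.normalizer ((A.map (MulAut.conj b⁻¹).toMonoidHom) : Set G) := by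
  refine Subgroup.le_normalizer_iff.2 fun n hn x hx => mem_conj_map.2 ?_
  have hn' := (Subgroup.mem_normalizer_iff.1 h.memNN n).1 hn
  have := conj_mem hn' (mem_conj_map.1 hx)
  simpa [mul_assoc] using this

theorem A_le_mapA_normalizer : A ≤ Subgroup.normalizer ((A.map (MulAut.conj b⁻¹).toMonoidHom) : Set G) :=
  Subgroup.le_normalizer.trans h.normalizer_le_normalizer_mapA

theorem comm_mapA {x y : G} (hx : x ∈ A.map (MulAut.conj b⁻¹).toMonoidHom)
    (hy : y ∈ A.map (MulAut.conj b⁻¹).toMonoidHom) : Commute x y := by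
  obtain ⟨a, ha, rfl⟩ := hx
  obtain ⟨a', ha', rfl⟩ := hy
  exact (h.comm_A ha ha').map _

theorem commutator_mem {x y : G} (hx : x ∈ A.map (MulAut.conj b⁻¹).toMonoidHom) (hy : y ∈ A) :
    ⁅x, y⁆ ∈ A ⊓ A.map (MulAut.conj b⁻¹).toMonoidHom := by
  constructor
  · rw [commutatorElement_def]
    exact A.mul_mem (conj_mem (h.mapA_le hx) hy) (A.inv_mem hy)
  · rw [commutatorElement_def, mul_assoc, mul_assoc]
    refine Subgroup.mul_mem _ hx ?_
    rw [← mul_assoc]
    exact conj_mem (h.A_le_mapA_normalizer hy) (Subgroup.inv_mem _ hx)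

theorem conj_mem_mapA {a : G} (ha : a ∈ A) : b⁻¹ * a * b ∈ A.map (MulAut.conj b⁻¹).toMonoidHom :=
  mem_conj_map.2 (by simpa [mul_assoc] using ha)

theorem derived_le_mapA : ⁅B, B⁆ ≤ A.map (MulAut.conj b⁻¹).toMonoidHom := by
  haveI := h.normalB
  exact fun x hx => mem_conj_map.2 (h.derived ((inferInstance : (⁅B, B⁆).Normal).conj_mem x hx b))

theorem inf_B_le_mapA : A ⊓ B ≤ A.map (MulAut.conj b⁻¹).toMonoidHom := by
  intro x hx
  refine mem_conj_map.2 ?_
  have := A.mul_mem (h.derived (Subgroup.commutator_mem_commutator h.memB hx.2)) hx.1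
  rwa [commutatorElement_def, inv_mul_cancel_right] at this

theorem mem_B {a : G} (ha : a ∈ A) : a⁻¹ * b⁻¹ * a * b ∈ B := by
  have := h.normalB.conj_mem _ (B.inv_mem h.memB) a⁻¹
  exact B.mul_mem (by simpa using this) h.memB

theorem b_mem_normalizer_inf [Finite G] :
    b⁻¹ ∈ Subgroup.normalizer ((A ⊓ A.map (MulAut.conj b⁻¹).toMonoidHom : Subgroup G) : Set G) := by
  rw [mem_normalizer_iff_map_eq]
  refine eq_of_le_of_card_le ?_ (Subgroup.card_map_of_injective (MulAut.conj b⁻¹).injective).ge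
  rintro _ ⟨x, hx, rfl⟩
  show b⁻¹ * x * b⁻¹⁻¹ ∈ _
  rw [inv_inv]
  refine ⟨?_, h.conj_mem_mapA hx.1⟩
  set a := b * x * b⁻¹
  have ha : a ∈ A := mem_conj_map.1 hx.2
  set u := a⁻¹ * x
  have huA : u ∈ A := A.mul_mem (A.inv_mem ha) hx.1
  have huB : u ∈ B := by
    have e : u = a⁻¹ * b⁻¹ * a * b := by simp only [u, a]; group
    rw [e]; exact h.mem_B ha
  have h1 : b⁻¹ * u * b * u⁻¹ ∈ A := by
    have := h.derived (Subgroup.commutator_mem_commutator (B.inv_mem h.memB) huB)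
    rwa [commutatorElement_def, inv_inv] at this
  have e : b⁻¹ * x * b = x * (b⁻¹ * u * b * u⁻¹ * u) := by simp only [u, a]; group
  rw [e]
  exact A.mul_mem hx.1 (A.mul_mem h1 huA)

theorem gen_mem_B {a : G} (ha : a ∈ A) : a * b⁻¹ * a⁻¹ * b ∈ B := by
  have := h.mem_B (A.inv_mem ha)
  rwa [inv_inv] at this

theorem mem_form {x : G} (hx : x ∈ gStar A b) :
    ∃ a ∈ A, ∃ d ∈ A ⊓ A.map (MulAut.conj b⁻¹).toMonoidHom, x = a * (b⁻¹ * a⁻¹ * b) * d := by
  set D := A ⊓ A.map (MulAut.conj b⁻¹).toMonoidHom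
  have hcl : Subgroup.closure ((D : Set G) ∪ {g : G | ∃ a ∈ A, g = a * b⁻¹ * a⁻¹ * b}) = gStar A b := by
    rw [Subgroup.closure_union, Subgroup.closure_eq]; rfl
  rw [← hcl] at hx
  have hDc : ∀ d ∈ D, ∀ a ∈ A, Commute d a := fun d hd a ha => h.comm_A hd.1 ha
  have hDc' : ∀ d ∈ D, ∀ a ∈ A, Commute d (b⁻¹ * a * b) := fun d hd a ha => h.comm_mapA hd.2 (h.conj_mem_mapA ha)
  induction hx using Subgroup.closure_induction with
  | mem x hx =>
    rcases hx with hx | ⟨a, ha, rfl⟩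
    · exact ⟨1, A.one_mem, x, hx, by group⟩
    · exact ⟨a, ha, 1, D.one_mem, by group⟩
  | one => exact ⟨1, A.one_mem, 1, D.one_mem, by group⟩
  | mul x y _ _ ihx ihy =>
    obtain ⟨a, ha, d, hd, rfl⟩ := ihx
    obtain ⟨a', ha', d', hd', rfl⟩ := ihy
    set u := b⁻¹ * a⁻¹ * b
    set u' := b⁻¹ * a'⁻¹ * b
    have hu : u ∈ A.map (MulAut.conj b⁻¹).toMonoidHom := h.conj_mem_mapA (A.inv_mem ha)
    have hz : ⁅u, a'⁆ ∈ D := h.commutator_mem hu ha'
    refine ⟨a * a', A.mul_mem ha ha', ⁅u, a'⁆ * d * d', D.mul_mem (D.mul_mem hz hd) hd', ?_⟩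
    have e1 : b⁻¹ * (a * a')⁻¹ * b = u * u' := by
      rw [(h.comm_A ha ha').eq]; simp only [u, u']; group
    rw [e1]
    have c1 : d * (a' * u') = (a' * u') * d := ((hDc d hd a' ha').mul_right (hDc' d hd _ (A.inv_mem ha'))).eq
    have c2 : Commute ⁅u, a'⁆ u' := hDc' _ hz _ (A.inv_mem ha')
    have c3 : Commute ⁅u, a'⁆ u := hDc' _ hz _ (A.inv_mem ha)
    have c4 : Commute ⁅u, a'⁆ a' := hDc _ hz _ ha'
    calc a * u * d * (a' * u' * d') = a * u * (d * (a' * u')) * d' := by group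
      _ = a * (u * a') * u' * d * d' := by rw [c1]; group
      _ = a * ((⁅u, a'⁆ * a') * u) * u' * d * d' := by rw [commutatorElement_def]; group
      _ = a * a' * ((⁅u, a'⁆ * u) * u') * d * d' := by rw [c4.eq]; group
      _ = a * a' * (u * u' * ⁅u, a'⁆) * d * d' := by rw [c3.eq, mul_assoc u, c2.eq]; group
      _ = _ := by group
  | inv x _ ihx =>
    obtain ⟨a, ha, d, hd, rfl⟩ := ihx
    set u := b⁻¹ * a * b
    have hu : u ∈ A.map (MulAut.conj b⁻¹).toMonoidHom := h.conj_mem_mapA ha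
    have hz : ⁅u, a⁻¹⁆ ∈ D := h.commutator_mem hu (A.inv_mem ha)
    refine ⟨a⁻¹, A.inv_mem ha, ⁅u, a⁻¹⁆ * d⁻¹, D.mul_mem hz (D.inv_mem hd), ?_⟩
    have c3 : Commute ⁅u, a⁻¹⁆ u := hDc' _ hz _ ha
    have c4 : Commute ⁅u, a⁻¹⁆ a⁻¹ := hDc _ hz _ (A.inv_mem ha)
    have c5 : Commute d⁻¹ (u * a⁻¹) :=
      (hDc' _ (D.inv_mem hd) _ ha).mul_right (hDc _ (D.inv_mem hd) _ (A.inv_mem ha))
    rw [inv_inv]
    calc (a * (b⁻¹ * a⁻¹ * b) * d)⁻¹ = d⁻¹ * (u * a⁻¹) := by simp only [u]; group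
      _ = (u * a⁻¹) * d⁻¹ := c5.eq
      _ = (⁅u, a⁻¹⁆ * a⁻¹) * u * d⁻¹ := by rw [commutatorElement_def]; group
      _ = a⁻¹ * (⁅u, a⁻¹⁆ * u) * d⁻¹ := by rw [c4.eq]; group
      _ = _ := by rw [c3.eq]; simp only [u]; group

theorem gStar_le_sup : gStar A b ≤ A ⊔ A.map (MulAut.conj b⁻¹).toMonoidHom :=
  sup_le (inf_le_left.trans le_sup_left) ((Subgroup.closure_le _).2 (by
    rintro _ ⟨a, ha, rfl⟩
    have := Subgroup.mul_mem_sup ha (h.conj_mem_mapA (A.inv_mem ha))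
    simpa [mul_assoc] using this))

theorem gStar_le_normalizer : gStar A b ≤ Subgroup.normalizer (A : Set G) :=
  h.gStar_le_sup.trans (sup_le Subgroup.le_normalizer h.mapA_le)

theorem gStar_inf [Finite G] : A ⊓ gStar A b = A ⊓ A.map (MulAut.conj b⁻¹).toMonoidHom := by
  refine le_antisymm (fun x hx => ?_) (le_inf inf_le_left le_sup_left)
  obtain ⟨a, ha, d, hd, rfl⟩ := h.mem_form hx.2
  have h1 : b⁻¹ * a⁻¹ * b ∈ A := by
    have := A.mul_mem (A.mul_mem (A.inv_mem ha) hx.1) (A.inv_mem hd.1)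
    simpa [mul_assoc] using this
  have h2 : b⁻¹ * a * b ∈ A ⊓ A.map (MulAut.conj b⁻¹).toMonoidHom := by
    refine ⟨?_, h.conj_mem_mapA ha⟩
    have := A.inv_mem h1
    simpa [mul_assoc] using this
  have h3 : a ∈ A ⊓ A.map (MulAut.conj b⁻¹).toMonoidHom := by
    have := conj_mem (Subgroup.inv_mem _ h.b_mem_normalizer_inf) h2
    simpa [mul_assoc] using this
  refine ⟨hx.1, Subgroup.mul_mem _ (Subgroup.mul_mem _ h3.2 (h.conj_mem_mapA (A.inv_mem ha))) hd.2⟩

theorem A_le_normalizer_gStar : A ≤ Subgroup.normalizer (gStar A b : Set G) := by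
  refine Subgroup.le_normalizer_iff.2 fun a ha x hx => ?_
  obtain ⟨a', ha', d, hd, rfl⟩ := h.mem_form hx
  set u := b⁻¹ * a'⁻¹ * b
  have hu : u ∈ A.map (MulAut.conj b⁻¹).toMonoidHom := h.conj_mem_mapA (A.inv_mem ha')
  have hz : ⁅a, a' * u * d⁆ ∈ A ⊓ A.map (MulAut.conj b⁻¹).toMonoidHom := by
    have e : ⁅a, a' * u * d⁆ = (⁅u, a⁆)⁻¹ := by
      have c1 : a' * a = a * a' := (h.comm_A ha' ha).eq
      have c2 : d * a⁻¹ = a⁻¹ * d := (h.comm_A hd.1 (A.inv_mem ha)).eq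
      have cz : Commute a' (⁅u, a⁆)⁻¹ := h.comm_A ha' (A.inv_mem (h.commutator_mem hu ha).1)
      calc ⁅a, a' * u * d⁆ = a * a' * u * (d * a⁻¹) * d⁻¹ * u⁻¹ * a'⁻¹ := by
            rw [commutatorElement_def]; group
        _ = a' * a * u * a⁻¹ * u⁻¹ * a'⁻¹ := by rw [c2, c1]; group
        _ = a' * (⁅u, a⁆)⁻¹ * a'⁻¹ := by rw [commutatorElement_def]; group
        _ = _ := by rw [cz.eq, mul_inv_cancel_right]
    rw [e]; exact Subgroup.inv_mem _ (h.commutator_mem hu ha)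
  have := (gStar A b).mul_mem (show _ ∈ gStar A b from Subgroup.mem_sup_left hz) hx
  rwa [commutatorElement_def, inv_mul_cancel_right] at this

theorem card_gStar [Finite G] : Nat.card (gStar A b) = Nat.card A := by
  have e : A ⊔ gStar A b = A ⊔ A.map (MulAut.conj b⁻¹).toMonoidHom := by
    refine le_antisymm (sup_le le_sup_left h.gStar_le_sup) (sup_le le_sup_left ?_)
    rintro _ ⟨a, ha, rfl⟩
    have h1 : a * b⁻¹ * a⁻¹ * b ∈ gStar A b :=
      Subgroup.mem_sup_right (Subgroup.subset_closure ⟨a, ha, rfl⟩)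
    have h2 := Subgroup.mul_mem_sup (A.inv_mem ha) h1
    have h3 := Subgroup.inv_mem _ h2
    simpa [mul_assoc] using h3
  have c1 := card_sup_mul_card_inf (H := A) (K := gStar A b) h.gStar_le_normalizer
  have c2 := card_sup_mul_card_inf (H := A) (K := A.map (MulAut.conj b⁻¹).toMonoidHom) h.mapA_le
  rw [e, h.gStar_inf, c2, Subgroup.card_map_of_injective (f := (MulAut.conj b⁻¹).toMonoidHom) (MulAut.conj b⁻¹).injective] at c1
  exact (Nat.eq_of_mul_eq_mul_left Nat.card_pos c1).symm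

theorem derived_le_gStar : ⁅B, B⁆ ≤ gStar A b :=
  (le_inf h.derived h.derived_le_mapA).trans le_sup_left

theorem inf_B_le_gStar : A ⊓ B ≤ gStar A b :=
  (le_inf inf_le_left h.inf_B_le_mapA).trans le_sup_left

theorem inf_lt [Finite G] (hb : b ∉ Subgroup.normalizer (A : Set G)) : A ⊓ B < gStar A b ⊓ B := by
  refine lt_of_le_of_ne (le_inf h.inf_B_le_gStar inf_le_right) fun e => hb ?_
  have hsub : A.map (MulAut.conj b⁻¹).toMonoidHom ≤ A := by
    rintro _ ⟨a, ha, rfl⟩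
    have h1 : a * b⁻¹ * a⁻¹ * b ∈ A ⊓ B := by
      rw [e]; exact ⟨Subgroup.mem_sup_right (Subgroup.subset_closure ⟨a, ha, rfl⟩), h.gen_mem_B ha⟩
    have h2 := A.inv_mem (A.mul_mem (A.inv_mem ha) h1.1)
    simpa [mul_assoc] using h2
  have := eq_of_le_of_card_le hsub (Subgroup.card_map_of_injective (MulAut.conj b⁻¹).injective).ge
  simpa using Subgroup.inv_mem _ (mem_normalizer_iff_map_eq.2 this)

theorem inf_lt_B (hb : b ∉ Subgroup.normalizer (A : Set G)) : gStar A b ⊓ B < B :=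
  lt_of_le_of_ne inf_le_right fun e => hb (h.gStar_le_normalizer ((e.ge.trans inf_le_left) h.memB))

theorem not_B_le (hb : b ∉ Subgroup.normalizer (A : Set G)) : ¬ B ≤ gStar A b :=
  fun e => (h.inf_lt_B hb).ne (inf_eq_right.2 e)

theorem gStar_le {T : Subgroup G} (hA : A ≤ T) (hb : b ∈ Subgroup.normalizer (T : Set G)) : gStar A b ≤ T := by
  refine h.gStar_le_sup.trans (sup_le hA ?_)
  rintro _ ⟨a, ha, rfl⟩
  exact conj_mem (Subgroup.inv_mem _ hb) (hA ha)

theorem b_mem_normalizer_gStar [Finite G] : b ∈ Subgroup.normalizer (gStar A b : Set G) := by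
  refine (Subgroup.inv_mem_iff _).1 ((mem_normalizer_iff_map_eq).2 (eq_of_le_of_card_le ?_
    (Subgroup.card_map_of_injective (MulAut.conj b⁻¹).injective).ge))
  rintro _ ⟨x, hx, rfl⟩
  obtain ⟨a, ha, d, hd, rfl⟩ := h.mem_form hx
  show b⁻¹ * (a * (b⁻¹ * a⁻¹ * b) * d) * b⁻¹⁻¹ ∈ gStar A b
  have hy : a * (b⁻¹ * a⁻¹ * b) ∈ gStar A b :=
    Subgroup.mem_sup_right (Subgroup.subset_closure ⟨a, ha, by group⟩)
  have hyB : a * (b⁻¹ * a⁻¹ * b) ∈ B := by simpa [mul_assoc] using h.gen_mem_B ha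
  set y := a * (b⁻¹ * a⁻¹ * b)
  have h1 : ⁅b⁻¹, y⁆ ∈ gStar A b :=
    h.derived_le_gStar (Subgroup.commutator_mem_commutator (B.inv_mem h.memB) hyB)
  have e : b⁻¹ * (y * d) * b⁻¹⁻¹ = ⁅b⁻¹, y⁆ * y * (b⁻¹ * d * b⁻¹⁻¹) := by
    rw [commutatorElement_def]; group
  rw [e]
  exact (gStar A b).mul_mem ((gStar A b).mul_mem h1 hy)
    (Subgroup.mem_sup_left (conj_mem h.b_mem_normalizer_inf hd))

theorem normalizer_le : Subgroup.normalizer (A : Set G) ≤ Subgroup.normalizer (gStar A b : Set G) := by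
  have hD : Subgroup.normalizer (A : Set G) ≤
      Subgroup.normalizer ((A ⊓ A.map (MulAut.conj b⁻¹).toMonoidHom : Subgroup G) : Set G) :=
    (le_inf le_rfl h.normalizer_le_normalizer_mapA).trans (fun g hg => Subgroup.mem_normalizer_iff.2 fun x =>
      and_congr (Subgroup.mem_normalizer_iff.1 hg.1 x) (Subgroup.mem_normalizer_iff.1 hg.2 x))
  refine Subgroup.le_normalizer_iff.2 fun n hn x hx => ?_
  obtain ⟨a, ha, d, hd, rfl⟩ := h.mem_form hx
  set n' := b * n * b⁻¹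
  have hn' : n' ∈ Subgroup.normalizer (A : Set G) := (Subgroup.mem_normalizer_iff.1 h.memNN n).1 hn
  have hm : n' * n⁻¹ ∈ B := by
    have := B.mul_mem h.memB (h.normalB.conj_mem _ (B.inv_mem h.memB) n)
    simpa [n', mul_assoc] using this
  have hmN : n' * n⁻¹ ∈ Subgroup.normalizer (A : Set G) := Subgroup.mul_mem _ hn' (Subgroup.inv_mem _ hn)
  set a' := n * a * n⁻¹
  set a'' := n' * a * n'⁻¹
  have ha' : a' ∈ A := conj_mem hn ha
  have ha'' : a'' ∈ A := conj_mem hn' ha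
  have hd' : a'⁻¹ * a'' ∈ A ⊓ B := by
    refine ⟨A.mul_mem (A.inv_mem ha') ha'', ?_⟩
    have := B.mul_mem (h.normalB.conj_mem _ hm a'⁻¹) (B.inv_mem hm)
    have e : a'⁻¹ * (n' * n⁻¹) * a'⁻¹⁻¹ * (n' * n⁻¹)⁻¹ = a'⁻¹ * a'' := by simp only [a', a'']; group
    rwa [e] at this
  set D := A ⊓ A.map (MulAut.conj b⁻¹).toMonoidHom
  have hd'' : (b⁻¹ * (a'⁻¹ * a'')⁻¹ * b) ∈ gStar A b := by
    have hmem : a'⁻¹ * a'' ∈ A := hd'.1
    have hxD : (a'⁻¹ * a'')⁻¹ ∈ D := D.inv_mem ⟨hmem, h.inf_B_le_mapA hd'⟩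
    refine Subgroup.mem_sup_left (Subgroup.mem_inf.2 ⟨?_, h.conj_mem_mapA hxD.1⟩)
    have hB' := h.derived (Subgroup.commutator_mem_commutator (B.inv_mem h.memB) (B.inv_mem hd'.2))
    have := A.mul_mem hB' hxD.1
    rwa [commutatorElement_def, inv_inv, inv_mul_cancel_right] at this
  have hcomm : Commute (a'⁻¹ * a'') a' := h.comm_A hd'.1 ha'
  have e : n * (a * (b⁻¹ * a⁻¹ * b) * d) * n⁻¹
      = (a' * b⁻¹ * a'⁻¹ * b) * (b⁻¹ * (a'⁻¹ * a'')⁻¹ * b) * (n * d * n⁻¹) := by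
    have e0 : a''⁻¹ = a'⁻¹ * (a'⁻¹ * a'')⁻¹ := by
      rw [← mul_inv_rev, hcomm.eq, mul_inv_cancel_left]
    calc n * (a * (b⁻¹ * a⁻¹ * b) * d) * n⁻¹ = a' * (b⁻¹ * a''⁻¹ * b) * (n * d * n⁻¹) := by
          simp only [a', a'', n']; group
      _ = _ := by rw [e0]; group
  rw [e]
  exact (gStar A b).mul_mem ((gStar A b).mul_mem
    (Subgroup.mem_sup_right (Subgroup.subset_closure ⟨a', ha', rfl⟩)) hd'')
    (Subgroup.mem_sup_left (conj_mem (hD hn) hd))

theorem elemComm_eq : elemComm A b = Subgroup.closure {g : G | ∃ a ∈ A, g = a * b⁻¹ * a⁻¹ * b} := by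
  refine le_antisymm ((Subgroup.closure_le _).2 ?_) ((Subgroup.closure_le _).2 ?_)
  · rintro _ ⟨a, ha, rfl⟩
    have := Subgroup.inv_mem (Subgroup.closure {g : G | ∃ a ∈ A, g = a * b⁻¹ * a⁻¹ * b})
      (Subgroup.subset_closure ⟨a, ha, rfl⟩)
    simpa [mul_assoc] using this
  · rintro _ ⟨a, ha, rfl⟩
    have := Subgroup.inv_mem (Subgroup.closure {g : G | ∃ a ∈ A, g = b⁻¹ * a * b * a⁻¹})
      (Subgroup.subset_closure ⟨a, ha, rfl⟩)
    simpa [elemComm, mul_assoc] using this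

theorem gStar_abelian [Finite G] {p : ℕ} [Fact p.Prime] (hG : IsPGroup p G)
    (h2 : p = 2 → IsMulCommutative B) : IsMulCommutative (gStar A b) := by
  set Y := Subgroup.closure {g : G | ∃ a ∈ A, g = a * b⁻¹ * a⁻¹ * b}
  set D := A ⊓ A.map (MulAut.conj b⁻¹).toMonoidHom
  have hYB : Y ≤ B := (Subgroup.closure_le _).2 (by rintro _ ⟨a, ha, rfl⟩; exact h.gen_mem_B ha)
  have hY : Y ≤ Subgroup.centralizer (Y : Set G) := by
    by_cases hp : p = 2
    · exact hYB.trans ((Subgroup.le_centralizer_iff_isMulCommutative.2 (h2 hp)).trans (Subgroup.centralizer_le hYB))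
    · refine Subgroup.commutator_eq_bot_iff_le_centralizer.1 (le_bot_iff.1 fun w hw => ?_)
      haveI := h.normalB
      have hAA : ⁅A, A⁆ = ⊥ := Subgroup.commutator_self_eq_bot_iff.2 h.abA
      have hYA : ⁅Y, A⁆ ≤ A := Subgroup.le_normalizer_iff_commutator_le_right.1
        (le_sup_right.trans h.gStar_le_normalizer)
      have hq : ⁅⁅elemComm A b, A⁆, A⁆ = ⊥ := by
        rw [h.elemComm_eq]
        exact le_bot_iff.1 ((Subgroup.commutator_mono hYA le_rfl).trans hAA.le)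
      have hw2 : w ^ 2 = 1 := commutator_sq_eq_one (B := B) Subgroup.le_normalizer_of_normal
        (le_bot_iff.1 ((Subgroup.commutator_mono h.derived le_rfl).trans hAA.le)) h.abA h.memB hq
        (h.elemComm_eq ▸ hw)
      obtain ⟨k, hk⟩ := IsPGroup.iff_orderOf.1 hG w
      rcases (Nat.dvd_prime Nat.prime_two).1 (orderOf_dvd_of_pow_eq_one hw2) with h1 | h1
      · exact Subgroup.mem_bot.2 (orderOf_eq_one_iff.1 h1)
      · have h2p : 2 ∣ p ^ k := by rw [← hk, h1]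
        exact absurd ((Nat.prime_dvd_prime_iff_eq Nat.prime_two Fact.out).1
          (Nat.prime_two.dvd_of_dvd_pow h2p)).symm hp
  have hDY : D ≤ Subgroup.centralizer (Y : Set G) := by
    rw [Subgroup.centralizer_closure]
    intro d hd
    refine Subgroup.mem_centralizer_iff.2 ?_
    rintro _ ⟨a, ha, rfl⟩
    have := ((h.comm_A hd.1 ha).mul_right (h.comm_mapA hd.2 (h.conj_mem_mapA (A.inv_mem ha)))).eq.symm
    simpa [mul_assoc] using this
  have hDD : D ≤ Subgroup.centralizer (D : Set G) :=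
    (inf_le_left.trans (Subgroup.le_centralizer_iff_isMulCommutative.2 h.abA)).trans
      (Subgroup.centralizer_le inf_le_left)
  refine Subgroup.le_centralizer_iff_isMulCommutative.1 ?_
  show D ⊔ Y ≤ Subgroup.centralizer ((D ⊔ Y : Subgroup G) : Set G)
  rw [centralizer_sup]
  exact sup_le (le_inf hDD hDY) (le_inf (le_centralizer_comm hDY) hY)

theorem pow_exponent [Finite G] {p : ℕ} [Fact p.Prime] (hG : IsPGroup p G) (hp : p ≠ 2) :
    Monoid.exponent (gStar A b) ∣ Monoid.exponent A := by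
  refine Monoid.exponent_dvd_of_forall_pow_eq_one fun x => ?_
  set e := Monoid.exponent A
  have hAe : ∀ a ∈ A, a ^ e = 1 := fun a ha => congrArg Subtype.val (Monoid.pow_exponent_eq_one (⟨a, ha⟩ : A))
  obtain ⟨k, hk⟩ := (isPGroup_iff_exponent_eq_pow).1 (hG.to_subgroup A)
  have hodd : Odd e := by rw [show e = p ^ k from hk]; exact ((Fact.out : p.Prime).odd_of_ne_two hp).pow
  obtain ⟨a, ha, d, hd, hxe⟩ := h.mem_form x.2
  set u := b⁻¹ * a⁻¹ * b
  have hu : u ∈ A.map (MulAut.conj b⁻¹).toMonoidHom := h.conj_mem_mapA (A.inv_mem ha)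
  have hue : u ^ e = 1 := by
    have := (conj_pow (i := e) (a := b⁻¹) (b := a⁻¹))
    rw [inv_inv] at this
    rw [this, hAe _ (A.inv_mem ha), mul_one, inv_mul_cancel]
  set z := ⁅u, a⁆
  have hz := h.commutator_mem hu ha
  have c1 : Commute z u := h.comm_mapA hz.2 hu
  have c2 : Commute z a := h.comm_A hz.1 ha
  have hua : ∀ n, u ^ n * a = a * u ^ n * z ^ n := by
    intro n
    induction n with
    | zero => simp
    | succ n ih =>
      have h1 : u * a = a * u * z := by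
        calc u * a = z * (a * u) := by simp only [z, commutatorElement_def]; group
          _ = _ := (c2.mul_right c1).eq
      calc u ^ (n + 1) * a = u ^ n * (u * a) := by rw [pow_succ]; group
        _ = (u ^ n * a) * u * z := by rw [h1]; group
        _ = a * u ^ n * (z ^ n * u) * z := by rw [ih]; group
        _ = _ := by rw [(c1.pow_left n).eq, pow_succ, pow_succ]; group
  have hpow : ∀ n, (a * u) ^ n = a ^ n * u ^ n * z ^ (n.choose 2) := by
    intro n
    induction n with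
    | zero => simp
    | succ n ih =>
      have hzc : Commute (z ^ n.choose 2) (a * u) := ((c2.pow_left _).mul_right (c1.pow_left _))
      calc (a * u) ^ (n + 1) = a ^ n * u ^ n * (z ^ n.choose 2 * (a * u)) := by rw [pow_succ, ih]; group
        _ = a ^ n * (u ^ n * a) * u * z ^ n.choose 2 := by rw [hzc.eq]; group
        _ = a ^ n * a * u ^ n * (z ^ n * u) * z ^ n.choose 2 := by rw [hua]; group
        _ = _ := by
          rw [(c1.pow_left n).eq, Nat.choose_succ_succ, Nat.choose_one_right, pow_add, pow_succ, pow_succ]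
          group
  apply Subtype.ext
  show (x : G) ^ e = 1
  have hde : Commute (a * u) d :=
    ((h.comm_A ha hd.1).mul_left (h.comm_mapA hu hd.2))
  rw [hxe, hde.mul_pow, hAe d hd.1, mul_one, hpow, hAe a ha, hue, one_mul, one_mul]
  have hdvd : e ∣ e.choose 2 := by
    rw [Nat.choose_two_right]
    obtain ⟨m, hm⟩ := hodd
    exact ⟨m, by rw [hm, Nat.add_sub_cancel, show (2 * m + 1) * (2 * m) = 2 * ((2 * m + 1) * m) by ring,
      Nat.mul_div_cancel_left _ two_pos]⟩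
  obtain ⟨m, hm⟩ := hdvd
  rw [hm, pow_mul, hAe z hz.1, one_pow]

end GSetup

theorem exists_mem_normalizer_normalizer [Finite G] {p : ℕ} [Fact p.Prime] (hG : IsPGroup p G) {A B : Subgroup G}
    [B.Normal] (hnot : ¬ B ≤ Subgroup.normalizer (A : Set G)) :
    ∃ b ∈ B, b ∈ Subgroup.normalizer ((Subgroup.normalizer (A : Set G)) : Set G) ∧
      b ∉ Subgroup.normalizer (A : Set G) := by
  set N := Subgroup.normalizer (A : Set G)
  have hnot' : N < N ⊔ B := lt_of_le_of_ne le_sup_left fun e => hnot (e ▸ le_sup_right)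
  haveI : Group.IsNilpotent ↥(N ⊔ B) := (hG.to_subgroup _).isNilpotent
  have hne : N.subgroupOf (N ⊔ B) < ⊤ :=
    lt_top_iff_ne_top.2 fun e => hnot'.not_ge (Subgroup.subgroupOf_eq_top.1 e)
  obtain ⟨⟨y, hy⟩, hy1, hy2⟩ := SetLike.exists_of_lt (Group.normalizerCondition_of_isNilpotent _ hne)
  rw [← Subgroup.subgroupOf_normalizer_eq le_sup_left] at hy1
  rw [Subgroup.mem_subgroupOf] at hy1 hy2
  obtain ⟨n, hn, b, hb, rfl⟩ := Subgroup.mem_sup_of_normal_right.1 hy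
  refine ⟨b, hb, ?_, fun h => hy2 (N.mul_mem hn h)⟩
  simpa using (Subgroup.normalizer (N : Set G)).mul_mem (Subgroup.inv_mem _ (Subgroup.le_normalizer hn)) hy1

/-- Packaged replacement: a `p`-subgroup `S` of any finite group, `p` odd, `B ≤ S` normalised by `S`. -/
theorem exists_replacement [Finite G] {p : ℕ} [Fact p.Prime] (hp : p ≠ 2) {S A B : Subgroup G}
    (hS : IsPGroup p S) (hAS : A ≤ S) (hBS : B ≤ S) (hSB : S ≤ Subgroup.normalizer (B : Set G))
    (hA : IsMulCommutative A) (hBA : ⁅B, B⁆ ≤ A) (hnot : ¬ B ≤ Subgroup.normalizer (A : Set G)) :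
    ∃ A' : Subgroup G, A' ≤ S ∧ IsMulCommutative A' ∧ Nat.card A' = Nat.card A ∧
      Monoid.exponent A' ∣ Monoid.exponent A ∧ ⁅B, B⁆ ≤ A' ∧ A ⊓ B < A' ⊓ B ∧ ¬ B ≤ A' ∧
      ∀ T : Subgroup G, A ≤ T → B ≤ Subgroup.normalizer (T : Set G) → A' ≤ T := by
  have hiS : Set.InjOn S.subtype (⊤ : Subgroup S) := S.subtype_injective.injOn
  set A₁ := A.subgroupOf S
  set B₁ := B.subgroupOf S
  have eA : A₁.map S.subtype = A := Subgroup.map_subgroupOf_eq_of_le hAS
  have eB : B₁.map S.subtype = B := Subgroup.map_subgroupOf_eq_of_le hBS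
  haveI hBn : B₁.Normal := (Subgroup.normal_subgroupOf_iff_le_normalizer hBS).2 hSB
  have hnot₁ : ¬ B₁ ≤ Subgroup.normalizer (A₁ : Set S) := fun h => hnot fun x hx => by
    have hx1 : (⟨x, hBS hx⟩ : S) ∈ B₁ := hx
    have := h hx1
    rwa [← Subgroup.subgroupOf_normalizer_eq hAS, Subgroup.mem_subgroupOf] at this
  obtain ⟨b, hb, hbN, hbA⟩ := exists_mem_normalizer_normalizer hS hnot₁
  have hA₁ : IsMulCommutative A₁ := (abelian_map_iff hiS le_top).1 (eA.symm ▸ hA)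
  have hder : ⁅B₁, B₁⁆ ≤ A₁ := Subgroup.map_le_iff_le_comap.1 (by rw [Subgroup.map_commutator, eB]; exact hBA)
  have h : GSetup A₁ B₁ b := ⟨hBn, hA₁, hder, hb, hbN⟩
  set A' := (gStar A₁ b).map S.subtype
  have hexp : ∀ H : Subgroup S, Monoid.exponent ↥(H.map S.subtype) = Monoid.exponent H := fun H =>
    Monoid.exponent_eq_of_mulEquiv (H.equivMapOfInjective S.subtype S.subtype_injective).symm
  refine ⟨A', Subgroup.map_subtype_le _, (abelian_map_iff hiS le_top).2 (h.gStar_abelian hS fun e => absurd e hp),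
    ?_, ?_, ?_, ?_, ?_, fun T hT hBT => ?_⟩
  · rw [Subgroup.card_map_of_injective S.subtype_injective, h.card_gStar, ← eA,
      Subgroup.card_map_of_injective S.subtype_injective]
  · have h1 := hexp A₁
    rw [eA] at h1
    rw [hexp, h1]
    exact h.pow_exponent hS hp
  · rw [← eB, ← Subgroup.map_commutator]; exact Subgroup.map_mono h.derived_le_gStar
  · rw [← eA, ← eB, ← Subgroup.map_inf _ _ _ S.subtype_injective, ← Subgroup.map_inf _ _ _ S.subtype_injective]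
    exact (Subgroup.map_lt_map_iff_of_injective S.subtype_injective).2 (h.inf_lt hbA)
  · rw [← eB]
    exact fun e => h.not_B_le hbA ((Subgroup.map_le_map_iff_of_injective S.subtype_injective).1 e)
  · have hbT : b ∈ Subgroup.normalizer ((T.subgroupOf S : Subgroup S) : Set S) :=
      Subgroup.le_normalizer_comap S.subtype (Subgroup.mem_comap.2 (hBT (Subgroup.mem_subgroupOf.1 hb)))
    exact Subgroup.map_le_iff_le_comap.2 (h.gStar_le (Subgroup.comap_mono hT) hbT)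

end Cfsg.Agent.PLocal
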