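import Cfsg.Agent.Lib.PLocal.FunctorFusion
import Cfsg.Agent.Lib.Transfer.Criteria

/-!
The least centric radical subgroup when one centric normalizer controls fusion (namespace `Cfsg.Agent.PLocal`).

* `Radical`, `exists_least_radical`
-/

namespace Cfsg.Agent.PLocal

open Subgroup
open scoped commutatorElement

universe u

variable {p : ℕ} {G : Type u} [Group G]

/-- `O_p (N(Q) / Q C(Q)) = 1`, phrased with subgroups of `G`. -/
def Radical (p : ℕ) (Q : Subgroup G) : Prop :=
  ∀ X : Subgroup G, X ≤ normalizer (Q : Set G) →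
    (∀ n ∈ normalizer (Q : Set G), X.map (MulAut.conj n).toMonoidHom = X) →
    Q ⊔ centralizer (Q : Set G) ≤ X → (∃ k : ℕ, (Q ⊔ centralizer (Q : Set G)).relIndex X = p ^ k) →
    X = Q ⊔ centralizer (Q : Set G)

variable [Finite G] [Fact p.Prime]

/-- A normal subgroup meets a Sylow subgroup in a Sylow subgroup. -/
theorem not_dvd_relIndex_inf (P : Sylow p G) {M C : Subgroup G} (hPM : (P : Subgroup G) ≤ M) (hCM : C ≤ M)
    (hC : M ≤ normalizer (C : Set G)) : ¬ p ∣ ((P : Subgroup G) ⊓ C).relIndex C := by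
  haveI : (C.subgroupOf M).Normal := Cores.subgroupOf_normal_of_le_normalizer hC
  have hd : ¬ p ∣ ((P : Subgroup G).subgroupOf M).index := fun hd =>
    P.not_dvd_index (hd.trans (relIndex_dvd_index_of_le hPM))
  have h2 : ¬ p ∣ ((P : Subgroup G).subgroupOf M).relIndex (C.subgroupOf M) := fun hd' =>
    hd (hd'.trans (Cores.relIndex_dvd_index_of_normal_right _ _))
  rwa [← relIndex_map_map_of_injective _ _ M.subtype_injective, subgroupOf_map_subtype, subgroupOf_map_subtype,
    inf_eq_left.2 hPM, inf_eq_left.2 hCM, ← inf_relIndex_right] at h2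

/-- Glauberman: control of fusion by the normalizer of a centric subgroup gives a least centric radical. -/
theorem exists_least_radical (P : Sylow p G) {K : Subgroup G} (hKP : K ≤ (P : Subgroup G))
    (hPK : (P : Subgroup G) ≤ normalizer (K : Set G))
    (hKc : (P : Subgroup G) ⊓ centralizer (K : Set G) ≤ K)
    (hctl : ∀ A ≤ (P : Subgroup G), ∀ g : G, A.map (MulAut.conj g).toMonoidHom ≤ (P : Subgroup G) →
      Realized (normalizer (K : Set G)) A g) :
    ∃ Q ≤ (P : Subgroup G), (P : Subgroup G) ≤ normalizer (Q : Set G) ∧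
      (P : Subgroup G) ⊓ centralizer (Q : Set G) ≤ Q ∧ Radical p Q ∧
      (∀ R ≤ (P : Subgroup G), ¬ p ∣ (R ⊓ centralizer (R : Set G)).relIndex (centralizer (R : Set G)) →
        Radical p R → Q ≤ R) ∧
      ∀ A ≤ (P : Subgroup G), ∀ g : G, A.map (MulAut.conj g).toMonoidHom ≤ (P : Subgroup G) →
        Realized (normalizer (Q : Set G)) A g := by
  set M := normalizer (K : Set G)
  set L := K ⊔ centralizer (K : Set G)
  have hLM : L ≤ M := sup_le le_normalizer (centralizer_le_normalizer _)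
  have hMC : M ≤ normalizer (centralizer (K : Set G) : Set G) := normalizer_le_normalizer_centralizer K
  have hML : M ≤ normalizer (L : Set G) := fun m hm => by
    rw [mem_normalizer_iff_map_eq, Subgroup.map_sup, mem_normalizer_iff_map_eq.1 hm,
      mem_normalizer_iff_map_eq.1 (hMC hm)]
  haveI hLn : (L.subgroupOf M).Normal := Cores.subgroupOf_normal_of_le_normalizer hML
  haveI hCn : ((centralizer (K : Set G)).subgroupOf M).Normal := Cores.subgroupOf_normal_of_le_normalizer hMC
  set Hm := (Cfsg.pCore p (↥M ⧸ L.subgroupOf M)).comap (QuotientGroup.mk' (L.subgroupOf M))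
  haveI hHm : Hm.Normal := (Cores.pCore_normal p _).comap _
  set H := Hm.map M.subtype
  have hLH : L ≤ H := fun x hx => ⟨⟨x, hLM hx⟩, by
    show QuotientGroup.mk' _ _ ∈ Cfsg.pCore p _
    rw [QuotientGroup.mk'_apply, (QuotientGroup.eq_one_iff _).2 (mem_subgroupOf.2 hx)]
    exact one_mem _, rfl⟩
  have hHM : H ≤ M := map_subtype_le _
  have hMH : M ≤ normalizer (H : Set G) := le_normalizer_iff.2 fun m hm => by
    rintro _ ⟨x, hx, rfl⟩
    exact ⟨⟨m, hm⟩ * x * (⟨m, hm⟩ : ↥M)⁻¹, hHm.conj_mem x hx _, rfl⟩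
  set Q := (P : Subgroup G) ⊓ H
  have hQp : IsPGroup p Q := P.2.to_le inf_le_left
  have hKQ : K ≤ Q := le_inf hKP (le_sup_left.trans hLH)
  have hCQ : centralizer (Q : Set G) ≤ centralizer (K : Set G) := centralizer_le hKQ
  have hPQ : (P : Subgroup G) ≤ normalizer (Q : Set G) := fun x hx => mem_normalizer_iff.2 fun y =>
    and_congr (mem_normalizer_iff.1 (le_normalizer hx) y) (mem_normalizer_iff.1 (hMH (hPK hx)) y)
  have hQc : (P : Subgroup G) ⊓ centralizer (Q : Set G) ≤ Q := (inf_le_inf_left _ hCQ).trans (hKc.trans hKQ)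
  -- `H = Q L`
  have hQidx : ¬ p ∣ Q.relIndex H := not_dvd_relIndex_inf P hPK hHM hMH
  have hLidx : IsPGroup p ↥(Cfsg.pCore p (↥M ⧸ L.subgroupOf M)) := Cores.isPGroup_pCore p _
  have hHQ : H ≤ Q ⊔ L := by
    have h1 : (Q ⊔ L).relIndex H ∣ Q.relIndex H := relIndex_dvd_of_le_left H le_sup_left
    have h2 : (Q ⊔ L).relIndex H ∣ L.relIndex H := relIndex_dvd_of_le_left H le_sup_right
    have h3 : L.relIndex H = Nat.card ↥(Cfsg.pCore p (↥M ⧸ L.subgroupOf M)) := by
      have e : ((L.subgroupOf M).map M.subtype).relIndex H = (L.subgroupOf M).relIndex Hm :=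
        relIndex_map_map_of_injective _ _ M.subtype_injective
      have e2 := relIndex_ker (K := Hm) (QuotientGroup.mk' (L.subgroupOf M))
      rw [map_comap_eq_self_of_surjective (QuotientGroup.mk'_surjective _), QuotientGroup.ker_mk'] at e2
      rwa [map_subgroupOf_eq_of_le hLM, e2] at e
    obtain ⟨k, hk⟩ := IsPGroup.iff_card.1 hLidx
    rw [h3, hk] at h2
    obtain ⟨j, -, hj⟩ := (Nat.dvd_prime_pow Fact.out).1 h2
    rcases j with _ | j
    · exact relIndex_eq_one.1 (by rw [hj, pow_zero])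
    · exact absurd ((hj ▸ dvd_pow_self p (Nat.succ_ne_zero j)).trans h1) hQidx
  -- the `p'`-part of `C(K)`
  set C := centralizer (K : Set G)
  have hCM : C ≤ M := centralizer_le_normalizer _
  let PC : Sylow p C := (P.isPGroup'.comap_subtype (K := C)).toSylow (by
    have := not_dvd_relIndex_inf P hPK hCM hMC
    rwa [inf_relIndex_right] at this)
  have hPCK : ∀ x ∈ (PC : Subgroup C), (x : G) ∈ K := fun x hx => hKc ⟨hx, x.2⟩
  have hcompl : Cfsg.HasNormalPComplement p C := by
    refine Transfer.hasNormalPComplement_of_normalizer_le_centralizer PC fun y _ => mem_centralizer_iff.2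
      fun x hx => Subtype.ext ?_
    exact mem_centralizer_iff.1 y.2 x (hPCK x hx)
  set O := (Cfsg.pResidual p C).map C.subtype
  have hOC : O ≤ C := map_subtype_le _
  have hOM : O ≤ M := hOC.trans hCM
  have hOcard : (Nat.card O).Coprime p := by
    rw [card_map_of_injective C.subtype_injective]
    exact Transfer.hasNormalPComplement_iff_coprime.1 hcompl
  have hMO : M ≤ normalizer (O : Set G) := le_normalizer_iff.2 fun m hm => by
    rintro _ ⟨x, hx, rfl⟩
    haveI : (C.subgroupOf M).Normal := hCn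
    let e : C ≃* C :=
      { toFun := fun c => ⟨m * c * m⁻¹, (mem_normalizer_iff.1 (hMC hm) c).1 c.2⟩
        invFun := fun c => ⟨m⁻¹ * c * m, (mem_normalizer_iff.1 (hMC hm) _).2 (by
          rw [show m * (m⁻¹ * (c : G) * m) * m⁻¹ = (c : G) by group]; exact c.2)⟩
        left_inv := fun c => Subtype.ext (by simp [mul_assoc])
        right_inv := fun c => Subtype.ext (by simp [mul_assoc])
        map_mul' := fun c d => Subtype.ext (by simp [mul_assoc]) }
    exact ⟨e x, (characteristic_iff_map_eq.1 (inferInstance : (Cfsg.pResidual p C).Characteristic) e).le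
      ⟨x, hx, rfl⟩, rfl⟩
  haveI hOn : (O.subgroupOf M).Normal := Cores.subgroupOf_normal_of_le_normalizer hMO
  have hQM : Q ≤ M := inf_le_left.trans hPK
  have hQO : ∀ o ∈ O, o ∈ Q → o = 1 := fun o ho hoQ => by
    obtain ⟨k, hk⟩ := IsPGroup.iff_orderOf.1 hQp ⟨o, hoQ⟩
    rw [Subgroup.orderOf_mk] at hk
    rw [← orderOf_eq_one_iff]
    refine Nat.eq_one_of_dvd_coprimes (a := p ^ k) (b := Nat.card O) ((hOcard.symm).pow_left k) hk.dvd ?_
    rw [← Subgroup.orderOf_mk o ho]
    exact orderOf_dvd_natCard _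
  have hCKO : C ≤ K ⊔ O := fun c hc => by
    obtain ⟨a, ha, b, hb, hab⟩ := mem_sup_of_normal_right.1
      ((Transfer.sylow_sup_eq_top PC).ge (mem_top (⟨c, hc⟩ : C)))
    rw [show c = (a : G) * (b : G) from congrArg Subtype.val hab.symm]
    exact mul_mem (mem_sup_left (hPCK a ha)) (mem_sup_right ⟨b, hb, rfl⟩)
  have hHQO : H ≤ Q ⊔ O := hHQ.trans (sup_le le_sup_left
    (sup_le (hKQ.trans le_sup_left) (hCKO.trans (sup_le (hKQ.trans le_sup_left) le_sup_right))))
  have hdec : ∀ x ∈ H, ∃ q ∈ Q, ∃ o ∈ O, x = q * o := fun x hx => by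
    have h1 : x ∈ ((Q ⊔ O : Subgroup G) : Set G) := hHQO hx
    rw [coe_mul_of_left_le_normalizer_right Q O (hQM.trans hMO)] at h1
    obtain ⟨q, hq, o, ho, rfl⟩ := h1
    exact ⟨q, hq, o, ho, rfl⟩
  -- `M = O N_M(Q)`
  have hMdec : ∀ m ∈ M, ∃ o ∈ O, ∃ n ∈ M, n ∈ normalizer (Q : Set G) ∧ m = o * n := by
    intro m hm
    let PD : Sylow p ↥Hm :=
      ((hQp.comap_subtype (K := M)).comap_subtype (K := Hm)).toSylow (by
        have e : Q.relIndex H = (Q.subgroupOf M).relIndex Hm := by
          conv_lhs => rw [← map_subgroupOf_eq_of_le hQM]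
          exact relIndex_map_map_of_injective _ _ M.subtype_injective
        rw [e] at hQidx
        exact hQidx)
    have hfr := Sylow.normalizer_sup_eq_top PD
    rw [show (PD : Subgroup ↥Hm).map Hm.subtype = Q.subgroupOf M from map_subgroupOf_eq_of_le
      (fun x hx => by
        obtain ⟨y, hy, hyx⟩ := (inf_le_right : Q ≤ H) (mem_subgroupOf.1 hx)
        rwa [← Subtype.ext hyx])] at hfr
    obtain ⟨n, hn, h, hh, hnh⟩ := mem_sup_of_normal_right.1 (hfr.ge (mem_top (⟨m, hm⟩ : M)))
    have hnQ : (n : G) ∈ normalizer (Q : Set G) := by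
      have := le_normalizer_map M.subtype ⟨n, hn, rfl⟩
      rwa [map_subgroupOf_eq_of_le hQM] at this
    obtain ⟨q, hq, o, ho, hqo⟩ := hdec h ⟨h, hh, rfl⟩
    refine ⟨n * q * o * (n * q : G)⁻¹,
      (mem_normalizer_iff.1 (hMO (mul_mem n.2 (hQM hq))) o).1 ho, n * q, mul_mem n.2 (hQM hq),
      mul_mem hnQ (le_normalizer hq), ?_⟩
    rw [show m = (n : G) * (h : G) from congrArg Subtype.val hnh.symm, hqo]
    group
  -- control by `N(Q)`
  have hctlQ : ∀ A ≤ (P : Subgroup G), ∀ g : G, A.map (MulAut.conj g).toMonoidHom ≤ (P : Subgroup G) →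
      Realized (M ⊓ normalizer (Q : Set G)) A g := by
    intro A hA g hg
    obtain ⟨m, hm, hmq⟩ := hctl A hA g hg
    obtain ⟨o, ho, n, hn, hnQ, rfl⟩ := hMdec m hm
    let PM : Sylow p M := P.subtype hPK
    obtain ⟨c, hc, hcn, hle⟩ := exists_adjust (G := ↥M) PM (C := O.subgroupOf M)
      (M := (normalizer (Q : Set G)).subgroupOf M) (Q := A.subgroupOf M)
      (comap_mono hPQ) (comap_mono hA) (c := ⟨o, hOM ho⟩) (n := ⟨n, hn⟩) ho hnQ (by
        rintro _ ⟨a, ha, rfl⟩
        show o * n * (a : G) * (o * n)⁻¹ ∈ (P : Subgroup G)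
        rw [hmq a ha]
        exact hg ⟨a, ha, rfl⟩)
    refine ⟨(c : G) * n, ⟨mul_mem c.2 hn, hcn⟩, fun a ha => ?_⟩
    set x := (c : G) * n * a * ((c : G) * n)⁻¹
    have hx : x ∈ (P : Subgroup G) := hle ⟨⟨a, hPK (hA ha)⟩, ha, rfl⟩
    have hy : g * a * g⁻¹ ∈ (P : Subgroup G) := hg ⟨a, ha, rfl⟩
    set d := (c : G) * o⁻¹
    have hd : d ∈ O := O.mul_mem hc (O.inv_mem ho)
    have hxd : x = d * (g * a * g⁻¹) * d⁻¹ := by
      rw [← hmq a ha]; simp only [x, d]; group
    have hmem : x * (g * a * g⁻¹)⁻¹ ∈ O := by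
      rw [hxd, show d * (g * a * g⁻¹) * d⁻¹ * (g * a * g⁻¹)⁻¹ =
        d * ((g * a * g⁻¹) * d⁻¹ * (g * a * g⁻¹)⁻¹) by group]
      exact O.mul_mem hd ((mem_normalizer_iff.1 (hMO (hPK hy)) _).1 (O.inv_mem hd))
    obtain ⟨k, hk⟩ := IsPGroup.iff_orderOf.1 P.2 ⟨_, (P : Subgroup G).mul_mem hx ((P : Subgroup G).inv_mem hy)⟩
    rw [Subgroup.orderOf_mk] at hk
    refine mul_inv_eq_one.1 (orderOf_eq_one_iff.1 ?_)
    refine Nat.eq_one_of_dvd_coprimes (a := p ^ k) (b := Nat.card O) ((hOcard.symm).pow_left k) hk.dvd ?_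
    rw [← Subgroup.orderOf_mk _ hmem]
    exact orderOf_dvd_natCard _
  refine ⟨Q, inf_le_left, hPQ, hQc, ?_, ?_, fun A hA g hg => (hctlQ A hA g hg).mono inf_le_right le_rfl⟩
  · -- radical
    intro X hXN hXn hWX ⟨k, hk⟩
    set W := Q ⊔ centralizer (Q : Set G)
    refine le_antisymm (fun x hx => ?_) hWX
    obtain ⟨m, hm, hmq⟩ := hctlQ Q inf_le_left x (by
      rw [mem_normalizer_iff_map_eq.1 (hXN hx)]; exact inf_le_left)
    have hc : m⁻¹ * x ∈ centralizer (Q : Set G) := mem_centralizer_iff.2 fun q hq => by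
      calc q * (m⁻¹ * x) = m⁻¹ * (m * q * m⁻¹) * x := by group
        _ = m⁻¹ * x * q := by rw [hmq q hq]; group
    have hmX : m ∈ X := by
      simpa using X.mul_mem hx (X.inv_mem (hWX (mem_sup_right hc)))
    have hmH : m ∈ H := by
      haveI hWn : (W.subgroupOf X).Normal := Cores.subgroupOf_normal_of_le_normalizer fun n hn => by
        rw [mem_normalizer_iff_map_eq, Subgroup.map_sup, mem_normalizer_iff_map_eq.1 (hXN hn),
          mem_normalizer_iff_map_eq.1 (normalizer_le_normalizer_centralizer Q (hXN hn))]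
      set Y := ((X ⊓ M) ⊔ L).subgroupOf M
      haveI hYn : Y.Normal := Cores.subgroupOf_normal_of_le_normalizer fun n hn => by
        obtain ⟨o, ho, n', hn', hnQ', rfl⟩ := hMdec n hn
        refine mul_mem (le_normalizer (mem_sup_right (mem_sup_right (hOC ho)))) ?_
        rw [mem_normalizer_iff_map_eq, Subgroup.map_sup, Subgroup.map_inf _ _ _ (MulAut.conj n').injective,
          hXn n' hnQ', mem_normalizer_iff_map_eq.1 (le_normalizer hn' : n' ∈ normalizer (M : Set G)),
          mem_normalizer_iff_map_eq.1 (hML hn')]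
      have hp' : ∀ z : G, ∀ hz : z ∈ M, z ∈ H →
          ∃ j : ℕ, (QuotientGroup.mk' (L.subgroupOf M) ⟨z, hz⟩) ^ p ^ j = 1 := by
        rintro _ hz ⟨y, hy, rfl⟩
        obtain ⟨j, hj⟩ := hLidx ⟨_, hy⟩
        exact ⟨j, congrArg Subtype.val hj⟩
      have hYp : IsPGroup p ↥(Y.map (QuotientGroup.mk' (L.subgroupOf M))) := by
        rintro ⟨_, ⟨y, hym⟩, hy, rfl⟩
        have hy' : y ∈ (((X ⊓ M) ⊔ L : Subgroup G) : Set G) := hy
        rw [coe_mul_of_left_le_normalizer_right (X ⊓ M) L (inf_le_right.trans hML)] at hy'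
        obtain ⟨z, ⟨hzX, hzM⟩, l, hl, rfl⟩ := hy'
        have hzW : z ^ p ^ k ∈ W := by
          have := Subgroup.pow_index_mem (W.subgroupOf X) ⟨z, hzX⟩
          rw [show (W.subgroupOf X).index = p ^ k from hk] at this
          exact this
        have hzM' : z ^ p ^ k ∈ M := pow_mem hzM _
        obtain ⟨j, hj⟩ := hp' _ hzM' (sup_le inf_le_right ((hCQ.trans le_sup_right).trans hLH) hzW)
        refine ⟨k + j, Subtype.ext ?_⟩
        have heq : (QuotientGroup.mk' (L.subgroupOf M)) (⟨z * l, hym⟩ : M) =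
            QuotientGroup.mk' (L.subgroupOf M) (⟨z, hzM⟩ : M) := by
          refine QuotientGroup.eq.2 ?_
          rw [mem_subgroupOf]
          simpa using hl
        show (QuotientGroup.mk' (L.subgroupOf M)) (⟨z * l, hym⟩ : M) ^ p ^ (k + j) = 1
        rw [heq, pow_add, pow_mul, ← map_pow]
        exact hj
      have hle : Y.map (QuotientGroup.mk' (L.subgroupOf M)) ≤ Cfsg.pCore p (↥M ⧸ L.subgroupOf M) :=
        Cores.le_pCore (hYn.map _ (QuotientGroup.mk'_surjective _)) hYp
      exact ⟨⟨m, hm.1⟩, hle ⟨⟨m, hm.1⟩, mem_subgroupOf.2 (mem_sup_left ⟨hmX, hm.1⟩), rfl⟩, rfl⟩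
    obtain ⟨q, hq, o, ho, rfl⟩ := hdec m hmH
    have hoQ : o ∈ normalizer (Q : Set G) := by
      simpa using mul_mem (inv_mem (le_normalizer hq)) hm.2
    have hoC : o ∈ centralizer (Q : Set G) := mem_centralizer_iff.2 fun q' hq' => by
      have h1 : o * q' * o⁻¹ * q'⁻¹ ∈ Q := Q.mul_mem ((mem_normalizer_iff.1 hoQ q').1 hq') (Q.inv_mem hq')
      have h2 : o * q' * o⁻¹ * q'⁻¹ ∈ O := by
        rw [show o * q' * o⁻¹ * q'⁻¹ = o * (q' * o⁻¹ * q'⁻¹) by group]
        exact O.mul_mem ho ((mem_normalizer_iff.1 (hMO (hQM hq')) _).1 (O.inv_mem ho))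
      exact (mul_inv_eq_iff_eq_mul.1 (mul_inv_eq_one.1 (hQO _ h2 h1))).symm
    rw [show x = q * o * ((q * o)⁻¹ * x) by group]
    exact mul_mem (mul_mem (mem_sup_left hq) (mem_sup_right hoC)) (mem_sup_right hc)
  · -- least
    intro R hRP hRc hRrad
    set T := Q ⊓ normalizer (R : Set G)
    set W := R ⊔ centralizer (R : Set G)
    have hWN : W ≤ normalizer (R : Set G) := sup_le le_normalizer (centralizer_le_normalizer _)
    have hNW : normalizer (R : Set G) ≤ normalizer (W : Set G) := fun n hn => by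
      rw [mem_normalizer_iff_map_eq, Subgroup.map_sup, mem_normalizer_iff_map_eq.1 hn,
        mem_normalizer_iff_map_eq.1 (normalizer_le_normalizer_centralizer R hn)]
    have hX := hRrad (T ⊔ W) (sup_le inf_le_right hWN) (fun n hn => by
      obtain ⟨h, hh, hhq⟩ := hctlQ R hRP n (by rw [mem_normalizer_iff_map_eq.1 hn]; exact hRP)
      have hhR : h ∈ normalizer (R : Set G) := by
        rw [mem_normalizer_iff_map_eq, map_conj_congr hhq, mem_normalizer_iff_map_eq.1 hn]
      have hc : h⁻¹ * n ∈ centralizer (R : Set G) := mem_centralizer_iff.2 fun q hq => by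
        calc q * (h⁻¹ * n) = h⁻¹ * (h * q * h⁻¹) * n := by group
          _ = h⁻¹ * n * q := by rw [hhq q hq]; group
      have hhX : h ∈ normalizer ((T ⊔ W : Subgroup G) : Set G) := by
        rw [mem_normalizer_iff_map_eq, Subgroup.map_sup, Subgroup.map_inf _ _ _ (MulAut.conj h).injective,
          mem_normalizer_iff_map_eq.1 hh.2, mem_normalizer_iff_map_eq.1 (hNW hhR),
          mem_normalizer_iff_map_eq.1 (le_normalizer hhR : h ∈ normalizer
            ((normalizer (R : Set G) : Subgroup G) : Set G))]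
      rw [← mem_normalizer_iff_map_eq, show n = h * (h⁻¹ * n) by group]
      exact mul_mem hhX (le_normalizer (mem_sup_right (mem_sup_right hc)))) le_sup_right (by
      haveI : (W.subgroupOf (T ⊔ W)).Normal :=
        Cores.subgroupOf_normal_of_le_normalizer ((sup_le inf_le_right hWN).trans hNW)
      obtain ⟨e, he⟩ := IsPGroup.iff_card.1 (hQp.to_le (inf_le_left : T ≤ Q))
      have hd : W.relIndex (T ⊔ W) ∣ p ^ e := by
        rw [← he]
        set π := (QuotientGroup.mk' (W.subgroupOf (T ⊔ W))).comp (inclusion (le_sup_left : T ≤ T ⊔ W))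
        have hπ : Function.Surjective π := by
          intro z
          obtain ⟨⟨z, hz⟩, rfl⟩ := QuotientGroup.mk_surjective z
          have hz' : z ∈ ((T ⊔ W : Subgroup G) : Set G) := hz
          rw [coe_mul_of_left_le_normalizer_right T W (inf_le_right.trans hNW)] at hz'
          obtain ⟨t, ht, w, hw, rfl⟩ := hz'
          refine ⟨⟨t, ht⟩, QuotientGroup.eq.2 ?_⟩
          rw [mem_subgroupOf]
          simpa using hw
        exact Subgroup.card_dvd_of_surjective π hπ
      obtain ⟨j, -, hj⟩ := (Nat.dvd_prime_pow Fact.out).1 hd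
      exact ⟨j, hj⟩)
    have hTR : T ≤ R := by
      intro t ht
      have ht' : t ∈ ((R ⊔ centralizer (R : Set G) : Subgroup G) : Set G) := hX.le (mem_sup_left ht)
      rw [coe_mul_of_left_le_normalizer_right R (centralizer (R : Set G))
        (le_normalizer.trans (normalizer_le_normalizer_centralizer R))] at ht'
      obtain ⟨r, hr, c, hc, rfl⟩ := ht'
      have hcP : c ∈ (P : Subgroup G) := by
        simpa using (P : Subgroup G).mul_mem ((P : Subgroup G).inv_mem (hRP hr)) ((inf_le_left : Q ≤ (P : Subgroup G)) ht.1)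
      set Z := R ⊓ centralizer (R : Set G)
      set D := (P : Subgroup G) ⊓ centralizer (R : Set G)
      have hZD : Z ≤ D := inf_le_inf_right _ hRP
      have h1 : Z.relIndex D ∣ Z.relIndex (centralizer (R : Set G)) :=
        ⟨_, (relIndex_mul_relIndex Z D _ hZD inf_le_right).symm⟩
      obtain ⟨e, he⟩ := IsPGroup.iff_card.1 (P.2.to_le (inf_le_left : D ≤ (P : Subgroup G)))
      have h2 : Z.relIndex D ∣ p ^ e := he ▸ Subgroup.relIndex_dvd_card _ _
      obtain ⟨j, -, hj⟩ := (Nat.dvd_prime_pow Fact.out).1 h2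
      rcases j with _ | j
      · exact R.mul_mem hr ((relIndex_eq_one.1 (by rw [hj, pow_zero]) : D ≤ Z) ⟨hcP, hc⟩).1
      · exact absurd ((hj ▸ dvd_pow_self p (Nat.succ_ne_zero j)).trans h1) hRc
    by_contra hQR
    have hlt : R < R ⊔ Q := lt_of_le_of_ne le_sup_left fun e => hQR (e.ge.trans' le_sup_right)
    obtain ⟨x, hx, hxR⟩ := SetLike.exists_of_lt
      (normalizer_inf_of_lt (P.2.to_le (sup_le hRP inf_le_left)) hlt)
    have hx' : x ∈ ((R ⊔ Q : Subgroup G) : Set G) := hx.2
    rw [coe_mul_of_left_le_normalizer_right R Q (hRP.trans hPQ)] at hx'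
    obtain ⟨r, hr, q, hq, rfl⟩ := hx'
    exact hxR (R.mul_mem hr (hTR ⟨hq, by simpa using mul_mem (inv_mem (le_normalizer hr)) hx.1⟩))

end Cfsg.Agent.PLocal
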