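import Cfsg.Agent.Lib.PLocal.CharFunctor
import Cfsg.Agent.S2763

/-!
In `Qd(p)` no family of isomorphism-invariant `p`-functors controls strong fusion
(namespace `Cfsg.Agent.PLocal`).

* `char_of_charPFunctor`, `centralizer_ker_block_le`, `not_familyControls_qd`
-/

namespace Cfsg.Agent.PLocal

open Subgroup
open QdOver (block tr)
open Cfsg (IsCharPFunctor inducedFunctor)

universe u

variable {p : ℕ}

theorem char_of_charPFunctor {W : ∀ (Q : Type u) [Group Q], Subgroup Q} (hW : IsCharPFunctor.{u} p W)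
    {P : Type u} [Group P] [Finite P] (hP : IsPGroup p P) : (W P).Characteristic :=
  characteristic_iff_map_eq.2 fun φ => hW.2 P P hP φ

theorem characteristic_map_equiv_aut {A B : Type*} [Group A] [Group B] (e : A ≃* B) (K : Subgroup A)
    [hK : K.Characteristic] : (K.map e.toMonoidHom).Characteristic :=
  characteristic_iff_map_eq.2 fun φ => by
    conv_rhs => rw [← characteristic_iff_map_eq.1 hK ((e.trans φ).trans e.symm)]
    rw [Subgroup.map_map, Subgroup.map_map]
    congr 1
    ext x
    simp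

/-- The translations are self-centralising. -/
theorem centralizer_ker_block_le {F : Type*} [Field F] :
    centralizer ((block (F := F)).ker : Set ↥(Cfsg.qdOver F)) ≤ (block (F := F)).ker := by
  intro g hg
  have h : ∀ a b : F, tr a b * g = g * tr a b := fun a b =>
    mem_centralizer_iff.1 hg _ (MonoidHom.mem_ker.2 (QdOver.block_tr a b))
  have key : ∀ a b : F, ((block g).1 0 0 * a + (block g).1 0 1 * b = a) ∧
      ((block g).1 1 0 * a + (block g).1 1 1 * b = b) := fun a b => by
    have h1 : g * tr a b * g⁻¹ = tr a b := by rw [← h a b, mul_inv_cancel_right]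
    set u := tr (QdOver.ent g 0 2) (QdOver.ent g 1 2)
    set v := tr ((block g).1 0 0 * a + (block g).1 0 1 * b) ((block g).1 1 0 * a + (block g).1 1 1 * b)
    have h2 : v = tr a b := by
      have h3 : u * v * u⁻¹ = tr a b := by
        rw [← h1]
        conv_rhs => rw [QdOver.decomp g]
        simp only [u, v, ← QdOver.emb_conj_tr]
        group
      have h4 : u * v = v * u := by
        simp only [u, v, QdOver.tr_mul, add_comm]
      rw [← h3, h4, mul_inv_cancel_right]
    have := congrArg (fun M => (QdOver.ent M 0 2, QdOver.ent M 1 2)) h2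
    simpa [v, QdOver.ent, tr] using this
  have h10 := key 1 0
  have h01 := key 0 1
  simp only [mul_one, mul_zero, add_zero, zero_add] at h10 h01
  refine MonoidHom.mem_ker.2 (Subtype.ext ?_)
  ext i j
  fin_cases i <;> fin_cases j <;> simp [h10, h01]

variable [Fact p.Prime]

/-- **`Qd(p)` is the obstruction**, for any family of isomorphism-invariant functors. -/
theorem not_familyControls_qd {X : Type u} [Group X] [Finite X] (e : X ≃* ↥(Cfsg.qd p))
    {𝓦 : Set (∀ (Q : Type u) [Group Q], Subgroup Q)} (h𝓦 : ∀ W ∈ 𝓦, IsCharPFunctor.{u} p W) :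
    ¬ Cfsg.FamilyControlsStrongFusionIn p ((fun W => inducedFunctor (G := X) W) '' 𝓦) ⊤ := by
  rintro ⟨T, -, hTp, hTd, hT⟩
  rw [relIndex_top_right] at hTd
  set P : Sylow p X := hTp.toSylow hTd
  set S : Sylow p ↥(Cfsg.qd p) := P.mapSurjective (f := e.toMonoidHom) e.surjective
  have hS : (S : Subgroup ↥(Cfsg.qd p)) = T.map e.toMonoidHom := Sylow.coe_mapSurjective _ P
  set V : Subgroup ↥(Cfsg.qd p) := (block (F := ZMod p)).ker with hV
  have hVeq : Cfsg.pCore p ↥(Cfsg.qd p) = V := QdOver.pCore_eq_ker (F := ZMod p) (p := p)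
  have hker : V ≤ (S : Subgroup ↥(Cfsg.qd p)) := hVeq ▸ Cores.pCore_le_sylow S
  have hTne : T ≠ ⊥ := by
    intro hbot
    rw [hS, hbot, Subgroup.map_bot] at hker
    have h1 : tr (1 : ZMod p) 0 = 1 :=
      mem_bot.1 (hker (MonoidHom.mem_ker.2 (QdOver.block_tr _ _)))
    have h2 := congrArg (fun M => QdOver.ent M 0 2) h1
    simp [QdOver.ent, tr] at h2
  have hN : ∀ W ∈ 𝓦, ∀ x ∈ normalizer ((inducedFunctor W T : Subgroup X) : Set X),
      e x ∈ normalizer ((S : Subgroup ↥(Cfsg.qd p)) : Set ↥(Cfsg.qd p)) := by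
    intro W hW x hx
    have hchar := char_of_charPFunctor (h𝓦 W hW) hTp
    set φ : ↥T ≃* ↥(S : Subgroup ↥(Cfsg.qd p)) :=
      (T.equivMapOfInjective e.toMonoidHom e.injective).trans (MulEquiv.subgroupCongr hS.symm)
    haveI := characteristic_map_equiv_aut φ (W ↥T)
    have hne : (W ↥T).map φ.toMonoidHom ≠ ⊥ := fun h => (h𝓦 W hW).1 ↥T hTp
      ((Subgroup.nontrivial_iff_ne_bot T).2 hTne)
      ((Subgroup.map_eq_bot_iff_of_injective _ φ.injective).1 h)
    have hmap : ((W ↥T).map φ.toMonoidHom).map (S : Subgroup ↥(Cfsg.qd p)).subtype =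
        (inducedFunctor W T).map e.toMonoidHom := by
      simp only [inducedFunctor, Subgroup.map_map]
      rfl
    rw [← (S2763.result S _ hne inferInstance).1, hmap]
    exact le_normalizer_map e.toMonoidHom ⟨x, hx, rfl⟩
  refine (S2763.result S ⊤ (fun h => ?_) inferInstance).2 (eq_top_iff.2 fun y _ => ?_)
  · rw [← Subgroup.map_eq_bot_iff_of_injective _ (S : Subgroup ↥(Cfsg.qd p)).subtype_injective,
      ← MonoidHom.range_eq_map, range_subtype, hS,
      Subgroup.map_eq_bot_iff_of_injective _ e.injective] at h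
    exact hTne h
  obtain ⟨h, rfl⟩ := e.surjective y
  have hOT : Cfsg.pCore p X ≤ T := Cores.pCore_le_sylow P
  obtain ⟨n, c, h0, hc, -, hce⟩ := hT (Cfsg.pCore p X : Set X) h trivial hOT (by
    rintro _ ⟨a, ha, rfl⟩
    exact hOT ((Cores.pCore_normal p X).conj_mem a ha h))
  have hmem : ∀ i, e (c i) ∈ normalizer ((S : Subgroup ↥(Cfsg.qd p)) : Set ↥(Cfsg.qd p)) := by
    intro i
    induction i using Fin.induction with
    | zero => rw [h0, map_one]; exact one_mem _
    | succ i ih =>
      obtain ⟨_, ⟨W, hW, rfl⟩, hWc⟩ := hc i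
      have := mul_mem (hN W hW _ hWc.2) ih
      rwa [← map_mul, inv_mul_cancel_right] at this
  set x := c (Fin.last n)
  have hcent : e (x⁻¹ * h) ∈ centralizer (V : Set ↥(Cfsg.qd p)) := by
    refine mem_centralizer_iff.2 fun v hv => ?_
    rw [← hVeq] at hv
    obtain ⟨a, ha, rfl⟩ := (Cores.pCore_map_mulEquiv e p).ge hv
    show e a * e (x⁻¹ * h) = e (x⁻¹ * h) * e a
    rw [← map_mul, ← map_mul]
    congr 1
    have h1 := hce a ha
    calc a * (x⁻¹ * h) = x⁻¹ * (x * a * x⁻¹) * h := by group
      _ = _ := by rw [h1]; group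
  have := mul_mem (hmem (Fin.last n)) (le_normalizer (hker (centralizer_ker_block_le hcent)))
  rwa [← map_mul, mul_inv_cancel_left] at this

end Cfsg.Agent.PLocal
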