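import Cfsg.Agent.Lib.PLocal.WSubgroup
import Cfsg.Agent.Lib.PLocal.Complements

/-!
`W(S)` and normal `p`-complements (namespace `Cfsg.Agent.PLocal`).

* `map_stableNormalClosure`, `map_WOf`: `W` commutes with isomorphisms and injective-on maps
* `isActionPStable_of_pStableOn`: `IsActionPStable` from stability on normal `p`-subgroups
* `thompson_W_complement`: through `N(W(S))`
-/

namespace Cfsg.Agent.PLocal

open Subgroup

universe u

variable {p : ℕ}

theorem map_omegaCenterThompson {S S' : Type u} [Group S] [Group S'] (e : S ≃* S') :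
    (Cfsg.omegaCenterThompson p S).map e.toMonoidHom = Cfsg.omegaCenterThompson p S' := by
  unfold Cfsg.omegaCenterThompson
  rw [map_omegaOne _ e.injective.injOn, map_inf_centralizer_self _ e.injective.injOn, map_thompsonSubgroup]

theorem stableNormalClosure_le_map {S S' : Type u} [Group S] [Group S'] [Finite S] [Fact p.Prime] (e : S ≃* S') :
    Cfsg.stableNormalClosure p S' ≤ (Cfsg.stableNormalClosure p S).map e.toMonoidHom := by
  refine sInf_le ⟨?_, fun H _ τ hτ => ?_⟩
  · refine le_trans ((closure_le _).2 fun z hz => ?_) (map_mono omegaCenter_le_W)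
    refine ⟨e.symm z, mem_omegaOne (mem_center_iff.2 fun g => e.injective ?_) ?_, e.apply_symm_apply z⟩
    · rw [map_mul, map_mul, e.apply_symm_apply]; exact mem_center_iff.1 hz.1 (e g)
    · rw [← map_pow, hz.2, map_one]
  · rw [map_map]
    refine W_map_normal _ ?_
    obtain ⟨hinj, hfin, ⟨PH, hPH⟩, hc, hJ, hst⟩ := hτ
    refine ⟨hinj.comp e.injective, hfin, ⟨PH, hPH.trans ?_⟩, hc, ?_, fun V hV hle => hst V (hle.trans ?_)⟩
    · ext y
      simp only [MonoidHom.mem_range, MonoidHom.comp_apply]
      exact ⟨fun ⟨x, hx⟩ => ⟨e.symm x, by simpa using hx⟩, fun ⟨x, hx⟩ => ⟨_, hx⟩⟩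
    · rwa [← map_map, map_thompsonSubgroup]
    · rw [← map_map, map_omegaCenterThompson]

theorem map_stableNormalClosure {S S' : Type u} [Group S] [Group S'] [Finite S] [Finite S'] [Fact p.Prime]
    (e : S ≃* S') :
    (Cfsg.stableNormalClosure p S).map e.toMonoidHom = Cfsg.stableNormalClosure p S' := by
  refine le_antisymm ?_ (stableNormalClosure_le_map e)
  refine (map_mono (stableNormalClosure_le_map (p := p) e.symm)).trans (le_of_eq ?_)
  rw [map_map]
  convert map_id _ using 2
  ext x
  simp

/-- `W` of a subgroup, inside the ambient group. -/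
abbrev WOf (p : ℕ) {G : Type u} [Group G] (K : Subgroup G) : Subgroup G :=
  (Cfsg.stableNormalClosure p ↥K).map K.subtype

theorem map_WOf {G G' : Type u} [Group G] [Group G'] [Finite G] [Finite G'] [Fact p.Prime] (f : G →* G')
    (K : Subgroup G) (hf : Set.InjOn f K) : (WOf p K).map f = WOf p (K.map f) := by
  let e : ↥K ≃* ↥(K.map f) := MulEquiv.ofBijective (f.subgroupMap K)
    ⟨fun a b h => Subtype.ext (hf a.2 b.2 (congrArg Subtype.val h)), f.subgroupMap_surjective K⟩
  unfold WOf
  rw [← map_stableNormalClosure e, map_map, map_map]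
  rfl

theorem isActionPStable_of_pStableOn {G : Type u} [Group G] [Finite G] [Fact p.Prime]
    (h1 : ∀ (P : Subgroup G) [P.Normal], IsPGroup p P → Cfsg.IsPStableOn p P)
    (h2 : ∀ (N : Subgroup G) [N.Normal] (P : Subgroup (G ⧸ N)) [P.Normal], IsPGroup p P → Cfsg.IsPStableOn p P)
    (h3 : ∀ (M : Subgroup G) (P : Subgroup M) [P.Normal], IsPGroup p P → Cfsg.IsPStableOn p P) :
    Cfsg.IsActionPStable p G := by
  refine ⟨fun V _ hV => h1 V (elemAb_isPGroup hV), ?_, fun S V _ hV => h3 _ V ?_⟩
  · set P := Cfsg.pCore p G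
    haveI hN : ((frattini ↥P).map P.subtype).Normal := Cores.map_subtype_normal_of_characteristic P _
    set N := (frattini ↥P).map P.subtype
    set f := QuotientGroup.mk' N
    have hf : Function.Surjective f := QuotientGroup.mk'_surjective N
    haveI : (P.map f).Normal := (Cores.pCore_normal p G).map f hf
    intro a ha
    set C := centralizer (P.map f : Set (G ⧸ N))
    set g := (QuotientGroup.mk' C).comp f
    have hmem : g a ∈ Cfsg.pCore p ((G ⧸ N) ⧸ C) := by
      refine h2 N (P.map f) ((Cores.isPGroup_pCore p G).map f) (f a) (le_bot_iff.1 ?_)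
      rw [← MonoidHom.map_zpowers, ← map_commutator, ← map_commutator, le_bot_iff, Subgroup.map_eq_bot_iff,
        QuotientGroup.ker_mk']
      exact ha
    have hK : Cfsg.sectionKernel P N = g.ker := by
      rw [Cfsg.sectionKernel, ← MonoidHom.comap_ker, QuotientGroup.ker_mk']
    refine ⟨(Cfsg.pCore p _).comap g, (Cores.pCore_normal p _).comap g, ?_, ?_, hmem⟩
    · rw [hK]; exact ker_le_comap g _
    · obtain ⟨k, hk⟩ := IsPGroup.iff_card.1 (Cores.isPGroup_pCore p ((G ⧸ N) ⧸ C))
      refine ⟨k, ?_⟩
      rw [hK, relIndex_ker, map_comap_eq_self_of_surjective (f := g) ((QuotientGroup.mk'_surjective C).comp hf), hk]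
  · have h4 : IsPGroup p (V.map (normalizer (Cfsg.thompsonSubgroupOf p (S : Subgroup G) : Set G)).subtype) :=
      S.2.to_le (hV.trans (map_subtype_le _))
    exact h4.of_equiv (V.equivMapOfInjective _ (subtype_injective _)).symm

/-- The normal `p`-complement theorem through `N(W(S))`. -/
theorem thompson_W_complement {G : Type u} [Group G] [Finite G] [Fact p.Prime] (hp : p ≠ 2) (S : Sylow p G)
    (h : Cfsg.HasNormalPComplement p ↥(normalizer (WOf p (S : Subgroup G) : Set G))) :
    Cfsg.HasNormalPComplement p G := by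
  have sc : Scheme.{u} p fun G _ S => Cfsg.HasNormalPComplement p ↥(normalizer (WOf p S : Set G)) := by
    refine ⟨?_, ?_, ?_, ?_⟩
    · intro G _ _ R hR hloc
      have hmap : (Cfsg.stableNormalClosure p ↥(R : Subgroup G)).map (R : Subgroup G).subtype = WOf p (R : Subgroup G) :=
        rfl
      rw [← hmap]
      refine hloc _ (characteristic_iff_map_eq.2 fun e => map_stableNormalClosure e) fun e => ?_
      obtain ⟨z, hz, hz1, hzp⟩ := exists_central_of_order_p R.2 hR
      have h1 : (⟨z, hz.1⟩ : (R : Subgroup G)) ∈ Cfsg.stableNormalClosure p ↥(R : Subgroup G) :=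
        omegaCenter_le_W (mem_omegaOne (mem_center_iff.2 fun g => Subtype.ext (mem_centralizer_iff.1 hz.2 g g.2))
          (Subtype.ext hzp))
      rw [e, mem_bot] at h1
      exact hz1 (congrArg Subtype.val h1)
    · intro G _ _ S M hSM h
      have hmap : (WOf p ((S : Subgroup G).subgroupOf M)).map M.subtype = WOf p (S : Subgroup G) := by
        rw [map_WOf _ _ M.subtype_injective.injOn, map_subgroupOf_eq_of_le hSM]
      refine Transfer.hasNormalPComplement_of_injective h
        ((M.subtype.comp (normalizer (WOf p ((S : Subgroup G).subgroupOf M) : Set M)).subtype).codRestrict _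
          fun x => ?_) fun a b hab => ?_
      · rw [← hmap]; exact le_normalizer_map M.subtype ⟨x, x.2, rfl⟩
      · refine Subtype.ext (Subtype.ext ?_)
        have := congrArg Subtype.val hab
        exact this
    · intro G G' _ _ _ f hf hker S h
      haveI : Finite G' := Finite.of_surjective f hf
      rw [← map_WOf f _ (injOn_of_pGroup f hker S.2), normalizer_map_eq f hf hker (S.2.to_le (map_subtype_le _))]
      exact hnpc_of_map h
    · intro G _ _ S hr h
      refine hr.not_complement (hnpc_of_normal_normalizer (W_normal ?_ hr.centralizer_le S) h)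
      exact isActionPStable_of_pStableOn (fun P _ hP => hr.shape.pStableOn hp P hP)
        (fun N _ P _ hP => (hr.shape.map _ (QuotientGroup.mk'_surjective N)).pStableOn hp P hP)
        (fun M P _ hP => (hr.shape.subgroup M).pStableOn hp P hP)
  exact sc.hasNormalPComplement S h

end Cfsg.Agent.PLocal
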