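import Cfsg.Agent.Lib.PLocal.Offender
import Cfsg.Agent.Lib.PLocal.Functor
import Cfsg.Agent.Lib.PLocal.ZJ
import Cfsg.Agent.Lib.HallHigman.PSolvable

/-!
Stellmacher's subgroup `W(S)` (namespace `Cfsg.Agent.PLocal`).

* `omegaCenter_le_W`, `W_le_omegaCenterThompson`, `W_map_normal`: the defining properties
* `quadratic_centralizes_W`: no element of `S` acts quadratically and nontrivially on `W(S)`
* `W_normal`: `W(S)` is normal in an action `p`-stable group with `C(O_p) ≤ O_p`
-/

namespace Cfsg.Agent.PLocal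

open Subgroup
open scoped commutatorElement

universe u

variable {p : ℕ} {S : Type u} [Group S]

theorem omegaCenter_le_omegaCenterThompson [Finite S] [Fact p.Prime] :
    Cfsg.omegaOne p (center S) ≤ Cfsg.omegaCenterThompson p S := by
  refine (closure_le _).2 fun z hz => mem_omegaOne ?_ hz.2
  have h := central_le_centerThompsonOf (p := p) (H := (⊤ : Subgroup S)) (z := z)
    ⟨mem_top z, mem_centralizer_iff.2 fun g _ => mem_center_iff.1 hz.1 g⟩ hz.2
  rwa [Cfsg.centerThompsonOf, thompsonSubgroupOf_top] at h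

theorem omegaCenterThompson_map_normal {H : Type u} [Group H] (τ : S →* H) (h : Cfsg.IsStableEmbedding p τ) :
    ((Cfsg.omegaCenterThompson p S).map τ).Normal := by
  obtain ⟨hinj, _, _, _, hJ, _⟩ := h
  refine normalizer_eq_top_iff.1 (top_le_iff.1 fun g _ => ?_)
  rw [mem_normalizer_iff_map_eq]
  set c := (MulAut.conj g).toMonoidHom
  have hc : Function.Injective c := (MulAut.conj g).injective
  unfold Cfsg.omegaCenterThompson
  rw [map_omegaOne τ hinj.injOn, map_omegaOne c hc.injOn, map_inf_centralizer_self τ hinj.injOn,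
    map_inf_centralizer_self c hc.injOn,
    mem_normalizer_iff_map_eq.1 (le_normalizer_of_normal (K := ⊤) (mem_top g))]

theorem W_le_omegaCenterThompson [Finite S] [Fact p.Prime] :
    Cfsg.stableNormalClosure p S ≤ Cfsg.omegaCenterThompson p S :=
  sInf_le ⟨omegaCenter_le_omegaCenterThompson, fun _ _ τ h => omegaCenterThompson_map_normal τ h⟩

theorem omegaCenter_le_W : Cfsg.omegaOne p (center S) ≤ Cfsg.stableNormalClosure p S :=
  le_sInf fun _ hW => hW.1

theorem W_map_normal {H : Type u} [Group H] [Finite S] [Fact p.Prime] (τ : S →* H)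
    (h : Cfsg.IsStableEmbedding p τ) : ((Cfsg.stableNormalClosure p S).map τ).Normal := by
  refine ⟨?_⟩
  rintro _ ⟨w, hw, rfl⟩ g
  obtain ⟨w', -, hw'⟩ := (omegaCenterThompson_map_normal τ h).conj_mem _
    ⟨w, W_le_omegaCenterThompson hw, rfl⟩ g
  refine ⟨w', mem_sInf.2 fun W hW => ?_, hw'⟩
  obtain ⟨w'', hw''W, hw''⟩ := (hW.2 H τ h).conj_mem _ ⟨w, mem_sInf.1 hw W hW, rfl⟩ g
  rwa [h.1 (hw'.trans hw''.symm)]

/-- Elementwise quadratic action gives quadratic action of the cyclic subgroup. -/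
theorem quadratic_of_forall {G : Type*} [Group G] [Finite G] {W : Subgroup G} {x : G}
    (hW : x ∈ normalizer (W : Set G)) (h : ∀ w ∈ W, Commute x (x * w * x⁻¹ * w⁻¹)) :
    ⁅⁅W, zpowers x⁆, zpowers x⁆ = ⊥ := by
  refine commutator_eq_bot_iff_le_centralizer.2 ?_
  rw [commutator_comm]
  refine commutator_le.2 fun a ha w hw => ?_
  rw [← SetLike.mem_coe, zpowers_eq_closure, centralizer_closure, SetLike.mem_coe]
  obtain ⟨n, rfl⟩ := (isOfFinOrder_of_finite x).mem_powers_iff_mem_zpowers.2 ha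
  refine mem_centralizer_singleton_iff.2 ?_
  rw [commutatorElement_def]
  induction n generalizing w with
  | zero => simp
  | succ n ih =>
    have h1 : Commute x (x * w * x⁻¹ * w⁻¹) := h w hw
    have h2 : x ^ (n + 1) * w * (x ^ (n + 1))⁻¹ * w⁻¹
        = x ^ n * (x * w * x⁻¹ * w⁻¹) * (x ^ n)⁻¹ * (x ^ n * w * (x ^ n)⁻¹ * w⁻¹) := by
      rw [pow_succ]; group
    have h3 : x ^ n * (x * w * x⁻¹ * w⁻¹) * (x ^ n)⁻¹ = x * w * x⁻¹ * w⁻¹ := by
      rw [(h1.pow_left n).eq, mul_inv_cancel_right]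
    show x ^ (n + 1) * w * (x ^ (n + 1))⁻¹ * w⁻¹ * x = x * (x ^ (n + 1) * w * (x ^ (n + 1))⁻¹ * w⁻¹)
    rw [h2, h3]
    exact (h1.mul_right (ih w hw ((Subgroup.zpowers x).pow_mem (mem_zpowers x) n)).symm).symm.eq

/-- **No element of `S` acts quadratically and nontrivially on `W(S)`.** -/
theorem quadratic_centralizes_W [Finite S] [Fact p.Prime] {x : S}
    (hx : ∀ w ∈ Cfsg.stableNormalClosure p S, Commute x (x * w * x⁻¹ * w⁻¹)) :
    x ∈ centralizer (Cfsg.stableNormalClosure p S : Set S) := by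
  set W := Cfsg.stableNormalClosure p S
  set Q := {y : S | ∀ w ∈ W, Commute y (y * w * y⁻¹ * w⁻¹)}
  set K := W ⊓ centralizer Q
  suffices hWK : W ≤ K by
    exact mem_centralizer_iff.2 fun w hw => (mem_centralizer_iff.1 (hWK hw).2 x hx).symm
  refine sInf_le ⟨le_inf omegaCenter_le_W ((closure_le _).2 fun z hz => mem_centralizer_iff.2
    fun y _ => mem_center_iff.1 hz.1 y), fun H _ τ hτ => ?_⟩
  haveI := W_map_normal τ hτ
  obtain ⟨hinj, hfin, ⟨PH, hPH⟩, _, _, hst⟩ := hτ
  haveI : Finite H := hfin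
  set W' := W.map τ
  refine ⟨?_⟩
  rintro _ ⟨k, hk, rfl⟩ h
  obtain ⟨k', hk'W, hk'⟩ := (inferInstance : W'.Normal).conj_mem _ ⟨k, hk.1, rfl⟩ h
  refine ⟨k', ⟨hk'W, mem_centralizer_iff.2 fun s hs => hinj ?_⟩, hk'⟩
  rw [map_mul, map_mul]
  -- `y`, the conjugate of `τ s`, is quadratic on `W'`
  set y := h⁻¹ * τ s * h
  have hy : ∀ w' ∈ W', Commute y (y * w' * y⁻¹ * w'⁻¹) := by
    intro w' hw'
    obtain ⟨v, hv, hv'⟩ := (inferInstance : W'.Normal).conj_mem w' hw' h
    have e1 : Commute (τ s) (τ s * τ v * (τ s)⁻¹ * (τ v)⁻¹) := by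
      have := (hs v hv).map τ
      simpa using this
    have e2 := e1.map (MulAut.conj h⁻¹).toMonoidHom
    have e3 : (MulAut.conj h⁻¹).toMonoidHom (τ s) = y := by simp [y]
    have e4 : (MulAut.conj h⁻¹).toMonoidHom (τ v) = w' := by rw [hv']; simp [mul_assoc]
    rw [map_mul, map_mul, map_mul, map_inv _ (τ s), map_inv _ (τ v), e3, e4] at e2
    exact e2
  have hmem := hst W' (map_mono W_le_omegaCenterThompson) y
    (quadratic_of_forall (le_normalizer_of_normal (K := ⊤) (mem_top y)) hy)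
  obtain ⟨z, hz, hzy⟩ := Cores.pCore_le_sylow (PH.mapSurjective (QuotientGroup.mk'_surjective _)) hmem
  have hzy' : z⁻¹ * y ∈ centralizer (W' : Set H) := QuotientGroup.eq.1 hzy
  obtain ⟨t, rfl⟩ : z ∈ τ.range := hPH ▸ hz
  have ht : t ∈ Q := by
    intro w hw
    have hc : ∀ v ∈ W', (τ t) * v * (τ t)⁻¹ = y * v * y⁻¹ := fun v hv => by
      have h5 := mem_centralizer_iff.1 hzy' v hv
      calc τ t * v * (τ t)⁻¹ = τ t * (v * ((τ t)⁻¹ * y)) * y⁻¹ := by group
        _ = τ t * (((τ t)⁻¹ * y) * v) * y⁻¹ := by rw [h5]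
        _ = y * v * y⁻¹ := by group
    have hw' : τ w ∈ W' := mem_map_of_mem τ hw
    have hd : y * τ w * y⁻¹ * (τ w)⁻¹ ∈ W' :=
      W'.mul_mem ((inferInstance : W'.Normal).conj_mem _ hw' y) (W'.inv_mem hw')
    refine commute_iff_eq _ _ |>.2 (hinj ?_)
    simp only [map_mul, map_inv]
    rw [hc _ hw', ← mul_inv_eq_iff_eq_mul, hc _ hd]
    rw [(hy _ hw').eq, mul_inv_cancel_right]
  have h6 : Commute y (τ k) := by
    have h7 : Commute ((τ t)⁻¹ * y) (τ k) := (mem_centralizer_iff.1 hzy' _ (mem_map_of_mem τ hk.1)).symm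
    have h8 : Commute (τ t) (τ k) := (commute_iff_eq _ _).2 (by
      rw [← map_mul, ← map_mul, mem_centralizer_iff.1 hk.2 t ht])
    have := h8.mul_left h7
    rwa [mul_inv_cancel_left] at this
  have h9 := h6.map (MulAut.conj h).toMonoidHom
  have e5 : (MulAut.conj h).toMonoidHom y = τ s := by simp [y, mul_assoc]
  have e6 : (MulAut.conj h).toMonoidHom (τ k) = τ k' := by rw [hk']; simp
  rw [e5, e6] at h9
  exact h9.eq

/-- **`W(S)` is normal** in an action `p`-stable group of characteristic `p`. -/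
theorem W_normal {G : Type u} [Group G] [Finite G] [Fact p.Prime] (hst : Cfsg.IsActionPStable p G)
    (hc : centralizer (Cfsg.pCore p G : Set G) ≤ Cfsg.pCore p G) (S : Sylow p G) :
    ((Cfsg.stableNormalClosure p ↥(S : Subgroup G)).map (S : Subgroup G).subtype).Normal := by
  obtain ⟨hst1, hst2, hst3⟩ := hst
  set P := Cfsg.pCore p G
  have hPp : IsPGroup p P := Cores.isPGroup_pCore p G
  have hPS : P ≤ (S : Subgroup G) := Cores.pCore_le_sylow S
  set W0 := Cfsg.stableNormalClosure p ↥(S : Subgroup G)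
  set W := W0.map (S : Subgroup G).subtype
  set J := Cfsg.thompsonSubgroupOf p (S : Subgroup G)
  set N := normalizer (J : Set G)
  have hSN : (S : Subgroup G) ≤ N := le_normalizer.trans (normalizer_le_normalizer_thompsonSubgroupOf _)
  set τ := inclusion hSN
  have hτ : Cfsg.IsStableEmbedding p τ := by
    refine ⟨inclusion_injective hSN, inferInstance, ⟨S.subtype hSN, ?_⟩, ?_, ?_, fun V hVn hV => ?_⟩
    · rw [Sylow.coe_subtype, inclusion_range]
    · intro c hc'
      have hn : (P.subgroupOf N).Normal := (Cores.pCore_normal p G).comap _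
      have hle : P.subgroupOf N ≤ Cfsg.pCore p N := Cores.le_pCore hn hPp.comap_subtype
      refine hle (mem_subgroupOf.2 (hc (mem_centralizer_iff.2 fun z hz => ?_)))
      exact congrArg Subtype.val (mem_centralizer_iff.1 hc' ⟨z, hSN (hPS hz)⟩ (hle (mem_subgroupOf.2 hz)))
    · have e : ((Cfsg.thompsonSubgroup p ↥(S : Subgroup G)).map τ) = J.subgroupOf N := by
        refine map_injective N.subtype_injective ?_
        rw [map_map, subtype_comp_inclusion, subgroupOf_map_subtype, inf_eq_left.2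
          ((thompsonSubgroupOf_le _).trans hSN)]
        rfl
      rw [e]
      exact normal_in_normalizer
    · refine hst3 S V ((map_mono hV).trans ?_)
      rw [map_map, subtype_comp_inclusion]
  have hWS : W ≤ (S : Subgroup G) := map_subtype_le _
  have hNW : N ≤ normalizer (W : Set G) := by
    have h1 := W_map_normal τ hτ
    have h2 : (W0.map τ).map N.subtype = W := by rw [map_map, subtype_comp_inclusion]
    rw [← h2]
    refine le_trans ?_ (le_normalizer_map N.subtype)
    rw [normalizer_eq_top_iff.2 h1, ← MonoidHom.range_eq_map, range_subtype]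
  have hWΩ : W ≤ (Cfsg.omegaCenterThompson p ↥(S : Subgroup G)).map (S : Subgroup G).subtype :=
    map_mono W_le_omegaCenterThompson
  have hWe : Cfsg.IsElementaryAbelian p W := by
    refine elemAb_map _ (elemAb_mono ?_ W_le_omegaCenterThompson)
    exact omegaOne_elemAb (inf_le_right.trans (centralizer_le inf_le_left))
  have hWA : W ≤ sInf (maxIn (elemAb p) (S : Subgroup G)) := by
    rw [sInf_maxIn_elemAb_eq_omegaOne_center, ← thompsonSubgroupOf_eq]
    refine hWΩ.trans (le_of_eq ?_)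
    unfold Cfsg.omegaCenterThompson
    rw [map_omegaOne _ (subtype_injective _).injOn, map_inf_centralizer_self _ (subtype_injective _).injOn]
    rfl
  have hquadS : ∀ x ∈ (S : Subgroup G), (∀ w ∈ W, Commute x (x * w * x⁻¹ * w⁻¹)) →
      x ∈ centralizer (W : Set G) := by
    intro x hx hq
    have h1 := quadratic_centralizes_W (p := p) (x := (⟨x, hx⟩ : (S : Subgroup G)))
      fun w hw => Subtype.ext (hq w ⟨w, hw, rfl⟩)
    refine mem_centralizer_iff.2 ?_
    rintro _ ⟨w, hw, rfl⟩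
    exact congrArg Subtype.val (mem_centralizer_iff.1 h1 w hw)
  -- `W ≤ O_p(G)`
  have hWP : W ≤ P := by
    intro a ha
    have hF : ((frattini ↥P).map P.subtype).Normal := Cores.map_subtype_normal_of_characteristic P _
    set F := (frattini ↥P).map P.subtype
    obtain ⟨D, hDn, hKD, ⟨k, hk⟩, haD⟩ := hst2 a (by
      refine le_trans ((commutator_mono (commutator_mono le_rfl (zpowers_le.2 ha)) (zpowers_le.2 ha)).trans ?_) bot_le
      refine (commutator_mono (?_ : ⁅P, W⁆ ≤ W) le_rfl).trans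
        (commutator_eq_bot_iff_le_centralizer.2 (elemAb_le_centralizer hWe)).le
      exact le_normalizer_iff_commutator_le_right.1 (hPS.trans (hSN.trans hNW)))
    set K := Cfsg.sectionKernel P F
    have hKP : K ≤ P := by
      intro g hg
      refine HallHigman.mem_pCore_of_commutator_mem_frattini hc fun x hx => (QuotientGroup.eq_one_iff _).1 ?_
      have h1 := mem_centralizer_iff.1 hg _ (mem_map_of_mem (QuotientGroup.mk' F) hx)
      show (QuotientGroup.mk' F) (g * x * g⁻¹ * x⁻¹) = 1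
      rw [map_mul, map_mul, map_mul, ← h1, map_inv, map_inv, mul_inv_cancel_right, mul_inv_cancel]
    obtain ⟨j, hj⟩ := IsPGroup.iff_card.1 (hPp.to_le hKP)
    refine Cores.le_pCore hDn (IsPGroup.of_card (n := j + k) ?_) haD
    rw [← card_mul_index (K.subgroupOf D), Nat.card_congr (subgroupOfEquivOfLe hKD).toEquiv, hj, pow_add]
    rw [← hk]; rfl
  -- the normal closure `V`
  set V := normalClosure (W : Set G)
  haveI : V.Normal := normalClosure_normal
  have hcommW : ∀ (g : G), ∀ w ∈ W, ∀ v ∈ W, Commute (g * v * g⁻¹) w := by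
    intro g w hw v hv
    set x := g * v * g⁻¹
    have hxP : x ∈ P := (Cores.pCore_normal p G).conj_mem v (hWP hv) g
    refine (mem_centralizer_iff.1 (hquadS x (hPS hxP) fun u hu => ?_) w hw).symm
    -- the commutator lies in `W^g`
    have h1 : g⁻¹ * (u * x⁻¹ * u⁻¹) * g ∈ W := by
      have h2 : g⁻¹ * u * g ∈ P := by simpa using (Cores.pCore_normal p G).conj_mem u (hWP hu) g⁻¹
      have h3 := conj_mem (hNW (hSN (hPS h2))) (W.inv_mem hv)
      convert h3 using 1
      simp only [x]; group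
    have h4 : x * u * x⁻¹ * u⁻¹ = g * (v * (g⁻¹ * (u * x⁻¹ * u⁻¹) * g)) * g⁻¹ := by simp only [x]; group
    rw [h4]
    have h5 : Commute v (v * (g⁻¹ * (u * x⁻¹ * u⁻¹) * g)) :=
      elemAb_comm hWe hv (W.mul_mem hv h1)
    have := h5.map (MulAut.conj g).toMonoidHom
    simpa [x] using this
  have hVe : Cfsg.IsElementaryAbelian p V := by
    refine elemAb_closure (fun x hx y hy => ?_) fun x hx => ?_
    · obtain ⟨a, ha, hax⟩ := Group.mem_conjugatesOfSet_iff.1 hx
      obtain ⟨g, rfl⟩ := isConj_iff.1 hax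
      obtain ⟨b, hb, hby⟩ := Group.mem_conjugatesOfSet_iff.1 hy
      obtain ⟨h, rfl⟩ := isConj_iff.1 hby
      have h1 := (hcommW (h⁻¹ * g) b hb a ha).map (MulAut.conj h).toMonoidHom
      refine Eq.trans ?_ (h1.eq.trans ?_) <;> simp [mul_assoc]
    · obtain ⟨a, ha, hax⟩ := Group.mem_conjugatesOfSet_iff.1 hx
      obtain ⟨g, rfl⟩ := isConj_iff.1 hax
      rw [conj_pow, hWe.2 a ha, mul_one, mul_inv_cancel]
  have hVS : V ≤ (S : Subgroup G) := (normalClosure_le_normal (N := P) hWP).trans hPS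
  set C := centralizer (V : Set G)
  set D := (Cfsg.pCore p (G ⧸ C)).comap (QuotientGroup.mk' C)
  haveI : D.Normal := (Cores.pCore_normal p _).comap _
  have hquad : ∀ a : G, ⁅⁅V, zpowers a⁆, zpowers a⁆ = ⊥ → a ∈ D := fun a ha => hst1 V hVe a ha
  have hqA : ∀ A : Subgroup G, ⁅⁅V, A⁆, A⁆ = ⊥ → A ≤ D := fun A hA a ha => hquad a (le_bot_iff.1
    ((commutator_mono (commutator_mono le_rfl (zpowers_le.2 ha)) (zpowers_le.2 ha)).trans hA.le))
  have hDW : D ≤ normalizer (W : Set G) := by
    intro d hd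
    obtain ⟨s, hs, hsd⟩ := Cores.pCore_le_sylow (S.mapSurjective (QuotientGroup.mk'_surjective C)) hd
    have hcC : s⁻¹ * d ∈ C := QuotientGroup.eq.1 hsd
    have hcW : s⁻¹ * d ∈ normalizer (W : Set G) :=
      centralizer_le_normalizer _ (centralizer_le (s := (W : Set G)) (t := V) subset_normalClosure hcC)
    simpa using mul_mem (hNW (hSN hs)) hcW
  set T := (S : Subgroup G) ⊓ D
  let PD : Sylow p D := (S.isPGroup'.comap_subtype (K := D)).toSylow fun hd =>
    S.not_dvd_index (hd.trans (Cores.relIndex_dvd_index_of_normal_right _ D))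
  have hfr := Sylow.normalizer_sup_eq_top PD
  rw [show (PD : Subgroup D).map D.subtype = T from subgroupOf_map_subtype _ _] at hfr
  obtain ⟨A₀, hA₀⟩ := exists_maxIn (Q := elemAb p) elemAb_bot (S : Subgroup G)
  obtain ⟨A₁, hA₁, hA₁max⟩ := Set.exists_max_image (maxIn (elemAb p) (S : Subgroup G))
    (fun A : Subgroup G => Nat.card ↥(A ⊓ V)) (Set.toFinite _) ⟨A₀, hA₀⟩
  have hA₁D : A₁ ≤ D := by
    refine hqA A₁ (by_contra fun hne => ?_)
    obtain ⟨A', hA', hlt, -⟩ := exists_larger_intersection hA₁ hVe hVS le_normalizer_of_normal hne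
    exact hlt.ne (eq_of_le_of_card_le hlt.le (hA₁max A' hA'))
  have hTS : maxIn (elemAb p) T ⊆ maxIn (elemAb p) (S : Subgroup G) :=
    maxIn_subset hA₁ (le_inf hA₁.1 hA₁D) inf_le_left
  set Z₁ := sInf (maxIn (elemAb p) T)
  have hVZ₁ : V ≤ Z₁ := by
    refine (closure_le _).2 fun x hx => ?_
    obtain ⟨z, hz, hzx⟩ := Group.mem_conjugatesOfSet_iff.1 hx
    obtain ⟨g, rfl⟩ := isConj_iff.1 hzx
    obtain ⟨n, hn, l, hl, rfl⟩ := mem_sup_of_normal_right.1 (hfr.symm ▸ mem_top g)
    have h2 := conj_mem ((goodClass_elemAb p).normalizer_le_normalizer_sInf T hn)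
      (sInf_le_sInf hTS (hWA (conj_mem (hDW hl) hz)))
    have e : n * l * z * (n * l)⁻¹ = n * (l * z * l⁻¹) * n⁻¹ := by group
    rw [SetLike.mem_coe, e]
    exact h2
  have hall : ∀ A ∈ maxIn (elemAb p) (S : Subgroup G), A ≤ D := by
    by_contra hn
    obtain ⟨A, ⟨hA, hAD⟩, hmax⟩ := Set.exists_max_image {A | A ∈ maxIn (elemAb p) (S : Subgroup G) ∧ ¬ A ≤ D}
      (fun A : Subgroup G => Nat.card ↥(A ⊓ V)) (Set.toFinite _) (by
        by_contra h; exact hn fun A hA => by_contra fun h' => h ⟨A, hA, h'⟩)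
    obtain ⟨A', hA', hlt, hA'eq⟩ := exists_larger_intersection hA hVe hVS le_normalizer_of_normal
      fun h => hAD (hqA A h)
    have hA'D : A' ≤ D := by_contra fun h => hlt.ne (eq_of_le_of_card_le hlt.le (hmax A' ⟨hA', h⟩))
    have hVA' : V ≤ A' := hVZ₁.trans (sInf_le (maxIn_of_mem_le hA' (le_inf hA'.1 hA'D) inf_le_left))
    refine hAD (le_trans ?_ (show C ≤ D from fun c hc' => ?_))
    · refine le_centralizer_of_sup_fixed hVe le_normalizer_of_normal
        (fun a ha => ⟨1, by rw [pow_one, hA.2.1.2 a ha]; exact one_mem _⟩) fun v hv => ?_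
      set F0 := ⁅V, A⁆ ⊔ V ⊓ centralizer (A : Set G)
      have hF0V : F0 ≤ V := sup_le (commutator_le_left V A) inf_le_left
      have h1 := hVA' hv
      have hn0 : F0 ≤ normalizer ((A ⊓ centralizer ((⁅V, A⁆ : Subgroup G) : Set G) : Subgroup G) : Set G) :=
        (sup_le (le_centralizer_comm inf_le_right) (inf_le_right.trans (centralizer_le inf_le_left))).trans
          (centralizer_le_normalizer _)
      rw [hA'eq, ← SetLike.mem_coe, coe_mul_of_right_le_normalizer_left _ _ hn0] at h1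
      obtain ⟨a, ha, f, hf, rfl⟩ := Set.mem_mul.1 h1
      refine F0.mul_mem (mem_sup_right ⟨?_, elemAb_le_centralizer hA.2.1 ha.1⟩) hf
      simpa using V.mul_mem hv (V.inv_mem (hF0V hf))
    · refine mem_comap.2 ?_
      rw [show QuotientGroup.mk' C c = 1 from (QuotientGroup.eq_one_iff c).2 hc']
      exact one_mem _
  have hJT : J = Cfsg.thompsonSubgroupOf p T := by
    show Cfsg.thompsonSubgroupOf p (S : Subgroup G) = _
    rw [thompsonSubgroupOf_eq, thompsonSubgroupOf_eq]
    refine le_antisymm (sSup_le fun A hA => le_sSup (maxIn_of_mem_le hA (le_inf hA.1 (hall A hA)) inf_le_left))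
      (sSup_le fun A hA => le_sSup (hTS hA))
  refine normalizer_eq_top_iff.1 (top_le_iff.1 (hfr.ge.trans (sup_le ?_ hDW)))
  refine (normalizer_le_normalizer_thompsonSubgroupOf (p := p) T).trans ?_
  rw [← hJT]
  exact hNW

end Cfsg.Agent.PLocal
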