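import Cfsg.Agent.Lib.PLocal.ZJ
import Cfsg.Agent.Lib.PLocal.ZJCenter

/-!
The ZJ-theorems for strongly closed subgroups (namespace `Cfsg.Agent.PLocal`).

The proofs are those of `zj_normal` and `zjCenter_normal`: a normal closure of elements of `D` inside the
Sylow subgroup lies in `D`, and a normaliser of `S ∩ L` normalises `D ∩ L`.

* `zj_normal_closed`, `zjCenter_normal_closed`
* `sylow_le_normalizer_of_closed`, `normalizer_inf_le_of_closed`, `normalClosure_le_of_closed`
-/

namespace Cfsg.Agent.PLocal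

open scoped commutatorElement

variable {G : Type*} [Group G]

theorem sylow_le_normalizer_of_closed {S D : Subgroup G} (hD : Cfsg.IsStronglyClosed D S) :
    S ≤ Subgroup.normalizer (D : Set G) := by
  refine Subgroup.le_normalizer_iff.2 fun g hg x hx => ?_
  exact hD.2 x hx g (S.mul_mem (S.mul_mem hg (hD.1 hx)) (S.inv_mem hg))

theorem normalizer_inf_le_of_closed {S D L : Subgroup G} (hD : Cfsg.IsStronglyClosed D S) :
    Subgroup.normalizer ((S ⊓ L : Subgroup G) : Set G) ≤ Subgroup.normalizer ((D ⊓ L : Subgroup G) : Set G) := by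
  refine Subgroup.le_normalizer_iff.2 fun g hg x hx => ?_
  have h : g * x * g⁻¹ ∈ S ⊓ L := conj_mem hg ⟨hD.1 hx.1, hx.2⟩
  exact ⟨hD.2 x hx.1 g h.1, h.2⟩

theorem normalClosure_le_of_closed {S D X : Subgroup G} (hD : Cfsg.IsStronglyClosed D S) (hX : X ≤ D)
    (hS : Subgroup.normalClosure (X : Set G) ≤ S) : Subgroup.normalClosure (X : Set G) ≤ D := by
  refine (Subgroup.closure_le _).2 fun x hx => ?_
  obtain ⟨z, hz, hconj⟩ := Group.mem_conjugatesOfSet_iff.1 hx
  obtain ⟨g, rfl⟩ := isConj_iff.1 hconj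
  exact hD.2 z (hX hz) g (hS (Subgroup.subset_closure hx))

/-- **Glauberman's ZJ-theorem** for a strongly closed subgroup, for either Thompson subgroup. -/
theorem zj_normal_closed [Finite G] {p : ℕ} [Fact p.Prime] (hp : p ≠ 2) {Q : Subgroup G → Prop} (hQ : GoodClass Q)
    (hc : Subgroup.centralizer (Cfsg.pCore p G : Set G) ≤ Cfsg.pCore p G)
    (hst : ∀ (P : Subgroup G) [P.Normal], IsPGroup p P → Cfsg.IsPStableOn p P) (S : Sylow p G) {D₀ : Subgroup G} (hD : Cfsg.IsStronglyClosed D₀ (S : Subgroup G)) :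
    (sInf (maxIn Q D₀)).Normal := by
  set Z := sInf (maxIn Q D₀)
  obtain ⟨A₀, hA₀⟩ := exists_maxIn hQ.bot D₀
  have hZA : ∀ A ∈ maxIn Q D₀, Z ≤ A := fun A hA => sInf_le hA
  have hAA : ∀ A : Subgroup G, Q A → A ≤ Subgroup.centralizer (A : Set G) := fun A hA =>
    Subgroup.le_centralizer_iff_isMulCommutative.2 (hQ.abel A hA)
  have hZab : Z ≤ Subgroup.centralizer (Z : Set G) :=
    (hZA _ hA₀).trans ((hAA _ hA₀.2.1).trans (Subgroup.centralizer_le (hZA _ hA₀)))
  have hSZ : (S : Subgroup G) ≤ Subgroup.normalizer (Z : Set G) :=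
    (sylow_le_normalizer_of_closed hD).trans (hQ.normalizer_le_normalizer_sInf _)
  have hPS : Cfsg.pCore p G ≤ (S : Subgroup G) := Cores.pCore_le_sylow S
  have hZP : Z ≤ Cfsg.pCore p G := by
    intro a ha
    set P := Cfsg.pCore p G
    have hCp : IsPGroup p ↥(QuotientGroup.mk' (Subgroup.centralizer (P : Set G))).ker := by
      rw [QuotientGroup.ker_mk']; exact (Cores.isPGroup_pCore p G).to_le hc
    refine Cores.comap_pCore_le _ hCp (hst P (Cores.isPGroup_pCore p G) a (le_bot_iff.1 ?_))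
    refine (Subgroup.commutator_mono (Subgroup.commutator_mono le_rfl (Subgroup.zpowers_le.2 ha))
      (Subgroup.zpowers_le.2 ha)).trans ?_
    refine (Subgroup.commutator_mono (?_ : ⁅P, Z⁆ ≤ Z) le_rfl).trans
      (Subgroup.commutator_eq_bot_iff_le_centralizer.2 hZab).le
    exact Subgroup.le_normalizer_iff_commutator_le_right.1 (hPS.trans hSZ)
  suffices main : ∀ B : Subgroup G, B.Normal → IsPGroup p B → (B ⊓ Z).Normal by
    have := main _ (Cores.pCore_normal p G) (Cores.isPGroup_pCore p G)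
    rwa [inf_eq_right.2 hZP] at this
  intro B
  induction B using WellFoundedLT.induction with
  | ind B IH =>
  intro hBn hBp
  have hBS : B ≤ (S : Subgroup G) := (Cores.le_pCore hBn hBp).trans hPS
  set B₁ := Subgroup.normalClosure ((B ⊓ Z : Subgroup G) : Set G)
  haveI : B₁.Normal := Subgroup.normalClosure_normal
  have hB₁ : B₁ ≤ B := Subgroup.normalClosure_le_normal inf_le_left
  rcases hB₁.lt_or_eq with hlt | heq
  · have := IH B₁ hlt inferInstance (hBp.to_le hB₁)
    rwa [show B₁ ⊓ Z = B ⊓ Z from le_antisymm (inf_le_inf_right _ hB₁)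
      (le_inf Subgroup.le_normalClosure inf_le_right)] at this
  rcases eq_or_ne B ⊥ with hb | hb
  · rw [hb, bot_inf_eq]; infer_instance
  have hgen : ∀ K : Subgroup G, K.Normal → B ⊓ Z ≤ K → B ≤ K := fun K hK hle =>
    heq.ge.trans (Subgroup.normalClosure_le_normal hle)
  -- `[B, B] ≤ Z`
  set B' : Subgroup G := ⁅B, B⁆
  have hB'lt : B' < B := by
    refine lt_of_le_of_ne (Subgroup.commutator_le_self B) fun e => hb ?_
    haveI : Group.IsNilpotent B := hBp.isNilpotent
    obtain ⟨n, hn⟩ := (Subgroup.isNilpotent_iff_lowerCentralSeries B).1 inferInstance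
    have hall : ∀ k, B.lowerCentralSeries k = B := by
      intro k; induction k with
      | zero => rfl
      | succ k ih => rw [Subgroup.lowerCentralSeries_succ, ih]; exact e
    exact (hall n).symm.trans hn
  haveI hM : (B' ⊓ Z).Normal := IH B' hB'lt inferInstance (hBp.to_le hB'lt.le)
  have hB'Z : B' ≤ Z := by
    set M := B' ⊓ Z
    set K := (Subgroup.centralizer ((B.map (QuotientGroup.mk' M) : Subgroup (G ⧸ M)) : Set (G ⧸ M))).comap
      (QuotientGroup.mk' M)
    haveI hKn : K.Normal := by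
      haveI := hBn.map (QuotientGroup.mk' M) (QuotientGroup.mk'_surjective M)
      exact Subgroup.Normal.comap inferInstance _
    have hle : B ⊓ Z ≤ K := by
      intro x hx
      refine Subgroup.mem_comap.2 (Subgroup.mem_centralizer_iff.2 ?_)
      rintro _ ⟨y, hy, rfl⟩
      have hm : ⁅x, y⁆ ∈ M := ⟨Subgroup.commutator_mem_commutator hx.1 hy, by
        have h1 : x * y * x⁻¹ * y⁻¹ = x * (y * x⁻¹ * y⁻¹) := by group
        rw [commutatorElement_def, h1]
        exact Z.mul_mem hx.2 (conj_mem (hSZ (hBS hy)) (Z.inv_mem hx.2))⟩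
      have h2 : QuotientGroup.mk' M ⁅x, y⁆ = 1 := (QuotientGroup.eq_one_iff _).2 hm
      rw [map_commutatorElement, commutatorElement_eq_one_iff_commute] at h2
      exact h2.eq.symm
    have hBK := hgen K hKn hle
    refine (Subgroup.commutator_le.2 fun x hx y hy => ?_).trans (inf_le_right : M ≤ Z)
    have h2 : QuotientGroup.mk' M ⁅x, y⁆ = 1 := by
      rw [map_commutatorElement, commutatorElement_eq_one_iff_commute]
      exact (Subgroup.mem_centralizer_iff.1 (hBK hx) _ ⟨y, hy, rfl⟩).symm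
    exact (QuotientGroup.eq_one_iff _).1 h2
  have hBD : B ≤ D₀ := heq.ge.trans (normalClosure_le_of_closed hD (inf_le_right.trans ((hZA _ hA₀).trans hA₀.1))
    (heq.le.trans hBS))
  -- the subgroup `L`
  set BZ := B ⊓ Z
  set L := (Subgroup.normalizer (BZ : Set G)).normalCore
  have hLle : L ≤ Subgroup.normalizer (BZ : Set G) := Subgroup.normalCore_le _
  have hSBZ : (S : Subgroup G) ≤ Subgroup.normalizer (BZ : Set G) := fun g hg =>
    Subgroup.mem_normalizer_iff.2 fun x => and_congr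
      (Subgroup.mem_normalizer_iff.1 (Subgroup.le_normalizer_of_normal (H := B) (K := ⊤) (Subgroup.mem_top g)) x)
      (Subgroup.mem_normalizer_iff.1 (hSZ hg) x)
  have hclaim : ∀ A ∈ maxIn Q D₀, B ≤ Subgroup.normalizer (A : Set G) → A ≤ L := by
    intro A hA hBA a ha
    set C := Subgroup.centralizer (B : Set G)
    have hq : ⁅⁅B, Subgroup.zpowers a⁆, Subgroup.zpowers a⁆ = ⊥ := by
      refine le_bot_iff.1 ((Subgroup.commutator_mono (Subgroup.commutator_mono le_rfl (Subgroup.zpowers_le.2 ha))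
        (Subgroup.zpowers_le.2 ha)).trans ?_)
      exact (Subgroup.commutator_mono (Subgroup.le_normalizer_iff_commutator_le_right.1 hBA) le_rfl).trans
        (Subgroup.commutator_eq_bot_iff_le_centralizer.2 (hAA A hA.2.1)).le
    set D := (Cfsg.pCore p (G ⧸ C)).comap (QuotientGroup.mk' C)
    haveI : D.Normal := Subgroup.Normal.comap (Cores.pCore_normal p _) _
    have hDle : D ≤ Subgroup.normalizer (BZ : Set G) := by
      intro d hd
      obtain ⟨s, hs, hsd⟩ :=
        Cores.pCore_le_sylow (S.mapSurjective (QuotientGroup.mk'_surjective C)) hd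
      have hcC : s⁻¹ * d ∈ C := QuotientGroup.eq.1 hsd
      have := Subgroup.mul_mem _ (hSBZ hs)
        (Subgroup.centralizer_le_normalizer _ (Subgroup.centralizer_le (s := (BZ : Set G)) (t := B) inf_le_left hcC))
      simpa using this
    exact (Subgroup.normal_le_normalCore.2 hDle) (hst B hBp a hq)
  set T := D₀ ⊓ L
  obtain ⟨A₁, hA₁, hA₁max⟩ := Set.exists_max_image (maxIn Q D₀)
    (fun A : Subgroup G => Nat.card ↥(A ⊓ B)) (Set.toFinite _) ⟨A₀, hA₀⟩
  have hder : ∀ A ∈ maxIn Q D₀, B' ≤ A := fun A hA => hB'Z.trans (hZA A hA)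
  have hrep : ∀ A ∈ maxIn Q D₀, ¬ B ≤ Subgroup.normalizer (A : Set G) →
      ∃ A' ∈ maxIn Q D₀, A ⊓ B < A' ⊓ B ∧ ¬ B ≤ A' := by
    intro A hA hnot
    obtain ⟨A', hA'S, hab, hcard, hexp, -, hlt, hnB, -⟩ := exists_replacement hp (S.isPGroup'.to_le hD.1) hA.1 hBD
      (Subgroup.le_normalizer_of_normal) (hQ.abel A hA.2.1) (hder A hA) hnot
    exact ⟨A', ⟨hA'S, hQ.replace_mem A A' hA.2.1 hab hexp, fun C hC hQC => hcard ▸ hA.2.2 C hC hQC⟩, hlt, hnB⟩
  have hA₁L : A₁ ≤ L := hclaim A₁ hA₁ (by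
    by_contra hnot
    obtain ⟨A', hA', hlt, -⟩ := hrep A₁ hA₁ hnot
    exact hlt.ne (eq_of_le_of_card_le hlt.le (hA₁max A' hA')))
  have hTS : maxIn Q T ⊆ maxIn Q D₀ := maxIn_subset hA₁ (le_inf hA₁.1 hA₁L) inf_le_left
  set Z₁ := sInf (maxIn Q T)
  have hZZ₁ : Z ≤ Z₁ := sInf_le_sInf hTS
  have hBZ₁ : B ≤ Z₁ := by
    let P : Sylow p L := (S.isPGroup'.comap_subtype (K := L)).toSylow fun hd =>
      S.not_dvd_index (hd.trans (Cores.relIndex_dvd_index_of_normal_right _ L))
    have hP : (P : Subgroup L).map L.subtype = (S : Subgroup G) ⊓ L := Subgroup.subgroupOf_map_subtype _ _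
    have hfr := Sylow.normalizer_sup_eq_top P
    rw [hP] at hfr
    refine heq.ge.trans ((Subgroup.closure_le _).2 ?_)
    intro x hx
    obtain ⟨z, hz, hconj⟩ := Group.mem_conjugatesOfSet_iff.1 hx
    obtain ⟨g, rfl⟩ := isConj_iff.1 hconj
    obtain ⟨n, hn, l, hl, rfl⟩ := Subgroup.mem_sup_of_normal_right.1 (hfr.symm ▸ Subgroup.mem_top g)
    have h1 : l * z * l⁻¹ ∈ BZ := conj_mem (hLle hl) hz
    have h2 := conj_mem (hQ.normalizer_le_normalizer_sInf T (normalizer_inf_le_of_closed hD hn)) (hZZ₁ h1.2)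
    have e : n * l * z * (n * l)⁻¹ = n * (l * z * l⁻¹) * n⁻¹ := by group
    rw [SetLike.mem_coe, e]
    exact h2
  by_cases hall : ∀ A ∈ maxIn Q D₀, A ≤ L
  · have hZe : Z₁ ≤ Z :=
      le_sInf fun A hA => sInf_le (maxIn_of_mem_le hA (le_inf hA.1 (hall A hA)) inf_le_left)
    rw [show BZ = B from inf_eq_left.2 (hBZ₁.trans hZe)]
    exact hBn
  · simp only [not_forall] at hall
    obtain ⟨A₂', hA₂', hn₂'⟩ := hall
    obtain ⟨A₂, ⟨hA₂, hnL⟩, hmax⟩ := Set.exists_max_image {A | A ∈ maxIn Q D₀ ∧ ¬ A ≤ L}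
      (fun A : Subgroup G => Nat.card ↥(A ⊓ B)) (Set.toFinite _) ⟨A₂', hA₂', hn₂'⟩
    obtain ⟨A', hA', hlt, hnB⟩ := hrep A₂ hA₂ fun h => hnL (hclaim A₂ hA₂ h)
    have hA'L : A' ≤ L := by
      by_contra h
      exact hlt.ne (eq_of_le_of_card_le hlt.le (hmax A' ⟨hA', h⟩))
    exact absurd (hBZ₁.trans (sInf_le (maxIn_of_mem_le hA' (le_inf hA'.1 hA'L) inf_le_left))) hnB

/-- **ZJ-theorem for `Z(J(D))`**, `D` strongly closed, `J` the elementary abelian Thompson subgroup. -/
theorem zjCenter_normal_closed [Finite G] {p : ℕ} [Fact p.Prime] (hp : p ≠ 2)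
    (hc : Subgroup.centralizer (Cfsg.pCore p G : Set G) ≤ Cfsg.pCore p G)
    (hst : ∀ (P : Subgroup G) [P.Normal], IsPGroup p P → Cfsg.IsPStableOn p P) (S : Sylow p G) {D₀ : Subgroup G} (hD : Cfsg.IsStronglyClosed D₀ (S : Subgroup G)) :
    (Cfsg.centerThompsonOf p D₀).Normal := by
  set Q : Subgroup G → Prop := elemAb p
  have hQ : GoodClass Q := goodClass_elemAb p
  set Z := Cfsg.centerThompsonOf p D₀
  set J := Cfsg.thompsonSubgroupOf p D₀
  obtain ⟨A₀, hA₀⟩ := exists_maxIn hQ.bot D₀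
  have hJeq : J = sSup (maxIn Q D₀) := thompsonSubgroupOf_eq _
  have hAJ : ∀ A ∈ maxIn Q D₀, A ≤ J := fun A hA => hJeq.symm ▸ le_sSup hA
  have hZc : Z ≤ Subgroup.centralizer (J : Set G) := inf_le_right
  have hZJ : Z ≤ J := inf_le_left
  have hAA : ∀ A : Subgroup G, Q A → A ≤ Subgroup.centralizer (A : Set G) := fun A hA =>
    Subgroup.le_centralizer_iff_isMulCommutative.2 (hQ.abel A hA)
  have hZab : Z ≤ Subgroup.centralizer (Z : Set G) := hZc.trans (Subgroup.centralizer_le hZJ)
  have hSZ : (S : Subgroup G) ≤ Subgroup.normalizer (Z : Set G) :=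
    (sylow_le_normalizer_of_closed hD).trans ((normalizer_le_normalizer_thompsonSubgroupOf _).trans
      (fun g hg => Subgroup.mem_normalizer_iff.2 fun x => and_congr (Subgroup.mem_normalizer_iff.1 hg x)
        (Subgroup.mem_normalizer_iff.1 (normalizer_le_normalizer_centralizer _ hg) x)))
  have hPS : Cfsg.pCore p G ≤ (S : Subgroup G) := Cores.pCore_le_sylow S
  have hZP : Z ≤ Cfsg.pCore p G := by
    intro a ha
    set P := Cfsg.pCore p G
    have hCp : IsPGroup p ↥(QuotientGroup.mk' (Subgroup.centralizer (P : Set G))).ker := by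
      rw [QuotientGroup.ker_mk']; exact (Cores.isPGroup_pCore p G).to_le hc
    refine Cores.comap_pCore_le _ hCp (hst P (Cores.isPGroup_pCore p G) a (le_bot_iff.1 ?_))
    refine (Subgroup.commutator_mono (Subgroup.commutator_mono le_rfl (Subgroup.zpowers_le.2 ha))
      (Subgroup.zpowers_le.2 ha)).trans ?_
    refine (Subgroup.commutator_mono (?_ : ⁅P, Z⁆ ≤ Z) le_rfl).trans
      (Subgroup.commutator_eq_bot_iff_le_centralizer.2 hZab).le
    exact Subgroup.le_normalizer_iff_commutator_le_right.1 (hPS.trans hSZ)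
  suffices main : ∀ B : Subgroup G, B.Normal → IsPGroup p B → (B ⊓ Z).Normal by
    have := main _ (Cores.pCore_normal p G) (Cores.isPGroup_pCore p G)
    rwa [inf_eq_right.2 hZP] at this
  intro B
  induction B using WellFoundedLT.induction with
  | ind B IH =>
  intro hBn hBp
  have hBS : B ≤ (S : Subgroup G) := (Cores.le_pCore hBn hBp).trans hPS
  set B₁ := Subgroup.normalClosure ((B ⊓ Z : Subgroup G) : Set G)
  haveI : B₁.Normal := Subgroup.normalClosure_normal
  have hB₁ : B₁ ≤ B := Subgroup.normalClosure_le_normal inf_le_left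
  rcases hB₁.lt_or_eq with hlt | heq
  · have := IH B₁ hlt inferInstance (hBp.to_le hB₁)
    rwa [show B₁ ⊓ Z = B ⊓ Z from le_antisymm (inf_le_inf_right _ hB₁)
      (le_inf Subgroup.le_normalClosure inf_le_right)] at this
  rcases eq_or_ne B ⊥ with hb | hb
  · rw [hb, bot_inf_eq]; infer_instance
  have hgen : ∀ K : Subgroup G, K.Normal → B ⊓ Z ≤ K → B ≤ K := fun K hK hle =>
    heq.ge.trans (Subgroup.normalClosure_le_normal hle)
  -- `[B, B] ≤ Z`
  set B' : Subgroup G := ⁅B, B⁆
  have hB'lt : B' < B := by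
    refine lt_of_le_of_ne (Subgroup.commutator_le_self B) fun e => hb ?_
    haveI : Group.IsNilpotent B := hBp.isNilpotent
    obtain ⟨n, hn⟩ := (Subgroup.isNilpotent_iff_lowerCentralSeries B).1 inferInstance
    have hall : ∀ k, B.lowerCentralSeries k = B := by
      intro k; induction k with
      | zero => rfl
      | succ k ih => rw [Subgroup.lowerCentralSeries_succ, ih]; exact e
    exact (hall n).symm.trans hn
  haveI hM : (B' ⊓ Z).Normal := IH B' hB'lt inferInstance (hBp.to_le hB'lt.le)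
  have hB'Z : B' ≤ Z := by
    set M := B' ⊓ Z
    set K := (Subgroup.centralizer ((B.map (QuotientGroup.mk' M) : Subgroup (G ⧸ M)) : Set (G ⧸ M))).comap
      (QuotientGroup.mk' M)
    haveI hKn : K.Normal := by
      haveI := hBn.map (QuotientGroup.mk' M) (QuotientGroup.mk'_surjective M)
      exact Subgroup.Normal.comap inferInstance _
    have hle : B ⊓ Z ≤ K := by
      intro x hx
      refine Subgroup.mem_comap.2 (Subgroup.mem_centralizer_iff.2 ?_)
      rintro _ ⟨y, hy, rfl⟩
      have hm : ⁅x, y⁆ ∈ M := ⟨Subgroup.commutator_mem_commutator hx.1 hy, by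
        have h1 : x * y * x⁻¹ * y⁻¹ = x * (y * x⁻¹ * y⁻¹) := by group
        rw [commutatorElement_def, h1]
        exact Z.mul_mem hx.2 (conj_mem (hSZ (hBS hy)) (Z.inv_mem hx.2))⟩
      have h2 : QuotientGroup.mk' M ⁅x, y⁆ = 1 := (QuotientGroup.eq_one_iff _).2 hm
      rw [map_commutatorElement, commutatorElement_eq_one_iff_commute] at h2
      exact h2.eq.symm
    have hBK := hgen K hKn hle
    refine (Subgroup.commutator_le.2 fun x hx y hy => ?_).trans (inf_le_right : M ≤ Z)
    have h2 : QuotientGroup.mk' M ⁅x, y⁆ = 1 := by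
      rw [map_commutatorElement, commutatorElement_eq_one_iff_commute]
      exact (Subgroup.mem_centralizer_iff.1 (hBK hx) _ ⟨y, hy, rfl⟩).symm
    exact (QuotientGroup.eq_one_iff _).1 h2
  -- `B` has class two; `R` is its subgroup of elements of order `p`
  have hBB' : B ≤ Subgroup.centralizer (B' : Set G) := by
    haveI : (Subgroup.centralizer (B' : Set G)).Normal := Subgroup.normalizer_eq_top_iff.1 (top_le_iff.1
      ((Subgroup.normalizer_eq_top_iff.2 inferInstance).ge.trans (normalizer_le_normalizer_centralizer B')))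
    exact hgen _ inferInstance (inf_le_right.trans (hZab.trans (Subgroup.centralizer_le hB'Z)))
  set R := Cfsg.omegaOne p B
  have hRB : R ≤ B := omegaOne_le B
  haveI : R.Normal := by
    refine Subgroup.normalizer_eq_top_iff.1 (top_le_iff.1 fun g _ => ?_)
    rw [mem_normalizer_iff_map_eq, map_omegaOne _ (MulAut.conj g).injective.injOn,
      mem_normalizer_iff_map_eq.1 (Subgroup.le_normalizer_of_normal (K := ⊤) (Subgroup.mem_top g))]
  have hRexp : ∀ x ∈ R, x ^ p = 1 := by
    intro x hx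
    rw [show R = Subgroup.closure {y : G | y ∈ B ∧ y ^ p = 1} from rfl] at hx
    induction hx using Subgroup.closure_induction with
    | mem y hy => exact hy.2
    | one => exact one_pow p
    | inv y _ ih => rw [inv_pow, ih, inv_one]
    | mul y z hy hz ihy ihz =>
      have hyB : y ∈ B := hRB hy
      have hzB : z ∈ B := hRB hz
      set c := ⁅z, y⁆
      have hc' : c ∈ B' := Subgroup.commutator_mem_commutator hzB hyB
      have cy : Commute c y := Subgroup.mem_centralizer_iff.1 (hBB' hyB) c hc'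
      have cz : Commute c z := Subgroup.mem_centralizer_iff.1 (hBB' hzB) c hc'
      have hcp : c ^ p = 1 := by
        have h1 : z ^ p * y * (z ^ p)⁻¹ = c ^ p * y := conj_pow_eq rfl cz.eq.symm p
        rw [ihz, one_mul, inv_one, mul_one, right_eq_mul] at h1
        exact h1
      have hzy : ∀ n, z ^ n * y = y * z ^ n * c ^ n := by
        intro n
        induction n with
        | zero => simp
        | succ n ih =>
          have h1 : z * y = y * z * c := by
            calc z * y = c * (y * z) := by simp only [c, commutatorElement_def]; group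
              _ = _ := (cy.mul_right cz).eq
          calc z ^ (n + 1) * y = z ^ n * (z * y) := by rw [pow_succ]; group
            _ = (z ^ n * y) * z * c := by rw [h1]; group
            _ = y * z ^ n * (c ^ n * z) * c := by rw [ih]; group
            _ = _ := by rw [(cz.pow_left n).eq, pow_succ, pow_succ]; group
      have hpow : ∀ n, (y * z) ^ n = y ^ n * z ^ n * c ^ (n.choose 2) := by
        intro n
        induction n with
        | zero => simp
        | succ n ih =>
          have hc2 : Commute (c ^ n.choose 2) (y * z) := (cy.pow_left _).mul_right (cz.pow_left _)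
          calc (y * z) ^ (n + 1) = y ^ n * z ^ n * (c ^ n.choose 2 * (y * z)) := by rw [pow_succ, ih]; group
            _ = y ^ n * (z ^ n * y) * z * c ^ n.choose 2 := by rw [hc2.eq]; group
            _ = y ^ n * y * z ^ n * (c ^ n * z) * c ^ n.choose 2 := by rw [hzy]; group
            _ = _ := by
              rw [(cz.pow_left n).eq, Nat.choose_succ_succ, Nat.choose_one_right, pow_add, pow_succ, pow_succ]
              group
      obtain ⟨m, hm⟩ := (Fact.out : p.Prime).dvd_choose_self (k := 2) (by decide)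
        (lt_of_le_of_ne (Fact.out : p.Prime).two_le (Ne.symm hp))
      rw [hpow, ihy, ihz, one_mul, one_mul, hm, pow_mul, hcp, one_pow]
  -- the subgroup `L`
  set BZ := B ⊓ Z
  set L := (Subgroup.normalizer (BZ : Set G)).normalCore
  have hLle : L ≤ Subgroup.normalizer (BZ : Set G) := Subgroup.normalCore_le _
  have hSBZ : (S : Subgroup G) ≤ Subgroup.normalizer (BZ : Set G) := fun g hg =>
    Subgroup.mem_normalizer_iff.2 fun x => and_congr
      (Subgroup.mem_normalizer_iff.1 (Subgroup.le_normalizer_of_normal (H := B) (K := ⊤) (Subgroup.mem_top g)) x)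
      (Subgroup.mem_normalizer_iff.1 (hSZ hg) x)
  have hclaim : ∀ A ∈ maxIn Q D₀, R ≤ Subgroup.normalizer (A : Set G) → A ≤ L := by
    intro A hA hRA a ha
    set C := Subgroup.centralizer (B : Set G)
    set CR := Subgroup.centralizer (R : Set G)
    have hq : ⁅⁅R, Subgroup.zpowers a⁆, Subgroup.zpowers a⁆ = ⊥ := by
      refine le_bot_iff.1 ((Subgroup.commutator_mono (Subgroup.commutator_mono le_rfl (Subgroup.zpowers_le.2 ha))
        (Subgroup.zpowers_le.2 ha)).trans ?_)
      exact (Subgroup.commutator_mono (Subgroup.le_normalizer_iff_commutator_le_right.1 hRA) le_rfl).trans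
        (Subgroup.commutator_eq_bot_iff_le_centralizer.2 (hAA A hA.2.1)).le
    set D := (Cfsg.pCore p (G ⧸ CR)).comap (QuotientGroup.mk' CR)
    haveI hDn : D.Normal := Subgroup.Normal.comap (Cores.pCore_normal p _) _
    have hDimg : D.map (QuotientGroup.mk' C) ≤ Cfsg.pCore p (G ⧸ C) := by
      refine Cores.le_pCore (hDn.map _ (QuotientGroup.mk'_surjective C)) ?_
      rintro ⟨_, d, hd, rfl⟩
      obtain ⟨j, hj⟩ := Cores.isPGroup_pCore p (G ⧸ CR) ⟨_, hd⟩
      have hdj : d ^ p ^ j ∈ CR := (QuotientGroup.eq_one_iff _).1 (congrArg Subtype.val hj)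
      obtain ⟨k, m, hm, hkm⟩ :=
        Nat.exists_eq_pow_mul_and_not_dvd (orderOf_pos (d ^ p ^ j)).ne' p (Fact.out : p.Prime).ne_one
      refine ⟨j + k, Subtype.ext ?_⟩
      show (QuotientGroup.mk' C d) ^ p ^ (j + k) = 1
      rw [← map_pow, pow_add, pow_mul]
      refine (QuotientGroup.eq_one_iff _).2 ?_
      set x := (d ^ p ^ j) ^ p ^ k
      have hco : (orderOf x).Coprime p := by
        rw [orderOf_pow, hkm, Nat.gcd_eq_right (dvd_mul_right _ _),
          Nat.mul_div_cancel_left _ (pow_pos (Fact.out : p.Prime).pos k)]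
        exact (((Fact.out : p.Prime).coprime_iff_not_dvd).2 hm).symm
      refine Coprime.le_centralizer_of_fixing_order_p p hp (A := Subgroup.zpowers x) hBp
        Subgroup.le_normalizer_of_normal (by rwa [Nat.card_zpowers]) (fun y hy hyo => ?_) (Subgroup.mem_zpowers x)
      have hyR : y ∈ R := mem_omegaOne hy (hyo ▸ pow_orderOf_eq_one y)
      exact Subgroup.zpowers_eq_closure x ▸ (Subgroup.centralizer_closure _).ge (Subgroup.mem_centralizer_iff.2
        fun z hz => by rw [Set.mem_singleton_iff.1 hz]; exact (Subgroup.mem_centralizer_iff.1 (CR.pow_mem hdj _) y hyR).symm)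
    have hDle : D ≤ Subgroup.normalizer (BZ : Set G) := by
      intro d hd
      obtain ⟨s, hs, hsd⟩ :=
        Cores.pCore_le_sylow (S.mapSurjective (QuotientGroup.mk'_surjective C)) (hDimg ⟨d, hd, rfl⟩)
      have hcC : s⁻¹ * d ∈ C := QuotientGroup.eq.1 hsd
      have := Subgroup.mul_mem _ (hSBZ hs)
        (Subgroup.centralizer_le_normalizer _ (Subgroup.centralizer_le (s := (BZ : Set G)) (t := B) inf_le_left hcC))
      simpa using this
    exact (Subgroup.normal_le_normalCore.2 hDle) (hst R (hBp.to_le hRB) a hq)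
  set T := D₀ ⊓ L
  have hBD : B ≤ D₀ := heq.ge.trans (normalClosure_le_of_closed hD (inf_le_right.trans (hZJ.trans (thompsonSubgroupOf_le _)))
    (heq.le.trans hBS))
  have hRS : R ≤ D₀ := hRB.trans hBD
  have hder : ∀ A ∈ maxIn Q D₀, ⁅R, R⁆ ≤ A := fun A hA x hx =>
    mem_of_centralizes hA ((Subgroup.commutator_le_self R).trans hRS hx) (hRexp x (Subgroup.commutator_le_self R hx))
      (Subgroup.centralizer_le (hAJ A hA) (hZc (hB'Z (Subgroup.commutator_mono hRB hRB hx))))
  obtain ⟨A₁, hA₁, hA₁max⟩ := Set.exists_max_image (maxIn Q D₀)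
    (fun A : Subgroup G => Nat.card ↥(A ⊓ R)) (Set.toFinite _) ⟨A₀, hA₀⟩
  have hrep : ∀ A ∈ maxIn Q D₀, ¬ R ≤ Subgroup.normalizer (A : Set G) →
      ∃ A' ∈ maxIn Q D₀, A ⊓ R < A' ⊓ R ∧ ¬ R ≤ A' := by
    intro A hA hnot
    obtain ⟨A', hA'S, hab, hcard, hexp, -, hlt, hnB, -⟩ := exists_replacement hp (S.isPGroup'.to_le hD.1) hA.1 hRS
      (Subgroup.le_normalizer_of_normal) (hQ.abel A hA.2.1) (hder A hA) hnot
    exact ⟨A', ⟨hA'S, hQ.replace_mem A A' hA.2.1 hab hexp, fun C hC hQC => hcard ▸ hA.2.2 C hC hQC⟩, hlt, hnB⟩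
  have hA₁L : A₁ ≤ L := hclaim A₁ hA₁ (by
    by_contra hnot
    obtain ⟨A', hA', hlt, -⟩ := hrep A₁ hA₁ hnot
    exact hlt.ne (eq_of_le_of_card_le hlt.le (hA₁max A' hA')))
  have hTS : maxIn Q T ⊆ maxIn Q D₀ := maxIn_subset hA₁ (le_inf hA₁.1 hA₁L) inf_le_left
  set J₁ := Cfsg.thompsonSubgroupOf p T
  have hJ₁eq : J₁ = sSup (maxIn Q T) := thompsonSubgroupOf_eq _
  have hJ₁J : J₁ ≤ J := by rw [hJ₁eq, hJeq]; exact sSup_le_sSup hTS
  let P : Sylow p L := (S.isPGroup'.comap_subtype (K := L)).toSylow fun hd =>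
    S.not_dvd_index (hd.trans (Cores.relIndex_dvd_index_of_normal_right _ L))
  have hP : (P : Subgroup L).map L.subtype = (S : Subgroup G) ⊓ L := Subgroup.subgroupOf_map_subtype _ _
  have hfr := Sylow.normalizer_sup_eq_top P
  rw [hP] at hfr
  have hconj : ∀ K : Subgroup G, Z ≤ K → Subgroup.normalizer (T : Set G) ≤ Subgroup.normalizer (K : Set G) →
      B ≤ K := by
    intro K hZK hNK
    refine heq.ge.trans ((Subgroup.closure_le _).2 ?_)
    intro x hx
    obtain ⟨z, hz, hconj⟩ := Group.mem_conjugatesOfSet_iff.1 hx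
    obtain ⟨g, rfl⟩ := isConj_iff.1 hconj
    obtain ⟨n, hn, l, hl, rfl⟩ := Subgroup.mem_sup_of_normal_right.1 (hfr.symm ▸ Subgroup.mem_top g)
    have h2 := conj_mem (hNK (normalizer_inf_le_of_closed hD hn)) (hZK (conj_mem (hLle hl) hz).2)
    have e : n * l * z * (n * l)⁻¹ = n * (l * z * l⁻¹) * n⁻¹ := by group
    rw [SetLike.mem_coe, e]
    exact h2
  have hBJ₁ : B ≤ Subgroup.centralizer (J₁ : Set G) := hconj _ (hZc.trans (Subgroup.centralizer_le hJ₁J))
    ((normalizer_le_normalizer_thompsonSubgroupOf T).trans (normalizer_le_normalizer_centralizer _))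
  by_cases hall : ∀ A ∈ maxIn Q D₀, A ≤ L
  · have hJe : J₁ = J := le_antisymm hJ₁J (by
      rw [hJeq, hJ₁eq]
      exact sSup_le fun A hA => le_sSup (maxIn_of_mem_le hA (le_inf hA.1 (hall A hA)) inf_le_left))
    have hNT : Subgroup.normalizer (T : Set G) ≤ Subgroup.normalizer (Z : Set G) := fun g hg => by
      have hgJ : g ∈ Subgroup.normalizer (J : Set G) := hJe ▸ normalizer_le_normalizer_thompsonSubgroupOf T hg
      exact Subgroup.mem_normalizer_iff.2 fun x => and_congr (Subgroup.mem_normalizer_iff.1 hgJ x)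
        (Subgroup.mem_normalizer_iff.1 (normalizer_le_normalizer_centralizer _ hgJ) x)
    rw [show BZ = B from inf_eq_left.2 (hconj Z le_rfl hNT)]
    exact hBn
  · simp only [not_forall] at hall
    obtain ⟨A₂', hA₂', hn₂'⟩ := hall
    obtain ⟨A₂, ⟨hA₂, hnL⟩, hmax⟩ := Set.exists_max_image {A | A ∈ maxIn Q D₀ ∧ ¬ A ≤ L}
      (fun A : Subgroup G => Nat.card ↥(A ⊓ R)) (Set.toFinite _) ⟨A₂', hA₂', hn₂'⟩
    obtain ⟨A', hA', hlt, hnB⟩ := hrep A₂ hA₂ fun h => hnL (hclaim A₂ hA₂ h)
    have hA'L : A' ≤ L := by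
      by_contra h
      exact hlt.ne (eq_of_le_of_card_le hlt.le (hmax A' ⟨hA', h⟩))
    refine absurd (fun r hr => mem_of_centralizes hA' (hRS hr) (hRexp r hr) ?_) hnB
    exact Subgroup.centralizer_le (SetLike.coe_subset_coe.2 (hJ₁eq.symm ▸
      le_sSup (maxIn_of_mem_le hA' (le_inf hA'.1 hA'L) inf_le_left))) (hBJ₁ (hRB hr))

end Cfsg.Agent.PLocal
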